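import Cfsg.Agent.Cit.Four.Cor
import Cfsg.Agent.Cit.CorOf
import Cfsg.Agent.Cit.CloseMain
import Cfsg.Agent.Cit.CovES
import Cfsg.Agent.Cit.ExLocal
import Cfsg.Agent.Cit.TypeDet.Group

/-!
# The cores for `|Om(S)| ≥ 5` and `|E(S)| ≥ 8`

* `closeE` : `CloseE Om` from `CloseMain.close`;
* `CorFive` : the statement for `|E(S)| = 4`, `|Om(S)| ≥ 5` (helper730, helper463);
* `corB_of` : `CorB Om S` if `|E(S)| ≥ 8` or `|E(S)| = 4`, `|Om(S)| ≥ 5`;
* `MinS.lb_of_corB`, `MinS.cor2_of_corB` : helper61's `LB Om` and (C) at `z_K z_L`;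
* `MinS.core_of_corB`, `MinS.corG_of_corB`, `MinS.corG_mul_of_corB` : `O(K) = 1` for all members, `CorG Om C(z_K)` and
  `CorG Om C(z_K z_L)`.
-/

set_option autoImplicit false
set_option linter.style.haveILetI false
set_option linter.unusedSectionVars false

namespace Cfsg.Agent.Cit.Four

open Subgroup Cfsg Cfsg.Agent.Cit SubCent UseT CoresG CoresCore PieceG CovES
open scoped commutatorElement

universe u

variable {G : Type u} [Group G] [Finite G] {Om : Set (Subgroup G)} {K L : Subgroup G}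

/-! ### `|E(S)|` -/

theorem card_ES_eq (h : Hyp Om) (S T : Sylow 2 G) :
    Nat.card (ES Om (S : Subgroup G)) = Nat.card (ES Om (T : Subgroup G)) := Close.card_ES h S T

/-- `|E(S)|` is a power of 2 -/
theorem card_ES_pow (h : Hyp Om) {S : Subgroup G} (hS : IsPGroup 2 S) : ∃ k, Nat.card (ES Om S) = 2 ^ k := by
  haveI : Fact (Nat.Prime 2) := ⟨Nat.prime_two⟩
  exact (IsPGroup.iff_card.1 (hS.to_le (ES_le h hS)))

theorem card_ES_cases (h : Hyp Om) {S : Subgroup G} (hS : IsPGroup 2 S) (h4 : 4 ≤ Nat.card (ES Om S)) :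
    Nat.card (ES Om S) = 4 ∨ 8 ≤ Nat.card (ES Om S) := by
  obtain ⟨k, hk⟩ := card_ES_pow h hS
  rw [hk] at h4 ⊢
  rcases Nat.lt_or_ge k 3 with h1 | h1
  · interval_cases k <;> omega
  · right
    calc 8 = 2 ^ 3 := by norm_num
      _ ≤ 2 ^ k := Nat.pow_le_pow_right (by norm_num) h1

/-! ### THEOREM CLOSE -/

theorem closeE (hSw : CloseMain.SwStmt.{u}) (hE : GenChart.ExcTrip.{u}) (hTw : CloseMain.TwinStmt.{u})
    (hKF : CloseMain.KFStmt.{u}) (ms : MinS Om) (hB : CloEnd.Bend G) (h74 : CloEnd.Crit1174 G)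
    (h75 : CloEnd.Crit1175 G) {S₀ : Sylow 2 G} (h4 : 4 ≤ Nat.card (ES Om (S₀ : Subgroup G))) : CloseE Om := by
  intro S M hN hC
  exact CloseMain.close hSw hE hTw hKF ms hB h74 h75 S (by rw [card_ES_eq ms.hyp S S₀]; exact h4) hN hC

/-! ### The cores -/

/-- the cores for `|E(S)| = 4`, `|Om(S)| ≥ 5` -/
def CorFive : Prop :=
  ∀ (G : Type u) [Group G] [Finite G] (Om : Set (Subgroup G)), MinS Om → CloseE Om →
    ∀ S : Sylow 2 G, Nat.card (ES Om (S : Subgroup G)) = 4 → 5 ≤ (OmS Om (S : Subgroup G)).ncard →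
    Cor4 Om (S : Subgroup G)

/-- **the cores**, `|E(S)| ≥ 8` or `|Om(S)| ≥ 5` -/
theorem corB_of (hodd : OddStmt.{u}) (hfix : FixStmt.{u}) (hct : CTStmt.{u}) (h5 : CorFive.{u}) (ms : MinS Om)
    (hcl : CloseE Om) (S : Sylow 2 G) (h : 8 ≤ Nat.card (ES Om (S : Subgroup G)) ∨
      (4 ≤ Nat.card (ES Om (S : Subgroup G)) ∧ 5 ≤ (OmS Om (S : Subgroup G)).ncard)) :
    CorB Om (S : Subgroup G) := by
  have key : 8 ≤ Nat.card (ES Om (S : Subgroup G)) → CorB Om (S : Subgroup G) := fun h8 =>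
    (ms.corE_of_M hodd hfix hct S h8 (hcl S)).corB
  rcases h with h8 | ⟨h4, hn⟩
  · exact key h8
  rcases card_ES_cases ms.hyp S.isPGroup' h4 with h1 | h1
  · exact (h5 G Om ms hcl S h1 hn).corB h1
  · exact key h1

/-! ### Consequences -/

namespace CorB

/-- `CorG` for the centralisers of the involutions of `E(S)` -/
theorem corG (hm : MinS Om) (S : Sylow 2 G) (c : CorB Om (S : Subgroup G)) :
    ∀ s ∈ ES Om (S : Subgroup G), s ≠ 1 →
      (∀ K ∈ OmS Om (S : Subgroup G), K ≤ centralizer {s}) ∧ CorG Om (centralizer {s}) :=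
  hm.corG_of_cor S fun s hs hs1 K hK => by
    have h1 := c.comm s hs hs1 K hK
    rwa [commutator_comm, commutator_eq_bot_iff_le_centralizer] at h1

end CorB

/-- commuting members are in a common `Om(S)` -/
theorem exists_sylow_of_comm (_h : Hyp Om) (hK : K ∈ Om) (hL : L ∈ Om) (hc : K ≤ centralizer (L : Set G)) :
    ∃ S : Sylow 2 G, K ∈ OmS Om (S : Subgroup G) ∧ L ∈ OmS Om (S : Subgroup G) := by
  obtain ⟨Q, hQ⟩ := Hyp.exists_syl L
  have h1 : Q ≤ ck K := by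
    refine le_trans ?_ centralizer_le_ck
    intro q hq
    rw [mem_centralizer_iff]
    intro k hk
    exact ((mem_centralizer_iff.1 (hc hk)) q (hQ.1 hq)).symm
  obtain ⟨S, hS, hKS⟩ := exists_common hK hQ.2.1 h1
  exact ⟨S, hKS, mem_OmS_of_le hL hQ hS⟩

/-- **`O(K) = 1` for all members** -/
theorem _root_.Cfsg.Agent.Cit.MinS.core_of_corB (hm : MinS Om) (hodd : OddStmt.{u})
    (hE : ∀ S : Sylow 2 G, CorB Om (S : Subgroup G)) : ∀ K ∈ Om, OO K = ⊥ := by
  intro K hK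
  obtain ⟨S, hS⟩ := exists_mem_OmS hK
  exact (hE S).OO_eq_bot hodd hm.hyp S.isPGroup' hS (hm.ty K hK)

/-- **`CorG` for `C(z_K)`** -/
theorem _root_.Cfsg.Agent.Cit.MinS.corG_of_corB (hm : MinS Om)
    (hE : ∀ S : Sylow 2 G, CorB Om (S : Subgroup G)) : ∀ K ∈ Om, CorG Om (centralizer {zz K}) := by
  intro K hK
  obtain ⟨S, hS⟩ := exists_mem_OmS hK
  exact ((hE S).corG hm S (zz K) (zz_mem_ES hS) (hm.hyp.zz_ne hK)).2

/-- **`CorG` for `C(z_K z_L)`** -/
theorem _root_.Cfsg.Agent.Cit.MinS.corG_mul_of_corB (hm : MinS Om)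
    (hE : ∀ S : Sylow 2 G, CorB Om (S : Subgroup G)) : ∀ K ∈ Om, ∀ L ∈ Om, K ≤ centralizer (L : Set G) →
      zz K ≠ zz L → CorG Om (centralizer {zz K * zz L}) := by
  intro K hK L hL hc hne
  obtain ⟨S, hKS, hLS⟩ := exists_sylow_of_comm hm.hyp hK hL hc
  refine ((hE S).corG hm S _ (mul_mem (zz_mem_ES hKS) (zz_mem_ES hLS)) fun h1 => hne ?_).2
  calc zz K = zz K * (zz L * zz L) := by rw [hm.hyp.zz_mul hL, mul_one]
    _ = (zz K * zz L) * zz L := by group
    _ = zz L := by rw [h1, one_mul]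

/-- different members of `Om(S)` commute -/
theorem _root_.Cfsg.Agent.Cit.MinS.comm_of_corB (hm : MinS Om) (hodd : OddStmt.{u})
    (hE : ∀ S : Sylow 2 G, CorB Om (S : Subgroup G)) {S : Subgroup G} (hS : IsPGroup 2 S) (hK : K ∈ OmS Om S)
    (hL : L ∈ OmS Om S) (hne : K ≠ L) : K ≤ centralizer (L : Set G) :=
  UseT.comm_of_core hm.hyp (hm.core_of_corB hodd hE) hS hK hL hne

/-- the local input `LB` of THEOREM (EX) -/
theorem _root_.Cfsg.Agent.Cit.MinS.lb_of_corB (hm : MinS Om) (hodd : OddStmt.{u})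
    (hE : ∀ S : Sylow 2 G, CorB Om (S : Subgroup G)) : ExLocal.LB Om where
  hyp := hm.hyp
  ty := hm.ty
  core := hm.core_of_corB hodd hE
  cor := hm.corG_of_corB hE

/-- (C) at `z_K z_L` -/
theorem _root_.Cfsg.Agent.Cit.MinS.cor2_of_corB (hm : MinS Om)
    (hE : ∀ S : Sylow 2 G, CorB Om (S : Subgroup G)) : ∀ K ∈ Om, ∀ L ∈ Om, TypeDet.cm K L →
      zz K ≠ zz L → CorG Om (centralizer {zz K * zz L}) := fun K hK L hL hc =>
  hm.corG_mul_of_corB hE K hK L hL (TypeDet.cm_iff_le_centralizer.1 hc)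

end Cfsg.Agent.Cit.Four
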