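import Cfsg.Agent.Cit.Four.Defs
import Cfsg.Agent.Cit.TypeDet.Trans
import Cfsg.Agent.Cit.UseT2

/-!
# `n = 4`, `τ = 2` : assembly from the statements of `Four/Defs.lean`

* `TwoTwo.mem_ES_iff`, `card_ES`, `tau_le_two`;
* `exists_norm` : `N(D(S))` is transitive on `Om(S)`;
* `sing_iff` : `Sing Om S z ↔ Sing Om S z'`.
-/

set_option autoImplicit false
set_option linter.style.haveILetI false
set_option linter.unusedSectionVars false

namespace Cfsg.Agent.Cit.Four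

open Subgroup Cfsg Cfsg.Agent.Cit SubCent UseT Branches

universe u

section

variable {G : Type*} [Group G] [Finite G] {Om : Set (Subgroup G)} {S K₁ K₂ K₃ K₄ : Subgroup G}

namespace TwoTwo

theorem mem1 (t : TwoTwo Om S K₁ K₂ K₃ K₄) : K₁ ∈ OmS Om S := by rw [t.eq]; simp
theorem mem2 (t : TwoTwo Om S K₁ K₂ K₃ K₄) : K₂ ∈ OmS Om S := by rw [t.eq]; simp
theorem mem3 (t : TwoTwo Om S K₁ K₂ K₃ K₄) : K₃ ∈ OmS Om S := by rw [t.eq]; simp
theorem mem4 (t : TwoTwo Om S K₁ K₂ K₃ K₄) : K₄ ∈ OmS Om S := by rw [t.eq]; simp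

theorem cases (t : TwoTwo Om S K₁ K₂ K₃ K₄) {K : Subgroup G} (hK : K ∈ OmS Om S) :
    K = K₁ ∨ K = K₂ ∨ K = K₃ ∨ K = K₄ := by
  rw [t.eq] at hK
  simpa using hK

theorem swap (t : TwoTwo Om S K₁ K₂ K₃ K₄) : TwoTwo Om S K₃ K₄ K₁ K₂ where
  eq := by
    rw [t.eq]; ext x
    simp only [Set.mem_insert_iff, Set.mem_singleton_iff]
    tauto
  ne12 := t.ne34
  ne34 := t.ne12
  z12 := t.z34
  z34 := t.z12
  ne := t.ne.symm

theorem swap12 (t : TwoTwo Om S K₁ K₂ K₃ K₄) : TwoTwo Om S K₂ K₁ K₃ K₄ where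
  eq := by
    rw [t.eq]; ext x
    simp only [Set.mem_insert_iff, Set.mem_singleton_iff]
    tauto
  ne12 := t.ne12.symm
  ne34 := t.ne34
  z12 := t.z12.symm
  z34 := t.z34
  ne := t.z12 ▸ t.ne

/-- the involutions -/
theorem zz_cases (t : TwoTwo Om S K₁ K₂ K₃ K₄) {K : Subgroup G} (hK : K ∈ OmS Om S) :
    zz K = zz K₁ ∨ zz K = zz K₃ := by
  rcases t.cases hK with rfl | rfl | rfl | rfl
  · exact Or.inl rfl
  · exact Or.inl t.z12.symm
  · exact Or.inr rfl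
  · exact Or.inr t.z34.symm

theorem sq1 (t : TwoTwo Om S K₁ K₂ K₃ K₄) (h : Hyp Om) : zz K₁ * zz K₁ = 1 := h.zz_mul t.mem1.1
theorem sq3 (t : TwoTwo Om S K₁ K₂ K₃ K₄) (h : Hyp Om) : zz K₃ * zz K₃ = 1 := h.zz_mul t.mem3.1

theorem comm13 (t : TwoTwo Om S K₁ K₂ K₃ K₄) (h : Hyp Om) (hS : IsPGroup 2 S) :
    zz K₁ * zz K₃ = zz K₃ * zz K₁ := ES_comm h hS (zz_mem_ES t.mem1) (zz_mem_ES t.mem3)

theorem mul_ne (t : TwoTwo Om S K₁ K₂ K₃ K₄) (h : Hyp Om) : zz K₁ * zz K₃ ≠ 1 := by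
  intro h1
  apply t.ne
  calc zz K₁ = zz K₁ * (zz K₃ * zz K₃) := by rw [t.sq3 h, mul_one]
    _ = (zz K₁ * zz K₃) * zz K₃ := by group
    _ = zz K₃ := by rw [h1, one_mul]

theorem ES_eq (t : TwoTwo Om S K₁ K₂ K₃ K₄) (h : Hyp Om) (hS : IsPGroup 2 S) :
    ES Om S = four (zz K₁) (zz K₃) (t.sq1 h) (t.sq3 h) (t.comm13 h hS) := by
  apply le_antisymm
  · rw [ES_le_iff]
    intro K hK
    rw [mem_four]
    rcases t.zz_cases hK with h1 | h1
    · exact Or.inr (Or.inl h1)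
    · exact Or.inr (Or.inr (Or.inl h1))
  · rintro x (rfl | rfl | rfl | rfl)
    · exact one_mem _
    · exact zz_mem_ES t.mem1
    · exact zz_mem_ES t.mem3
    · exact mul_mem (zz_mem_ES t.mem1) (zz_mem_ES t.mem3)

theorem mem_ES_iff (t : TwoTwo Om S K₁ K₂ K₃ K₄) (h : Hyp Om) (hS : IsPGroup 2 S) {x : G} :
    x ∈ ES Om S ↔ x = 1 ∨ x = zz K₁ ∨ x = zz K₃ ∨ x = zz K₁ * zz K₃ := by
  rw [t.ES_eq h hS, mem_four]

theorem card_ES (t : TwoTwo Om S K₁ K₂ K₃ K₄) (h : Hyp Om) (hS : IsPGroup 2 S) : Nat.card (ES Om S) = 4 := by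
  rw [t.ES_eq h hS]
  exact card_four (h.zz_ne t.mem1.1) (h.zz_ne t.mem3.1) t.ne.symm

end TwoTwo

/-- the configuration from `TauTwo` -/
theorem exists_twoTwo (h : Hyp Om) (hne : Om.Nonempty) (hc : Card Om 4) (ht : TauTwo Om) (S : Sylow 2 G) :
    ∃ K₁ K₂ K₃ K₄, TwoTwo Om (S : Subgroup G) K₁ K₂ K₃ K₄ := by
  classical
  obtain ⟨K₁, h1⟩ := h.OmS_nonempty S hne
  obtain ⟨K₂, h2, h21, hz2, hu2⟩ := ht S K₁ h1
  -- a third member
  obtain ⟨K₃, h3, h31, h32⟩ : ∃ K₃ ∈ OmS Om (S : Subgroup G), K₃ ≠ K₁ ∧ K₃ ≠ K₂ := by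
    by_contra hcon
    push Not at hcon
    have h4 : OmS Om (S : Subgroup G) ⊆ {K₁, K₂} := by
      intro K hK
      by_cases hK1 : K = K₁
      · exact Or.inl hK1
      · exact Or.inr (hcon K hK hK1)
    have h5 := Set.ncard_le_ncard h4 (Set.toFinite _)
    rw [hc S] at h5
    have h7 : ({K₁, K₂} : Set (Subgroup G)).ncard ≤ 2 := by
      rw [Set.ncard_pair h21.symm]
    omega
  obtain ⟨K₄, h4, h43, hz4, hu4⟩ := ht S K₃ h3
  have hz31 : zz K₃ ≠ zz K₁ := by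
    intro he
    rcases hu2 K₃ h3 he with h5 | h5
    · exact h31 h5
    · exact h32 h5
  have h41 : K₄ ≠ K₁ := by rintro rfl; exact hz31 hz4.symm
  have h42 : K₄ ≠ K₂ := by rintro rfl; exact hz31 (hz4.symm.trans hz2)
  refine ⟨K₁, K₂, K₃, K₄, ?_, h21.symm, h43.symm, hz2.symm, hz4.symm, hz31.symm⟩
  symm
  refine Set.eq_of_subset_of_ncard_le ?_ ?_ (Set.toFinite _)
  · rintro x (rfl | rfl | rfl | rfl) <;> assumption
  · rw [hc S]
    have h5 : ({K₁, K₂, K₃, K₄} : Finset (Subgroup G)).card = 4 := by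
      rw [Finset.card_insert_of_notMem, Finset.card_insert_of_notMem, Finset.card_insert_of_notMem,
        Finset.card_singleton]
      · simpa using h43.symm
      · simp only [Finset.mem_insert, Finset.mem_singleton, not_or]
        exact ⟨h32.symm, h42.symm⟩
      · simp only [Finset.mem_insert, Finset.mem_singleton, not_or]
        exact ⟨h21.symm, h31.symm, h41.symm⟩
    have h6 : ({K₁, K₂, K₃, K₄} : Set (Subgroup G)).ncard = 4 := by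
      rw [← h5, ← Set.ncard_coe_finset]
      congr 1
      simp
    rw [h6]

/-- `τ ≤ 2` -/
theorem tau_le_two (h : Hyp Om) (ht : TauTwo Om) : ∀ K ∈ Om, ∀ L ∈ Om, ∀ M ∈ Om, zz K = zz L → zz K = zz M →
    K = L ∨ K = M ∨ L = M := by
  intro K hK L hL M hM h1 h2
  obtain ⟨S, hS, -⟩ := h.exists_sylow hK
  have hLS := h.mem_OmS_of_zz_eq S hS hL h1.symm
  have hMS := h.mem_OmS_of_zz_eq S hS hM h2.symm
  obtain ⟨K', -, -, -, hu⟩ := ht S K hS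
  rcases hu L hLS h1.symm with h3 | h3
  · exact Or.inl h3.symm
  rcases hu M hMS h2.symm with h4 | h4
  · exact Or.inr (Or.inl h4.symm)
  · exact Or.inr (Or.inr (h3.trans h4.symm))

/-- `N(D(S))` is transitive on `Om(S)` -/
theorem exists_norm (h : Hyp Om) (hcls : ∀ K ∈ Om, ∀ J ∈ Om, ∃ g, J = cj g K) (S : Sylow 2 G) {K J : Subgroup G}
    (hK : K ∈ OmS Om (S : Subgroup G)) (hJ : J ∈ OmS Om (S : Subgroup G)) :
    ∃ g ∈ normalizer (DD Om (S : Subgroup G) : Set G), g * zz K * g⁻¹ = zz J := by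
  haveI : Fact (Nat.Prime 2) := ⟨Nat.prime_two⟩
  obtain ⟨g, rfl⟩ := hcls K hK.1 J hJ.1
  -- `J ∈ Om(g S)` and `J ∈ Om(S)`
  have h1 : cj g K ∈ OmS Om ((g • S : Sylow 2 G) : Subgroup G) := cj_mem_OmS h.conj g hK
  obtain ⟨x, hx, hx2⟩ := DD_conj_of_common h (g • S) S h1 hJ
  have h3 : DD Om ((g • S : Sylow 2 G) : Subgroup G) = cj g (DD Om (S : Subgroup G)) := (cj_DD h.conj g).symm
  refine ⟨x * g, ?_, ?_⟩
  · rw [mem_normalizer_iff_cj, cj_mul, ← h3, hx2]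
  · rw [h.zz_cj hK.1]
    have h2 := h.zz_cj hK.1 g
    rw [h2, mem_centralizer_singleton_iff] at hx
    calc x * g * zz K * (x * g)⁻¹ = x * (g * zz K * g⁻¹) * x⁻¹ := by group
      _ = g * zz K * g⁻¹ := by rw [hx]; group

theorem Sing.conj (h : Hyp Om) {S : Subgroup G} {b g : G} (hg : g ∈ normalizer (DD Om S : Set G))
    (hS : IsPGroup 2 S) (hs : Sing Om S b) : Sing Om S (g * b * g⁻¹) := by
  intro J hJ
  have h1 : cj g⁻¹ J ∈ cov Om (centralizer {b}) := by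
    have h2 := cj_mem_cov h.conj (g := g⁻¹) hJ
    rw [cj_centralizer] at h2
    have h3 : g⁻¹ * (g * b * g⁻¹) * g⁻¹⁻¹ = b := by group
    rw [h3] at h2
    exact h2
  obtain ⟨x, hx, hxJ⟩ := hs _ h1
  refine ⟨g * x * g⁻¹, ?_, ?_⟩
  · rw [← cj_XX]
    exact conj_mem_cj hx
  · have h2 : cj (g * x * g⁻¹) J = cj g (cj x (cj g⁻¹ J)) := by
      rw [← cj_mul, ← cj_mul, mul_assoc]
    rw [h2]
    rw [← OmS_DD hS] at hxJ ⊢
    exact cj_mem_OmS' h.conj hg hxJ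

theorem sing_iff (h : Hyp Om) (hcls : ∀ K ∈ Om, ∀ J ∈ Om, ∃ g, J = cj g K) (S : Sylow 2 G) {K J : Subgroup G}
    (hK : K ∈ OmS Om (S : Subgroup G)) (hJ : J ∈ OmS Om (S : Subgroup G)) (hs : Sing Om (S : Subgroup G) (zz K)) :
    Sing Om (S : Subgroup G) (zz J) := by
  obtain ⟨g, hg, hgz⟩ := exists_norm h hcls S hK hJ
  rw [← hgz]
  exact hs.conj h hg S.isPGroup'

namespace TwoTwo

/-- the elements of `N(D(S))` fix `z z'` -/
theorem conj_e (t : TwoTwo Om S K₁ K₂ K₃ K₄) (h : Hyp Om) (hS : IsPGroup 2 S) {g : G}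
    (hg : g ∈ normalizer (DD Om S : Set G)) : g * (zz K₁ * zz K₃) * g⁻¹ = zz K₁ * zz K₃ := by
  have key : ∀ K ∈ OmS Om S, g * zz K * g⁻¹ = zz K₁ ∨ g * zz K * g⁻¹ = zz K₃ := by
    intro K hK
    rw [← h.zz_cj hK.1]
    apply t.zz_cases
    rw [← OmS_DD hS] at hK ⊢
    exact cj_mem_OmS' h.conj hg hK
  have h1 : g * (zz K₁ * zz K₃) * g⁻¹ = (g * zz K₁ * g⁻¹) * (g * zz K₃ * g⁻¹) := by group
  rw [h1]
  rcases key K₁ t.mem1 with h2 | h2 <;> rcases key K₃ t.mem3 with h3 | h3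
  · exact absurd (mul_left_cancel (mul_right_cancel (h2.trans h3.symm))) t.ne
  · rw [h2, h3]
  · rw [h2, h3, t.comm13 h hS]
  · exact absurd (mul_left_cancel (mul_right_cancel (h2.trans h3.symm))) t.ne

theorem normalizer_le (t : TwoTwo Om S K₁ K₂ K₃ K₄) (h : Hyp Om) (hS : IsPGroup 2 S) :
    normalizer (DD Om S : Set G) ≤ centralizer {zz K₁ * zz K₃} := by
  intro g hg
  have h1 := t.conj_e h hS hg
  rw [mul_inv_eq_iff_eq_mul] at h1
  rw [mem_centralizer_singleton_iff, h1]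

theorem le_centralizer (t : TwoTwo Om S K₁ K₂ K₃ K₄) (h : Hyp Om) (hS : IsPGroup 2 S) :
    S ≤ centralizer {zz K₁ * zz K₃} :=
  (le_normalizer.trans (normalizer_le_normalizer_DD h.conj)).trans (t.normalizer_le h hS)

end TwoTwo

/-- (U): `C(e)` is transitive on `Om[C(e)]` -/
theorem tran_e (h : Hyp Om) (hcls : ∀ K ∈ Om, ∀ J ∈ Om, ∃ g, J = cj g K) (S : Sylow 2 G)
    (t : TwoTwo Om (S : Subgroup G) K₁ K₂ K₃ K₄) : Tran Om (zz K₁ * zz K₃) := by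
  haveI : Fact (Nat.Prime 2) := ⟨Nat.prime_two⟩
  set C := centralizer ({zz K₁ * zz K₃} : Set G) with hC
  have hSC : (S : Subgroup G) ≤ C := t.le_centralizer h S.isPGroup'
  have hSylC : Syl (S : Subgroup G) C := by
    refine ⟨hSC, S.isPGroup', fun h1 => ?_⟩
    have h2 := relIndex_mul_index hSC
    exact S.not_dvd_index (h2 ▸ h1.mul_right _)
  -- into `Om(S)`
  have key : ∀ J ∈ cov Om C, ∃ c ∈ C, cj c J ∈ OmS Om (S : Subgroup G) := by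
    intro J hJ
    obtain ⟨Q, hQ⟩ := Hyp.exists_syl (J ⊓ C)
    have hQJ : Syl Q J := syl_of_syl_inf hJ hQ
    obtain ⟨R, hR, hQR⟩ := exists_syl_ge hQ.2.1 (hQ.1.trans inf_le_right)
    obtain ⟨c, hc, hcR⟩ := hR.exists_conj hSylC
    refine ⟨c, hc, ?_⟩
    rw [← hcR]
    exact cj_mem_OmS h.conj c (mem_OmS_of_le hJ.1 hQJ hQR)
  intro J hJ K hK
  obtain ⟨c, hc, hcJ⟩ := key J hJ
  obtain ⟨d, hd, hdK⟩ := key K hK
  obtain ⟨g, hg⟩ := hcls _ hcJ.1 _ hdK.1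
  obtain ⟨n, hn, hnJ⟩ := TypeDet.exists_normalizer_cj h S hcJ hdK hg.symm
  refine ⟨d⁻¹ * (n * c), C.mul_mem (C.inv_mem hd) (C.mul_mem (t.normalizer_le h S.isPGroup' hn) hc), ?_⟩
  rw [cj_mul, cj_mul, hnJ, cj_inv_cj]

end

end Cfsg.Agent.Cit.Four
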