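import Cfsg.Agent.Cit.UseT
import Cfsg.Agent.Cit.CloGraph
import Cfsg.Agent.Cit.Branches

/-!
# `|E(S)| = 4` : the statements for `n = 4`, `τ = 2` (bb R18, TEXT 3 - 5 of helper533)

`TauTwo Om` : every member of `Om(S)` has exactly one twin (same involution) in `Om(S)`; with `Card Om 4` this is the
configuration `TwoTwo Om S K₁ K₂ K₃ K₄`: `Om(S) = {K₁, K₂, K₃, K₄}`, `z₁ = z₂ = z ≠ z' = z₃ = z₄`, `E(S) = {1, z, z', e}`,
`e = z z'`.

* `Sing Om S b` : `Om[C(b)] = Om(S)` modulo `O(C(b))`;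
* `Block Om b K L` : `K`, `L` are in one piece of `C(b) / O(C(b))`, not a member (types `C_2`, `A_3`, `B_3`, `G_2`);
* `Big Om S b` : all members of `Om(S)` are in one piece of `C(b) / O(C(b))` of type `D_4`.

The statements: `Types` (T gives `Sing` or `Block` for `z`, `Sing` or `Big` for `e`), `Close4` (THEOREM CLOSE: `CloseE`),
`Cores` (`D(E) = 1` from `CloseE`), `Ident`.  The cases `Sing z` are excluded in `Four/Kill.lean` (from `Cores` and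
`CloseE`).
-/

set_option autoImplicit false
set_option linter.style.haveILetI false
set_option linter.unusedSectionVars false

namespace Cfsg.Agent.Cit.Four

open Subgroup Cfsg Cfsg.Agent.Cit SubCent UseT Branches Cfsg.Agent.Nodes.Chart

universe u

section defs

variable {G : Type*} [Group G]

/-- every member of `Om(S)` has exactly one twin -/
def TauTwo (Om : Set (Subgroup G)) : Prop :=
  ∀ S : Sylow 2 G, ∀ K ∈ OmS Om (S : Subgroup G), ∃ L ∈ OmS Om (S : Subgroup G), L ≠ K ∧ zz L = zz K ∧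
    ∀ M ∈ OmS Om (S : Subgroup G), zz M = zz K → M = K ∨ M = L

/-- `n = 4`, `τ = 2` -/
structure TwoTwo (Om : Set (Subgroup G)) (S K₁ K₂ K₃ K₄ : Subgroup G) : Prop where
  eq : OmS Om S = {K₁, K₂, K₃, K₄}
  ne12 : K₁ ≠ K₂
  ne34 : K₃ ≠ K₄
  z12 : zz K₁ = zz K₂
  z34 : zz K₃ = zz K₄
  ne : zz K₁ ≠ zz K₃

/-- `Om[C(b)] = Om(S)` modulo `O(C(b))` -/
def Sing (Om : Set (Subgroup G)) (S : Subgroup G) (b : G) : Prop :=
  ∀ J ∈ cov Om (centralizer {b}), ∃ x ∈ XX b, cj x J ∈ OmS Om S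

/-- `D` is a quasisimple piece with a chart of type `τ` -/
structure PieceTy {X : Type*} [Group X] (Om : Set (Subgroup X)) (D : Subgroup X) (τ : Nodes.Chart.Ty) : Prop where
  nmem : D ∉ Om
  qs : IsQuasisimple D
  two : IsPGroup 2 (center D)
  chart : ∃ (p : ℕ) (c : Chart Om p D), c.IsTy τ ∧
    (Fintype.card c.I ≤ 2 → IsLieTypeChar p (↥D ⧸ center D)) ∧
    (∃ (F : Type) (_ : Field F) (_ : Fintype F), CharP F p ∧
      ∀ r ∈ c.R, Nonempty (Matrix.SpecialLinearGroup (Fin 2) F ≃* ↥(c.Z r ⊔ c.Z (-r)))) ∧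
    ((∀ r ∈ c.R, c.Z r = c.X r) ∨ ∃ n, τ = .C n)

/-- `D` is a piece isomorphic to `G₂(q)` modulo its centre -/
structure PieceG2 {X : Type*} [Group X] (Om : Set (Subgroup X)) (D : Subgroup X) : Prop where
  nmem : D ∉ Om
  qs : IsQuasisimple D
  two : IsPGroup 2 (center D)
  iso : ∃ (p : ℕ) (F : Type) (_ : Field F) (_ : Fintype F) (_ : CharP F p), p.Prime ∧ p ≠ 2 ∧
    (Nonempty ((↥D ⧸ center D) ≃* Lie.chevG2.group F) ∨
      ∃ q : ℕ, IsPrimePow q ∧ Fintype.card F = q ^ 3 ∧ Nonempty ((↥D ⧸ center D) ≃* Lie.twistedD4 F q))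
  zzc : ∀ K ∈ Om, ∀ J ∈ Om, K ≤ D → J ≤ D → K ≠ J → K ≤ centralizer (J : Set X) →
    ∀ d ∈ D, zz K * zz J * d = d * (zz K * zz J)
  three : ∀ K ∈ Om, ∀ J ∈ Om, ∀ M ∈ Om, K ≤ D → J ≤ D → M ≤ D → K ≤ centralizer (J : Set X) →
    K ≤ centralizer (M : Set X) → J ≤ centralizer (M : Set X) → K = J ∨ K = M ∨ J = M

/-- the traces of `K`, `L` are in one piece of `C(b) / O(C(b))` -/
def Block (Om : Set (Subgroup G)) (b : G) (K L : Subgroup G) : Prop :=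
  ∃ D, tr (centralizer {b}) K ≤ D ∧ tr (centralizer {b}) L ≤ D ∧
    (PieceTy (fam Om (centralizer {b})) D (.C 2) ∨ PieceTy (fam Om (centralizer {b})) D (.A 3) ∨
      PieceTy (fam Om (centralizer {b})) D (.B 3) ∨ PieceG2 (fam Om (centralizer {b})) D)

/-- all members of `Om(S)` are in one piece of type `D_4` of `C(b) / O(C(b))` -/
def Big (Om : Set (Subgroup G)) (S : Subgroup G) (b : G) : Prop :=
  ∃ D, (∀ K ∈ OmS Om S, tr (centralizer {b}) K ≤ D) ∧ PieceTy (fam Om (centralizer {b})) D (.D 4)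

/-- (U): `C(b)` is transitive on `Om[C(b)]` -/
def Tran (Om : Set (Subgroup G)) (b : G) : Prop :=
  ∀ J ∈ cov Om (centralizer {b}), ∀ K ∈ cov Om (centralizer {b}), ∃ g ∈ centralizer {b}, cj g J = K

/-- (SW): the products of elements of order four are involutions of members -/
def SwE (Om : Set (Subgroup G)) (b : G) (K₁ K₂ K₃ K₄ : Subgroup G) : Prop :=
  ∀ v₁ ∈ K₁, ∀ v₂ ∈ K₂, ∀ v₃ ∈ K₃, ∀ v₄ ∈ K₄, v₁ * v₁ = zz K₁ → v₂ * v₂ = zz K₂ → v₃ * v₃ = zz K₃ →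
    v₄ * v₄ = zz K₄ → v₁ * v₂ = v₂ * v₁ → v₁ * v₃ = v₃ * v₁ → v₁ * v₄ = v₄ * v₁ → v₂ * v₃ = v₃ * v₂ →
    v₂ * v₄ = v₄ * v₂ → v₃ * v₄ = v₄ * v₃ → ∃ N ∈ cov Om (centralizer {b}), zz N = v₁ * v₂ * v₃ * v₄

/-- the closing theorem: no proper subgroup contains `N(E(S))` and all `C(a)`, `a ∈ E(S)`, `a ≠ 1` -/
def CloseE (Om : Set (Subgroup G)) : Prop :=
  ∀ (S : Sylow 2 G) (M : Subgroup G), normalizer (ES Om (S : Subgroup G) : Set G) ≤ M →
    (∀ a ∈ ES Om (S : Subgroup G), a ≠ 1 → centralizer {a} ≤ M) → M = ⊤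

/-- the cores are centralised by the Sylow 2-subgroups of the members, `D(E) = 1` (compare `CoresCore.CorE`) -/
structure Cor4 (Om : Set (Subgroup G)) (S : Subgroup G) : Prop where
  pieces : ∀ s ∈ ES Om S, s ≠ 1 → HasPieces (fam Om (centralizer {s}))
  comm : ∀ s ∈ ES Om S, s ≠ 1 → ∀ K ∈ OmS Om S, ⁅XX s, K ⊓ S⁆ = ⊥
  del : Del (ES Om S) = ⊥

end defs

/-! ### K-facts -/

section kfacts

variable {X : Type*} [Group X]

/-- twins `K`, `J` in `D` -/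
structure Twin (Om : Set (Subgroup X)) (D K J : Subgroup X) : Prop where
  memK : K ∈ Om
  memJ : J ∈ Om
  leK : K ≤ D
  leJ : J ≤ D
  ne : K ≠ J
  cm : K ≤ centralizer (J : Set X)
  zz : Cit.zz K = Cit.zz J

/-- the `p`-elements of `D` commuting with `b` -/
def PE (p : ℕ) (D : Subgroup X) (b : X) : Set X := {y | y ∈ D ∧ IsPGroup p (zpowers y) ∧ y * b = b * y}

/-- a frame of a piece of type `D_4` with `z₁ = z₂ ≠ z₃ = z₄` -/
structure Fr4 (Om : Set (Subgroup X)) (D K₁ K₂ K₃ K₄ : Subgroup X) : Prop where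
  t12 : Twin Om D K₁ K₂
  t34 : Twin Om D K₃ K₄
  c13 : K₁ ≤ centralizer (K₃ : Set X)
  c14 : K₁ ≤ centralizer (K₄ : Set X)
  c23 : K₂ ≤ centralizer (K₃ : Set X)
  c24 : K₂ ≤ centralizer (K₄ : Set X)
  ne : Cit.zz K₁ ≠ Cit.zz K₃

end kfacts

/-- (KF1), types `C 2`, `A 3`, `B 3` (`n = 4`) and `D 4` (`n = 6`) -/
def KF1 (τ : Nodes.Chart.Ty) : Prop :=
  ∀ (X : Type u) [Group X] [Finite X] (Om : Set (Subgroup X)), Hyp Om → ∀ (p : ℕ) (D : Subgroup X) (c : Chart Om p D),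
    c.IsTy τ → ∀ K J, Twin Om D K J → ∀ v ∈ K, ∀ w ∈ J, v * v = zz K → w * w = zz J →
      v * w * zz K ∈ closure (PE p D (v * w)) ∧
        D ≤ closure (PE p D (zz K) ∪ PE p D (v * w) ∪ PE p D (v * w * zz K))

/-- (KF2), all types -/
def KF2 : Prop :=
  ∀ (X : Type u) [Group X] [Finite X] (Om : Set (Subgroup X)), Hyp Om → ∀ (p : ℕ) (D : Subgroup X) (_ : Chart Om p D)
    (K J : Subgroup X), Twin Om D K J → ∀ a ∈ normalizer (D : Set X), a * a = 1 → a ∈ centralizer (K : Set X) →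
      a ∈ centralizer (J : Set X) → a * zz K = zz K * a →
      (∀ L ∈ Om, L ≤ D → L ≤ centralizer {a * zz K} → L = K ∨ L = J) → D ≤ centralizer {a}

/-- (KF4) : generation of a piece of type `D_4` with `z₁ = z₂ ≠ z₃ = z₄` -/
def KF4 : Prop :=
  ∀ (X : Type u) [Group X] [Finite X] (Om : Set (Subgroup X)), Hyp Om → ∀ (p : ℕ) (D : Subgroup X) (c : Chart Om p D),
    c.IsTy (.D 4) → ∀ K₁ K₂ K₃ K₄, Fr4 Om D K₁ K₂ K₃ K₄ → ∀ v₁ ∈ K₁, ∀ v₂ ∈ K₂, ∀ v₃ ∈ K₃, ∀ v₄ ∈ K₄,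
      v₁ * v₁ = zz K₁ → v₂ * v₂ = zz K₂ → v₃ * v₃ = zz K₃ → v₄ * v₄ = zz K₄ →
      D ≤ closure {y | y ∈ D ∧ (y * zz K₁ = zz K₁ * y ∨ y * (v₁ * v₂ * v₃ * v₄) = v₁ * v₂ * v₃ * v₄ * y ∨
        y * (v₁ * v₂ * v₃ * v₄ * zz K₁) = v₁ * v₂ * v₃ * v₄ * zz K₁ * y)}

/-- (KF5) : an automorphism of odd order centralising a frame of a piece of type `D_4` is trivial -/
def KF5 : Prop :=
  ∀ (X : Type u) [Group X] [Finite X] (Om : Set (Subgroup X)), Hyp Om → ∀ (p : ℕ) (D : Subgroup X) (c : Chart Om p D),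
    c.IsTy (.D 4) → ∀ K₁ K₂ K₃ K₄, Fr4 Om D K₁ K₂ K₃ K₄ → ∀ y ∈ normalizer (D : Set X), ¬ 2 ∣ orderOf y →
      (∀ x ∈ K₁ ⊔ K₂ ⊔ K₃ ⊔ K₄, x * y = y * x) → ∀ x ∈ D, x * y = y * x

/-! ### The statements for `n = 4`, `τ = 2` -/

/-- (0) : the possible configurations [helper913 / open] -/
def Types : Prop :=
  ∀ (G : Type u) [Group G] [Finite G] (Om : Set (Subgroup G)), MinS Om → ∀ (S : Sylow 2 G) (K₁ K₂ K₃ K₄ : Subgroup G),
    TwoTwo Om (S : Subgroup G) K₁ K₂ K₃ K₄ →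
    (Sing Om (S : Subgroup G) (zz K₁) ∨ Block Om (zz K₁) K₃ K₄) ∧
      (Sing Om (S : Subgroup G) (zz K₁ * zz K₃) ∨ Big Om (S : Subgroup G) (zz K₁ * zz K₃))

/-- (G2I) : `G₂` does not occur if `C(e)` has a piece of type `D_4` -/
def NoG2 : Prop :=
  ∀ (G : Type u) [Group G] [Finite G] (Om : Set (Subgroup G)), MinS Om → ∀ (S : Sylow 2 G) (K₁ K₂ K₃ K₄ : Subgroup G),
    TwoTwo Om (S : Subgroup G) K₁ K₂ K₃ K₄ → Big Om (S : Subgroup G) (zz K₁ * zz K₃) →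
    ∀ D, tr (centralizer {zz K₁}) K₃ ≤ D → tr (centralizer {zz K₁}) K₄ ≤ D →
      ¬ PieceG2 (fam Om (centralizer {zz K₁})) D

/-- CORES for `n = 4`, `τ = 2`, all local types [helper730] -/
def Cores : Prop :=
  ∀ (G : Type u) [Group G] [Finite G] (Om : Set (Subgroup G)), MinS Om → CloseE Om →
    ∀ (S : Sylow 2 G) (K₁ K₂ K₃ K₄ : Subgroup G), TwoTwo Om (S : Subgroup G) K₁ K₂ K₃ K₄ →
    (Sing Om (S : Subgroup G) (zz K₁) ∨ Block Om (zz K₁) K₃ K₄) →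
    (Sing Om (S : Subgroup G) (zz K₃) ∨ Block Om (zz K₃) K₁ K₂) →
    (Sing Om (S : Subgroup G) (zz K₁ * zz K₃) ∨ Big Om (S : Subgroup G) (zz K₁ * zz K₃)) → Cor4 Om (S : Subgroup G)

/-- THEOREM CLOSE for `τ ≤ 2`, `|E| = 4` [helper717, 463, 154, 417] -/
def Close4 : Prop :=
  ∀ (G : Type u) [Group G] [Finite G] (Om : Set (Subgroup G)), MinS Om → (∀ K ∈ Om, ∀ L ∈ Om, ∀ M ∈ Om, zz K = zz L →
    zz K = zz M → K = L ∨ K = M ∨ L = M) → (∃ S : Sylow 2 G, Nat.card (ES Om (S : Subgroup G)) = 4) → CloseE Om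

/-- identification [helper913, helper494] -/
def Ident : Prop :=
  ∀ (G : Type u) [Group G] [Finite G] (Om : Set (Subgroup G)), MinS Om → CloseE Om →
    (∀ S : Sylow 2 G, Cor4 Om (S : Subgroup G)) → ∀ (S : Sylow 2 G) (K₁ K₂ K₃ K₄ : Subgroup G),
    TwoTwo Om (S : Subgroup G) K₁ K₂ K₃ K₄ → Block Om (zz K₁) K₃ K₄ → Block Om (zz K₃) K₁ K₂ →
    (Sing Om (S : Subgroup G) (zz K₁ * zz K₃) ∨ Big Om (S : Subgroup G) (zz K₁ * zz K₃)) → HasPieces Om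

/-- **`n = 4`, `τ = 2`** -/
def TauTwoStmt : Prop :=
  ∀ (G : Type u) [Group G] [Finite G] (Om : Set (Subgroup G)), MinS Om → Card Om 4 → TauTwo Om → HasPieces Om

end Cfsg.Agent.Cit.Four
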