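import Cfsg.Agent.Nodes.SwapEnd
import Cfsg.Agent.Cit.FourTypes
import Cfsg.Agent.Cit.FixComp
import Cfsg.Agent.Cit.Four.Defs
import Cfsg.Agent.ClassicalGeometry.SLTwoFour

/-!
# KAB for the pieces with a chart of type `C 2`, `A 3`, `B 3`

`D` a component with a chart of type `C 2`, `A 3` or `B 3`, `K`, `L` twins in `D`, `v ∈ K`, `w ∈ L`, `v² = w² = z`.
Then `O(C(v w))` centralises `z`, and `D ≤ GB {z, v w, v w z}`.
-/

set_option autoImplicit false
set_option linter.style.haveILetI false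
set_option linter.unusedSectionVars false
set_option linter.dupNamespace false

namespace Cfsg.Agent.Cit.Four.KABChart

/-! ### `SL(2,F)` -/

section SL

open ClassicalGeometry.SLTwoFour

variable {F : Type*} [Field F] [Fintype F]

local notation "SL2" => Matrix.SpecialLinearGroup (Fin 2)

theorem exists_quat_w (hodd : Odd (Fintype.card F)) :
    ∃ y : SL2 F, y * y = -1 ∧ y * w = -w * y := by
  obtain ⟨g, hg⟩ := exists_inverting hodd (F := F)
  refine ⟨g, ?_, hg⟩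
  have e01 : (g * w : SL2 F) 0 1 = (-w * g : SL2 F) 0 1 := by rw [hg]
  rw [mul01, mul01, neg_ij, neg_ij, w01, w11, w00] at e01
  apply mul_self_of_trace
  linear_combination e01

theorem exists_quat (hodd : Odd (Fintype.card F)) {x : SL2 F} (hx : x * x = -1) :
    ∃ y : SL2 F, y * y = -1 ∧ y * x = -1 * x * y := by
  obtain ⟨g, rfl⟩ := exists_conj_w hodd x hx
  obtain ⟨y, h1, h2⟩ := exists_quat_w hodd (F := F)
  refine ⟨g * y * g⁻¹, ?_, ?_⟩
  · calc g * y * g⁻¹ * (g * y * g⁻¹) = g * (y * y) * g⁻¹ := by group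
      _ = -1 := by rw [h1, mul_neg, mul_one, neg_mul, mul_inv_cancel]
  · calc g * y * g⁻¹ * (g * w * g⁻¹) = g * (y * w) * g⁻¹ := by group
      _ = -(g * (w * y) * g⁻¹) := by rw [h2, neg_mul, mul_neg, neg_mul]
      _ = _ := by
        rw [neg_mul, one_mul, neg_mul]
        congr 1
        group

omit [Fintype F] in
theorem sq_of_central {x : SL2 F} (hx : ∀ y, y * x = x * y) : x * x = 1 := by
  obtain ⟨r, h1, h2⟩ := Matrix.SpecialLinearGroup.mem_center_iff.1 (Subgroup.mem_center_iff.2 hx)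
  rw [Fintype.card_fin, pow_two] at h1
  apply Subtype.ext
  change (x : Matrix (Fin 2) (Fin 2) F) * x = 1
  rw [← h2, ← map_mul, h1, map_one]

end SL

open Subgroup Cfsg Cfsg.Agent.Cit
open Cfsg.Agent.Nodes.SwapAbs (Quat)

section Quat

variable {G : Type*} [Group G] {F : Type*} [Field F] [Fintype F]

local notation "SL2" => Matrix.SpecialLinearGroup (Fin 2)

theorem val_neg_one {K : Subgroup G} {Om : Set (Subgroup G)} (hyp : Hyp Om) (hK : K ∈ Om)
    (hodd : Odd (Fintype.card F)) (e : SL2 F ≃* K) : ((e (-1) : K) : G) = zz K := by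
  have h2 := ClassicalGeometry.SLTwoFour.two_ne_zero_of_odd hodd
  apply hyp.uniq K hK _ (e (-1)).2
  rw [Subgroup.orderOf_coe, MulEquiv.orderOf_eq]
  refine orderOf_eq_prime ?_ (ClassicalGeometry.SLTwoFour.neg_one_ne_one h2)
  rw [pow_two, neg_mul_neg, one_mul]

theorem quat_of_equiv {K L : Subgroup G} {z : G} (hodd : Odd (Fintype.card F)) (e : SL2 F ≃* K) (e' : SL2 F ≃* L)
    (hz : ((e (-1) : K) : G) = z) (hz' : ((e' (-1) : L) : G) = z) (hc : ∀ a ∈ K, ∀ b ∈ L, a * b = b * a) :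
    Quat z K L := by
  have h2 := ClassicalGeometry.SLTwoFour.two_ne_zero_of_odd hodd
  -- general facts on `K`
  have key : ∀ {K : Subgroup G} (e : SL2 F ≃* K), ((e (-1) : K) : G) = z → ∀ v ∈ K, v * v = z → ∀ v' ∈ K,
      v' * v' = z → ∃ k ∈ K, k * v * k⁻¹ = v' := by
    intro K e hz v hv hvv v' hv' hvv'
    have sq : ∀ {v : G} (hv : v ∈ K), v * v = z → e.symm ⟨v, hv⟩ * e.symm ⟨v, hv⟩ = -1 := by
      intro v hv h
      apply e.injective
      rw [map_mul, MulEquiv.apply_symm_apply]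
      exact Subtype.ext (h.trans hz.symm)
    obtain ⟨g, hg⟩ := ClassicalGeometry.SLTwoFour.exists_conj_w hodd _ (sq hv hvv)
    obtain ⟨g', hg'⟩ := ClassicalGeometry.SLTwoFour.exists_conj_w hodd _ (sq hv' hvv')
    refine ⟨e (g' * g⁻¹), (e (g' * g⁻¹)).2, ?_⟩
    have h3 : g' * g⁻¹ * e.symm ⟨v, hv⟩ * (g' * g⁻¹)⁻¹ = e.symm ⟨v', hv'⟩ := by
      rw [← hg, ← hg']; group
    have h4 := congrArg e h3
    rw [map_mul, map_mul, map_inv, MulEquiv.apply_symm_apply, MulEquiv.apply_symm_apply] at h4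
    exact congrArg Subtype.val h4
  have kinv : ∀ {K : Subgroup G} (e : SL2 F ≃* K), ((e (-1) : K) : G) = z → ∀ v ∈ K, v * v = 1 → v = 1 ∨ v = z := by
    intro K e hz v hv hvv
    have h3 : e.symm ⟨v, hv⟩ * e.symm ⟨v, hv⟩ = 1 := by
      rw [← map_mul, ← map_one e.symm]
      exact congrArg e.symm (Subtype.ext hvv)
    rcases ClassicalGeometry.SLTwoFour.eq_one_or_neg_one_of_mul_self h2 _ h3 with h4 | h4
    · left
      have h5 := congrArg e h4
      rw [MulEquiv.apply_symm_apply, map_one] at h5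
      exact congrArg Subtype.val h5
    · right
      have h5 := congrArg e h4
      rw [MulEquiv.apply_symm_apply] at h5
      exact (congrArg Subtype.val h5).trans hz
  refine ⟨hz ▸ (e (-1)).2, hz' ▸ (e' (-1)).2, ?_, fun v hv v' hv' h h' => key e hz v hv h v' hv' h',
    fun v hv v' hv' h h' => key e' hz' v hv h v' hv' h', kinv e hz, kinv e' hz', ?_⟩
  · intro u hu hu'
    refine kinv e hz u hu ?_
    have h3 : e.symm ⟨u, hu⟩ * e.symm ⟨u, hu⟩ = 1 := by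
      refine sq_of_central fun y => ?_
      apply e.injective
      rw [map_mul, map_mul, MulEquiv.apply_symm_apply]
      exact Subtype.ext (hc _ (e y).2 _ hu')
    rw [← map_mul] at h3
    have h4 := congrArg e h3
    rw [MulEquiv.apply_symm_apply, map_one] at h4
    exact congrArg Subtype.val h4
  · intro v hv hvv
    have h3 : e.symm ⟨v, hv⟩ * e.symm ⟨v, hv⟩ = -1 := by
      apply e.injective
      rw [map_mul, MulEquiv.apply_symm_apply]
      exact Subtype.ext (hvv.trans hz.symm)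
    obtain ⟨y, h4, h5⟩ := exists_quat hodd h3
    refine ⟨e y, (e y).2, ?_, ?_⟩
    · have h6 := congrArg e h4
      rw [map_mul] at h6
      exact (congrArg Subtype.val h6).trans hz
    · have h6 := congrArg e h5
      rw [map_mul, map_mul, map_mul, MulEquiv.apply_symm_apply] at h6
      have h7 := congrArg Subtype.val h6
      simp only [Subgroup.coe_mul] at h7
      rwa [hz] at h7

theorem exists_four {K : Subgroup G} {z : G} (e : SL2 F ≃* K) (hz : ((e (-1) : K) : G) = z) :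
    ∃ v ∈ K, v * v = z := by
  refine ⟨e ClassicalGeometry.SLTwoFour.w, (e _).2, ?_⟩
  rw [← hz, ← ClassicalGeometry.SLTwoFour.w_mul_self, map_mul]
  rfl

end Quat

/-! ### Pairs of orthogonal roots -/

section Roots

open Cfsg.Agent.ChevalleyStructure.CoxeterGeom Cfsg.Agent.Tits.Roots
open Cfsg.Agent.Nodes.TypeC Cfsg.Agent.Nodes.TypeCForm Cfsg.Agent.Nodes.KindBC Cfsg.Agent.Nodes.Coroot

theorem pair_three : ∀ a c e f : Fin 3 × Bool, a.1 ≠ c.1 → e.1 ≠ f.1 →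
    (wt e a.1 + wt f a.1) * sn a + (wt e c.1 + wt f c.1) * sn c = 0 →
    (e = a ∧ f = ng c) ∨ (e = ng a ∧ f = c) ∨ (f = a ∧ e = ng c) ∨ (f = ng a ∧ e = c) := by
  decide +kernel

theorem pair_two : ∀ a c e f : Fin 2 × Bool, a.1 ≠ c.1 → e.1 ≠ f.1 →
    (wt e a.1 + wt f a.1) * sn a + (wt e c.1 + wt f c.1) * sn c = 0 →
    (e = a ∧ f = ng c) ∨ (e = ng a ∧ f = c) ∨ (f = a ∧ e = ng c) ∨ (f = ng a ∧ e = c) := by
  decide +kernel

theorem cov_three : ∀ i j k l : Fin (3 + 1), i ≠ j → i ≠ k → i ≠ l → j ≠ k → j ≠ l → k ≠ l →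
    ∀ a : Fin (3 + 1), a = i ∨ a = j ∨ a = k ∨ a = l := by
  decide +kernel

/-- two orthogonal classical roots of `B n`, `n = 2, 3` -/
theorem pair_B {n : ℕ} (hn : n = 2 ∨ n = 3) {W : Type*} [Group W] [Finite W]
    (cs : CoxeterSystem (CoxeterMatrix.B n) W) {x : Fin n → ℤ} (hx : x ∈ RB n) {a c : Fin n × Bool}
    (hac : a.1 ≠ c.1) (h0 : cpr cs (isCartan n) x (rt a c) = 0) :
    x = rt a (ng c) ∨ x = -rt a (ng c) := by
  obtain ⟨e, f, hef, rfl⟩ := mem_RB.1 hx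
  rw [cpr_rt cs _ hac, ee_rt, Pi.add_apply, Pi.add_apply] at h0
  have key : (e = a ∧ f = ng c) ∨ (e = ng a ∧ f = c) ∨ (f = a ∧ e = ng c) ∨ (f = ng a ∧ e = c) := by
    rcases hn with rfl | rfl
    · exact pair_two a c e f hac hef h0
    · exact pair_three a c e f hac hef h0
  rcases key with ⟨rfl, rfl⟩ | ⟨rfl, rfl⟩ | ⟨rfl, rfl⟩ | ⟨rfl, rfl⟩
  · exact Or.inl rfl
  · right
    rw [← rt_ng, ng_ng]
  · left
    rw [rt_comm]
  · right
    rw [← rt_ng, ng_ng, rt_comm]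

end Roots

/-! ### Charts -/

section Chart

open CoxeterSystem Cfsg.Agent.ChevalleyStructure.CoxeterGeom Cfsg.Agent.Tits.Roots Cfsg.Agent.Tits.Core
  Cfsg.Agent.Tits.RootComb Cfsg.Agent.Nodes.Comb Cfsg.Agent.Nodes.BNOf
  Cfsg.Agent.Nodes.RGDLib Cfsg.Agent.Nodes.Chart Cfsg.Agent.Nodes.Coroot Cfsg.Agent.Nodes.Perp
  Cfsg.Agent.Nodes.ChartFrame Cfsg.Agent.Nodes.KindBase Cfsg.Agent.Nodes.TyStd Cfsg.Agent.Nodes.SwapEnd
open Cfsg.Agent.Cit.TypeDet (cm OmIn)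

variable {G : Type*} [Group G] {Om : Set (Subgroup G)} {p : ℕ} {D : Subgroup G}

/-- the facts on a pair of commuting members -/
structure PairF (Om : Set (Subgroup G)) (D K L : Subgroup G) : Prop where
  hK : K ∈ Om
  hL : L ∈ Om
  hKD : K ≤ D
  hLD : L ≤ D
  hc : ∀ a ∈ K, ∀ b ∈ L, a * b = b * a
  hz : zz K = zz L

theorem PairF.symm {K L : Subgroup G} (P : PairF Om D K L) : PairF Om D L K :=
  ⟨P.hL, P.hK, P.hLD, P.hKD, fun a ha b hb => (P.hc b hb a ha).symm, P.hz.symm⟩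

section

variable {F : Type*} [Field F] [Fintype F]

local notation "SL2" => Matrix.SpecialLinearGroup (Fin 2)

theorem PairF.quat (hyp : Hyp Om) (hodd : Odd (Fintype.card F)) (hsl : ∀ K ∈ Om, K ≤ D → Nonempty (SL2 F ≃* K))
    {K L : Subgroup G} (P : PairF Om D K L) : Quat (zz K) K L := by
  obtain ⟨e⟩ := hsl K P.hK P.hKD
  obtain ⟨e'⟩ := hsl L P.hL P.hLD
  exact quat_of_equiv hodd e e' (val_neg_one hyp P.hK hodd e) ((val_neg_one hyp P.hL hodd e').trans P.hz.symm) P.hc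

theorem PairF.four (hyp : Hyp Om) (hodd : Odd (Fintype.card F)) (hsl : ∀ K ∈ Om, K ≤ D → Nonempty (SL2 F ≃* K))
    {K L : Subgroup G} (P : PairF Om D K L) : ∃ v ∈ K, v * v = zz K := by
  obtain ⟨e⟩ := hsl K P.hK P.hKD
  exact exists_four e (val_neg_one hyp P.hK hodd e)

theorem PairF.conj (hyp : Hyp Om) [Finite G] {K L : Subgroup G} (P : PairF Om D K L) {d : G} (hd : d ∈ D) :
    PairF Om D (cj d K) (cj d L) where
  hK := hyp.conj K P.hK d
  hL := hyp.conj L P.hL d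
  hKD := (cj_mono d P.hKD).trans (mem_normalizer_iff_cj.1 (le_normalizer hd)).le
  hLD := (cj_mono d P.hLD).trans (mem_normalizer_iff_cj.1 (le_normalizer hd)).le
  hc := by
    intro a ha b hb
    rw [mem_cj] at ha hb
    have h1 := P.hc _ ha _ hb
    calc a * b = d * (d⁻¹ * a * d * (d⁻¹ * b * d)) * d⁻¹ := by group
      _ = d * (d⁻¹ * b * d * (d⁻¹ * a * d)) * d⁻¹ := by rw [h1]
      _ = _ := by group
  hz := by rw [hyp.zz_cj P.hK, hyp.zz_cj P.hL, P.hz]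

section Std

variable [Finite G] (hyp : Hyp Om) (hodd : Odd (Fintype.card F))
  (hsl : ∀ K ∈ Om, K ≤ D → Nonempty (SL2 F ≃* K)) {K L : Subgroup G} (P : PairF Om D K L) {d : G} (hd : d ∈ D)
include hyp hodd hsl P hd

/-- type `B n`, `n = 2, 3`, coordinates -/
theorem out_B_cls {n : ℕ} (hn : n = 2 ∨ n = 3) {W : Type*} [Group W] [Fintype W]
    (cs : CoxeterSystem (CoxeterMatrix.B n) W) {T : Subgroup G} {nu : Fin n → G} {X : (Fin n → ℤ) → Subgroup G}
    {Z : (Fin n → ℤ) → Subgroup G} {z : (Fin n → ℤ) → G} (hp : p.Prime) (hp2 : p ≠ 2)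
    (C : Cls cs (Nodes.TypeC.isCartan n) p T nu X (Nodes.KindBC.RB n) Z z)
    (hgen : G1 cs (Nodes.TypeC.isCartan n) X = D) {s t : Fin n → ℤ} (hs : s ∈ Nodes.KindBC.RB n)
    (ht : t ∈ Nodes.KindBC.RB n) (h0 : form cs (Nodes.TypeC.isCartan n) s t = 0)
    (eK : cj d K = Z s ⊔ Z (-s)) (eL : cj d L = Z t ⊔ Z (-t)) (ez : d * zz K * d⁻¹ = z s) (ezt : z s = z t)
    (hZ : ∀ r ∈ Nodes.KindBC.RB n, Z r = X r) : Out p D K L (zz K) := by
  have P' := P.conj hyp hd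
  obtain ⟨a, c, hac, rfl⟩ := Nodes.KindBC.mem_RB.1 ht
  have hs' := pair_B hn cs hs hac ((cpr_zero_iff cs _ _ (Nodes.KindBC.root_RB cs ht)).2 h0)
  have hb : Nodes.KindBC.rt a (Nodes.TypeC.ng c) ∈ Nodes.KindBC.RB n := Nodes.KindBC.rt_mem_RB hac
  obtain ⟨b, hbe⟩ : ∃ b, b = Nodes.KindBC.rt a (Nodes.TypeC.ng c) := ⟨_, rfl⟩
  rw [← hbe] at hb hs'
  have e1 : cj d K = X b ⊔ X (-b) := by
    rw [eK, ← hZ b hb, ← hZ (-b) (Nodes.ClsNorm.neg_mem C hb)]
    rcases hs' with rfl | rfl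
    · rfl
    · rw [neg_neg, sup_comm]
  have e2 : cj d L = X (Nodes.KindBC.rt a c) ⊔ X (-Nodes.KindBC.rt a c) := by
    rw [eL, hZ _ ht, hZ _ (Nodes.ClsNorm.neg_mem C ht)]
  have e3 : z s = z b := by
    rcases hs' with rfl | rfl
    · rfl
    · exact C.z_neg b hb
  have e4 : zz (cj d K) = z b := by rw [hyp.zz_cj P.hK, ez, e3]
  have Q1 := P'.quat hyp hodd hsl
  have Q2 := P'.symm.quat hyp hodd hsl
  have f1 := P'.four hyp hodd hsl
  have f2 := P'.symm.four hyp hodd hsl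
  rw [← P'.hz] at Q2 f2
  have hz1 := hyp.zz_ne P'.hK
  rw [e4] at Q1 Q2 f1 f2 hz1
  rw [e1, e2] at Q1 Q2
  rw [e1] at f1
  rw [e2] at f2
  refine Out.of_cj hd ?_
  change Out p D (cj d K) (cj d L) (d * zz K * d⁻¹)
  rw [ez, e3, e1, e2, ← hgen, hbe]
  rw [hbe] at Q1 Q2 f1 f2 hz1 e3
  exact outB C hZ hp hp2 hac (ezt.symm.trans e3) hz1 Q1 Q2 f1 f2

/-- type `A 3`, coordinates -/
theorem out_A_cls {W : Type*} [Group W] [Fintype W] (cs : CoxeterSystem (LieRecognition.BNCox.cA 3) W)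
    {A : Fin 3 → Fin 3 → ℤ} {h : IsCartan (LieRecognition.BNCox.cA 3) A} {T : Subgroup G} {nu : Fin 3 → G}
    {X : (Fin 3 → ℤ) → Subgroup G} {R : Set (Fin 3 → ℤ)}
    {Z : (Fin 3 → ℤ) → Subgroup G} {z : (Fin 3 → ℤ) → G} (hp : p.Prime) (hp2 : p ≠ 2)
    (C : Cls cs h p T nu X R Z z) (hR : ∀ x, IsRoot cs h x → x ∈ R)
    (hgen : G1 cs h X = D) {s t : Fin 3 → ℤ} (hs : s ∈ R)
    (ht : t ∈ R) (h0 : form cs h s t = 0)
    (eK : cj d K = Z s ⊔ Z (-s)) (eL : cj d L = Z t ⊔ Z (-t)) (ez : d * zz K * d⁻¹ = z s) (ezt : z s = z t)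
    (hZ : ∀ r ∈ R, Z r = X r) : Out p D K L (zz K) := by
  have P' := P.conj hyp hd
  obtain ⟨i, j, hij, rfl⟩ := (Nodes.RootsA.isRoot_iff cs h).1 (C.root s hs)
  obtain ⟨k, l, hkl, rfl⟩ := (Nodes.RootsA.isRoot_iff cs h).1 (C.root t ht)
  obtain ⟨h1, h2, h3, h4⟩ := (Nodes.KindA.cpr_eq_zero_iff cs h hij hkl).1
    ((cpr_zero_iff cs h _ (C.root _ ht)).2 h0)
  have hRR : ∀ a b : Fin (3 + 1), a ≠ b → Nodes.RootsA.rtA a b ∈ R := fun a b hab =>
    hR _ (Nodes.RootsA.isRoot_rtA cs h hab)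
  have Fc : Nodes.SwapA.CfgA p X R Z z i j k l := ⟨hij, h1, h2, h3, h4, hkl, hRR, hZ, hp, hp2, ezt⟩
  have e1 : cj d K = X (Nodes.RootsA.rtA i j) ⊔ X (Nodes.RootsA.rtA j i) := by
    rw [eK, Nodes.RootsA.rtA_neg, hZ _ (hRR i j hij), hZ _ (hRR j i hij.symm)]
  have e2 : cj d L = X (Nodes.RootsA.rtA k l) ⊔ X (Nodes.RootsA.rtA l k) := by
    rw [eL, Nodes.RootsA.rtA_neg, hZ _ (hRR k l hkl), hZ _ (hRR l k hkl.symm)]
  have e4 : zz (cj d K) = z (Nodes.RootsA.rtA i j) := by rw [hyp.zz_cj P.hK, ez]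
  have Q1 := P'.quat hyp hodd hsl
  have f1 := P'.four hyp hodd hsl
  have f2 := P'.symm.four hyp hodd hsl
  rw [← P'.hz] at f2
  have hz1 := hyp.zz_ne P'.hK
  rw [e4] at Q1 f1 f2 hz1
  rw [e1, e2] at Q1
  rw [e1] at f1
  rw [e2] at f2
  refine Out.of_cj hd ?_
  change Out p D (cj d K) (cj d L) (d * zz K * d⁻¹)
  rw [ez, e1, e2, ← hgen]
  exact outA C Fc (fun x hx => (Nodes.RootsA.isRoot_iff cs h).1 hx) (cov_three i j k l hij h1 h2 h3 h4 hkl) hz1 Q1 f1 f2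

end Std

/-- no three orthogonal classical roots in `B n`, `n = 2, 3` -/
theorem third_B {n : ℕ} (hn : n = 2 ∨ n = 3) {W : Type*} [Group W] [Fintype W]
    (cs : CoxeterSystem (CoxeterMatrix.B n) W) {s t u : Fin n → ℤ} (hs : s ∈ Nodes.KindBC.RB n)
    (ht : t ∈ Nodes.KindBC.RB n) (hu : u ∈ Nodes.KindBC.RB n) (h0 : form cs (Nodes.TypeC.isCartan n) s t = 0)
    (h1 : form cs (Nodes.TypeC.isCartan n) u t = 0) (h2 : form cs (Nodes.TypeC.isCartan n) s u = 0) : False := by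
  obtain ⟨a, c, hac, rfl⟩ := Nodes.KindBC.mem_RB.1 ht
  have k1 := pair_B hn cs hs hac ((cpr_zero_iff cs _ _ (Nodes.KindBC.root_RB cs ht)).2 h0)
  have k2 := pair_B hn cs hu hac ((cpr_zero_iff cs _ _ (Nodes.KindBC.root_RB cs ht)).2 h1)
  have hp := form_pos cs (Nodes.TypeC.isCartan n)
    (Nodes.KindBC.root_RB cs (Nodes.KindBC.rt_mem_RB (b := Nodes.TypeC.ng c) hac)).ne_zero
  rcases k1 with rfl | rfl <;> rcases k2 with rfl | rfl
  · exact hp.ne' h2
  · rw [form_neg_right, neg_eq_zero] at h2; exact hp.ne' h2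
  · rw [form_neg_left, neg_eq_zero] at h2; exact hp.ne' h2
  · rw [form_neg_left, form_neg_right, neg_neg] at h2; exact hp.ne' h2

/-- no three orthogonal roots in `A 3` -/
theorem third_A {W : Type*} [Group W] [Fintype W] (cs : CoxeterSystem (LieRecognition.BNCox.cA 3) W)
    {A : Fin 3 → Fin 3 → ℤ} {h : IsCartan (LieRecognition.BNCox.cA 3) A} {s t u : Fin 3 → ℤ}
    (hs : IsRoot cs h s) (ht : IsRoot cs h t) (hu : IsRoot cs h u) (h0 : form cs h s t = 0)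
    (h1 : form cs h u t = 0) (h2 : form cs h s u = 0) : False := by
  obtain ⟨i, j, hij, rfl⟩ := (Nodes.RootsA.isRoot_iff cs h).1 hs
  obtain ⟨k, l, hkl, rfl⟩ := (Nodes.RootsA.isRoot_iff cs h).1 ht
  obtain ⟨m, m', hm, rfl⟩ := (Nodes.RootsA.isRoot_iff cs h).1 hu
  obtain ⟨a1, a2, a3, a4⟩ := (Nodes.KindA.cpr_eq_zero_iff cs h hij hkl).1 ((cpr_zero_iff cs h _ ht).2 h0)
  obtain ⟨b1, b2, b3, b4⟩ := (Nodes.KindA.cpr_eq_zero_iff cs h hm hkl).1 ((cpr_zero_iff cs h _ ht).2 h1)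
  obtain ⟨c1, c2, c3, c4⟩ := (Nodes.KindA.cpr_eq_zero_iff cs h hij hm).1 ((cpr_zero_iff cs h _ hu).2 h2)
  rcases cov_three i j k l hij a1 a2 a3 a4 hkl m with rfl | rfl | rfl | rfl
  · exact c1 rfl
  · exact c3 rfl
  · exact b1 rfl
  · exact b2 rfl

/-- the roots of a pair of commuting members with the same involution -/
theorem exists_roots [Finite G] (hyp : Hyp Om) {K L : Subgroup G} (P : PairF Om D K L) (c : Chart Om p D) :
    ∃ (s t : c.I → ℤ) (d : G), d ∈ D ∧ s ∈ c.R ∧ t ∈ c.R ∧ form c.cs c.h s t = 0 ∧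
      cj d K = c.Z s ⊔ c.Z (-s) ∧ cj d L = c.Z t ⊔ c.Z (-t) ∧ d * zz K * d⁻¹ = c.z s ∧ c.z s = c.z t := by
  set Fm : Fin 2 → Subgroup G := ![K, L] with hFm
  have hF2 : ∀ i, Fm i ∈ TypeDet.OmIn Om D := by
    intro i
    fin_cases i
    · exact ⟨P.hK, P.hKD⟩
    · exact ⟨P.hL, P.hLD⟩
  have hc2 : ∀ i j, i ≠ j → cm (Fm i) (Fm j) := by
    intro i j hij
    fin_cases i <;> fin_cases j
    · exact absurd rfl hij
    · exact P.hc
    · exact TypeDet.cm_symm P.hc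
    · exact absurd rfl hij
  obtain ⟨s, d, F'⟩ := exists_frameIn (C := c) hF2 hc2
  have h1 : ∀ r ∈ c.R, c.z r ≠ 1 := by
    intro r hr
    obtain ⟨x, hx, h1, h2, h3⟩ := FourTypes.exists_joined c (c.cls.root _ (F'.R 0)) (c.cls.root _ (F'.R 1))
      (F'.orth 0 1 (by decide)) (c.cls.root r hr)
    exact Nodes.StdConn.z_ne_one c.cls c.prime c.odd hr hx h1 h2 h3
  have h2 := Nodes.KindsOf.FrameIn_zz hyp F' hF2 h1 0
  have h3 := Nodes.KindsOf.FrameIn_zz hyp F' hF2 h1 1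
  refine ⟨s 0, s 1, d, F'.mem, F'.R 0, F'.R 1, F'.orth 0 1 (by decide), F'.eq 0, F'.eq 1, h2, ?_⟩
  rw [← h2, ← h3]
  change d * zz K * d⁻¹ = d * zz L * d⁻¹
  rw [P.hz]

/-- three commuting members give three orthogonal roots -/
theorem exists_three [Finite G] {K L J : Subgroup G} (P : PairF Om D K L) (hJ : J ∈ Om) (hJD : J ≤ D)
    (hJK : cm J K) (hJL : cm J L) (c : Chart Om p D) :
    ∃ s t u : c.I → ℤ, s ∈ c.R ∧ t ∈ c.R ∧ u ∈ c.R ∧ form c.cs c.h s t = 0 ∧ form c.cs c.h u t = 0 ∧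
      form c.cs c.h s u = 0 := by
  set Fm : Fin 3 → Subgroup G := ![K, L, J] with hFm
  have hF2 : ∀ i, Fm i ∈ TypeDet.OmIn Om D := by
    intro i
    fin_cases i
    · exact ⟨P.hK, P.hKD⟩
    · exact ⟨P.hL, P.hLD⟩
    · exact ⟨hJ, hJD⟩
  have hc2 : ∀ i j, i ≠ j → cm (Fm i) (Fm j) := by
    intro i j hij
    fin_cases i <;> fin_cases j
    · exact absurd rfl hij
    · exact P.hc
    · exact TypeDet.cm_symm hJK
    · exact TypeDet.cm_symm P.hc
    · exact absurd rfl hij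
    · exact TypeDet.cm_symm hJL
    · exact hJK
    · exact hJL
    · exact absurd rfl hij
  obtain ⟨s, d, F'⟩ := exists_frameIn (C := c) hF2 hc2
  exact ⟨s 0, s 1, s 2, F'.R 0, F'.R 1, F'.R 2, F'.orth 0 1 (by decide), F'.orth 2 1 (by decide),
    F'.orth 0 2 (by decide)⟩

theorem third_of_B [Finite G] {K L J : Subgroup G} (P : PairF Om D K L) (hJ : J ∈ Om) (hJD : J ≤ D)
    (hJK : cm J K) (hJL : cm J L) (c : Chart Om p D) {n : ℕ} (hn : n = 2 ∨ n = 3) (hτ : c.IsTy (.B n)) : False := by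
  have hf : Finite (Ty.B n).M.Group := finite_of_isTy c hτ (Ty.B n).M.toCoxeterSystem
  let _ : Fintype (Ty.B n).M.Group := Fintype.ofFinite _
  have hFS := Nodes.KindB.frameSys (n := n) (Ty.B n).M.toCoxeterSystem
  obtain ⟨e, hM, hA, hR, h4⟩ := exists_chart_of_isTy c hτ (W' := (Ty.B n).M.Group) (Ty.B n).M.toCoxeterSystem
    (R' := Nodes.KindBC.RB n) hFS.root hFS.act (fun i => Nodes.RKindsBC.sr_mem_RB)
    (Nodes.KindBC.trans_RB _)
  obtain ⟨s, t, u, hs, ht, hu, h0, h1, h2⟩ := exists_three P hJ hJD hJK hJL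
    (reindex c e hM hA (Ty.B n).M.toCoxeterSystem (Ty.B n).isCartan hFS.root hFS.act hR (Nodes.KindBC.trans_RB _))
  exact third_B hn (Ty.B n).M.toCoxeterSystem hs ht hu h0 h1 h2

theorem third_of_A [Finite G] {K L J : Subgroup G} (P : PairF Om D K L) (hJ : J ∈ Om) (hJD : J ≤ D)
    (hJK : cm J K) (hJL : cm J L) (c : Chart Om p D) (hτ : c.IsTy (.A 3)) : False := by
  have hf : Finite (Ty.A 3).M.Group := finite_of_isTy c hτ (Ty.A 3).M.toCoxeterSystem
  let _ : Fintype (Ty.A 3).M.Group := Fintype.ofFinite _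
  have hFS := Nodes.KindA.frameSys (Ty.A 3).M.toCoxeterSystem (Ty.A 3).isCartan
  have htr : ∀ r ∈ {x | IsRoot (Ty.A 3).M.toCoxeterSystem (Ty.A 3).isCartan x},
      ∀ s ∈ {x | IsRoot (Ty.A 3).M.toCoxeterSystem (Ty.A 3).isCartan x},
      ∃ w, s = rep (Ty.A 3).M.toCoxeterSystem (Ty.A 3).isCartan w r := fun r hr s hs => by
    obtain ⟨w, hw⟩ := Nodes.KindA.trans (Ty.A 3).M.toCoxeterSystem (Ty.A 3).isCartan hr hs
    exact ⟨w, hw.symm⟩
  obtain ⟨e, hM, hA, hR, h4⟩ := exists_chart_of_isTy c hτ (W' := (Ty.A 3).M.Group) (Ty.A 3).M.toCoxeterSystem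
    (R' := {x | IsRoot (Ty.A 3).M.toCoxeterSystem (Ty.A 3).isCartan x}) hFS.root hFS.act
    (fun i => ⟨fun _ => trivial, fun _ => isRoot_sr _ _ i⟩) htr
  obtain ⟨s, t, u, hs, ht, hu, h0, h1, h2⟩ := exists_three P hJ hJD hJK hJL
    (reindex c e hM hA (Ty.A 3).M.toCoxeterSystem (Ty.A 3).isCartan hFS.root hFS.act hR htr)
  exact third_A (Ty.A 3).M.toCoxeterSystem hs ht hu h0 h1 h2

/-- **no third member** commutes with `K` and `L` -/
theorem third [Finite G] (hyp : Hyp Om) {K L J : Subgroup G} (P : PairF Om D K L) (hJ : J ∈ Om) (hJD : J ≤ D)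
    (hJK : cm J K) (hJL : cm J L) (c : Chart Om p D) (hτ : c.IsTy (.C 2) ∨ c.IsTy (.A 3) ∨ c.IsTy (.B 3)) :
    False := by
  rcases hτ with h1 | h1 | h1
  · obtain ⟨s, t, d, hd, hs, ht, h0, eK, eL, ez, ezt⟩ := exists_roots hyp P c
    obtain ⟨c', h2, -⟩ := FourTypes.exists_B_two c h1 (FourTypes.X_le_Z c hs ht h0 ezt)
    exact third_of_B P hJ hJD hJK hJL c' (Or.inl rfl) h2
  · exact third_of_A P hJ hJD hJK hJL c h1
  · exact third_of_B P hJ hJD hJK hJL c (Or.inr rfl) h1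

variable [Finite G] (hyp : Hyp Om) (hodd : Odd (Fintype.card F))
  (hsl : ∀ K ∈ Om, K ≤ D → Nonempty (SL2 F ≃* K)) {K L : Subgroup G} (P : PairF Om D K L)
include hyp hodd hsl P

theorem out_B (c : Chart Om p D) {n : ℕ} (hn : n = 2 ∨ n = 3) (hτ : c.IsTy (.B n)) : Out p D K L (zz K) := by
  have hf : Finite (Ty.B n).M.Group := finite_of_isTy c hτ (Ty.B n).M.toCoxeterSystem
  let _ : Fintype (Ty.B n).M.Group := Fintype.ofFinite _
  have hFS := Nodes.KindB.frameSys (n := n) (Ty.B n).M.toCoxeterSystem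
  obtain ⟨e, hM, hA, hR, h4⟩ := exists_chart_of_isTy c hτ (W' := (Ty.B n).M.Group) (Ty.B n).M.toCoxeterSystem
    (R' := Nodes.KindBC.RB n) hFS.root hFS.act (fun i => Nodes.RKindsBC.sr_mem_RB)
    (Nodes.KindBC.trans_RB _)
  obtain ⟨s, t, d, hd, hs, ht, h0, eK, eL, ez, ezt⟩ := exists_roots hyp P
    (reindex c e hM hA (Ty.B n).M.toCoxeterSystem (Ty.B n).isCartan hFS.root hFS.act hR (Nodes.KindBC.trans_RB _))
  have hZ := FourTypes.X_le_Z _ hs ht h0 ezt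
  exact out_B_cls hyp hodd hsl P hd hn (Ty.B n).M.toCoxeterSystem c.prime c.odd
    (reindex c e hM hA (Ty.B n).M.toCoxeterSystem (Ty.B n).isCartan hFS.root hFS.act hR
      (Nodes.KindBC.trans_RB _)).cls
    (reindex c e hM hA (Ty.B n).M.toCoxeterSystem (Ty.B n).isCartan hFS.root hFS.act hR
      (Nodes.KindBC.trans_RB _)).gen hs ht h0 eK eL ez ezt hZ

theorem out_A (c : Chart Om p D) (hτ : c.IsTy (.A 3)) : Out p D K L (zz K) := by
  have hf : Finite (Ty.A 3).M.Group := finite_of_isTy c hτ (Ty.A 3).M.toCoxeterSystem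
  let _ : Fintype (Ty.A 3).M.Group := Fintype.ofFinite _
  have hFS := Nodes.KindA.frameSys (Ty.A 3).M.toCoxeterSystem (Ty.A 3).isCartan
  have htr : ∀ r ∈ {x | IsRoot (Ty.A 3).M.toCoxeterSystem (Ty.A 3).isCartan x},
      ∀ s ∈ {x | IsRoot (Ty.A 3).M.toCoxeterSystem (Ty.A 3).isCartan x},
      ∃ w, s = rep (Ty.A 3).M.toCoxeterSystem (Ty.A 3).isCartan w r := fun r hr s hs => by
    obtain ⟨w, hw⟩ := Nodes.KindA.trans (Ty.A 3).M.toCoxeterSystem (Ty.A 3).isCartan hr hs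
    exact ⟨w, hw.symm⟩
  obtain ⟨e, hM, hA, hR, h4⟩ := exists_chart_of_isTy c hτ (W' := (Ty.A 3).M.Group) (Ty.A 3).M.toCoxeterSystem
    (R' := {x | IsRoot (Ty.A 3).M.toCoxeterSystem (Ty.A 3).isCartan x}) hFS.root hFS.act
    (fun i => ⟨fun _ => trivial, fun _ => isRoot_sr _ _ i⟩) htr
  obtain ⟨s, t, d, hd, hs, ht, h0, eK, eL, ez, ezt⟩ := exists_roots hyp P
    (reindex c e hM hA (Ty.A 3).M.toCoxeterSystem (Ty.A 3).isCartan hFS.root hFS.act hR htr)
  have hZ := FourTypes.X_le_Z _ hs ht h0 ezt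
  exact out_A_cls hyp hodd hsl P hd (Ty.A 3).M.toCoxeterSystem c.prime c.odd
    (reindex c e hM hA (Ty.A 3).M.toCoxeterSystem (Ty.A 3).isCartan hFS.root hFS.act hR htr).cls
    (fun x hx => hx)
    (reindex c e hM hA (Ty.A 3).M.toCoxeterSystem (Ty.A 3).isCartan hFS.root hFS.act hR htr).gen
    hs ht h0 eK eL ez ezt hZ

/-- **(KF1)** for the charts of type `C 2`, `A 3`, `B 3` (and `B 2`) -/
theorem out (c : Chart Om p D) (hτ : c.IsTy (.C 2) ∨ c.IsTy (.A 3) ∨ c.IsTy (.B 3)) : Out p D K L (zz K) := by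
  rcases hτ with h1 | h1 | h1
  · obtain ⟨s, t, d, hd, hs, ht, h0, eK, eL, ez, ezt⟩ := exists_roots hyp P c
    obtain ⟨c', h2, -⟩ := FourTypes.exists_B_two c h1 (FourTypes.X_le_Z c hs ht h0 ezt)
    exact out_B hyp hodd hsl P c' (Or.inl rfl) h2
  · exact out_A hyp hodd hsl P c h1
  · exact out_B hyp hodd hsl P c (Or.inr rfl) h1

end

end Chart

/-! ### (KAB) -/

section Main

open Cfsg.Agent.Nodes.Chart Cfsg.Agent.Nodes.SwapEnd Cfsg.Agent.Cit.CT
open Cfsg.Agent.Cit.TypeDet (cm)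

variable {X : Type*} [Group X] [Finite X] {Om : Set (Subgroup X)} {D K L : Subgroup X} {p : ℕ}

/-- the members of a chart group are generated by `p`-elements -/
theorem le_of_pelt (h : Hyp Om) (c : Chart Om p D) (hK : K ∈ Om) (hKD : K ≤ D) {N : Subgroup X}
    (hN : ∀ s ∈ D, (∃ k : ℕ, s ^ p ^ k = 1) → s * zz K = zz K * s → s ∈ N) : K ≤ N := by
  obtain ⟨r, hr, g, hg, e⟩ := c.om_conj K hK hKD
  have key : ∀ r' ∈ c.R, c.Z r' ≤ cj g⁻¹ K → c.Z r' ≤ cj g⁻¹ N := by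
    intro r' hr' hle a ha
    have h1 := hle ha
    rw [mem_cj, inv_inv] at h1 ⊢
    refine hN _ (hKD h1) ?_ (mem_centralizer_singleton_iff.1 (h.le_centralizer hK h1))
    obtain ⟨k, hk⟩ := (c.cls.rgd.pgrp' (c.cls.root r' hr')) ⟨a, c.cls.le r' hr' ha⟩
    have hk' : a ^ p ^ k = 1 := congrArg Subtype.val hk
    refine ⟨k, ?_⟩
    rw [conj_pow, hk']
    group
  have e' : cj g⁻¹ K = c.Z r ⊔ c.Z (-r) := by
    have e1 : K = cj g (c.Z r ⊔ c.Z (-r)) := e
    rw [e1, ← cj_mul, inv_mul_cancel, cj_one]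
  have h2 : c.Z r ⊔ c.Z (-r) ≤ cj g⁻¹ N :=
    sup_le (key r hr (by rw [e']; exact le_sup_left))
      (key (-r) (Nodes.ClsNorm.neg_mem c.cls hr) (by rw [e']; exact le_sup_right))
  rw [← e'] at h2
  have h3 := cj_mono g h2
  rwa [cj_cj_inv, cj_cj_inv] at h3

/-- `C(b)` normalises `C(b) ⊓ C(O(C(b)))` -/
theorem conj_mem_cen {b m y : X} (hm : m * b = b * m) (hy : y ∈ centralizer {b} ⊓ centralizer (XX b : Set X)) :
    m * y * m⁻¹ ∈ centralizer {b} ⊓ centralizer (XX b : Set X) := by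
  have h1 : m ∈ centralizer ({b} : Set X) := mem_centralizer_singleton_iff.2 hm
  refine mem_inf.2 ⟨mul_mem (mul_mem h1 hy.1) (inv_mem h1), ?_⟩
  rw [mem_centralizer_iff]
  intro x hx
  have hm' : m⁻¹ * b = b * m⁻¹ := by
    rw [inv_mul_eq_iff_eq_mul, ← mul_assoc, hm, mul_inv_cancel_right]
  have h2 : m⁻¹ * x * m ∈ XX b := by
    have := conj_mem_XX hm' hx
    rwa [inv_inv] at this
  have h3 := mem_centralizer_iff.1 hy.2 _ h2
  calc x * (m * y * m⁻¹) = m * (m⁻¹ * x * m * y) * m⁻¹ := by group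
    _ = m * (y * (m⁻¹ * x * m)) * m⁻¹ := by rw [h3]
    _ = _ := by group

theorem mem_normalizer_GB {B : Set X} {m : X} (hm : ∀ b ∈ B, m * b = b * m) :
    m ∈ normalizer (GB B : Set X) := by
  have key : ∀ m : X, (∀ b ∈ B, m * b = b * m) → cj m (GB B) ≤ GB B := by
    intro m hm
    have h1 : GB B ≤ cj m⁻¹ (GB B) := by
      rw [GB_le_iff]
      intro b hb y hy
      rw [mem_cj, inv_inv]
      exact le_GB hb (conj_mem_cen (hm b hb) hy)
    have h2 := cj_mono m h1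
    rwa [cj_cj_inv] at h2
  rw [mem_normalizer_iff_cj]
  refine le_antisymm (key m hm) ?_
  have h3 := key m⁻¹ fun b hb => by
    rw [inv_mul_eq_iff_eq_mul, ← mul_assoc, hm b hb, mul_inv_cancel_right]
  have h4 := cj_mono m h3
  rwa [cj_cj_inv] at h4

variable {F : Type*} [Field F] [Fintype F]

local notation "SL2" => Matrix.SpecialLinearGroup (Fin 2)

theorem kab_aux (h : Hyp Om) (hO : ∀ K ∈ Om, K ≤ D → OO K = ⊥) (hD : IsComponent D) (c : Chart Om p D)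
    (hτ : c.IsTy (.C 2) ∨ c.IsTy (.A 3) ∨ c.IsTy (.B 3)) (hF : FixP p D) (hodd : Odd (Fintype.card F))
    (hsl : ∀ K ∈ Om, K ≤ D → Nonempty (SL2 F ≃* K)) (P : PairF Om D K L) {v w : X}
    (hv : v ∈ K) (hw : w ∈ L) (hvv : v * v = zz K) (hww : w * w = zz K) :
    (∀ x ∈ XX (v * w), x * zz K = zz K * x) ∧ D ≤ CT.GB {zz K, v * w, v * w * zz K} := by
  haveI : Fact p.Prime := ⟨c.prime⟩
  haveI : Fact (Nat.Prime 2) := ⟨Nat.prime_two⟩
  have O := out h hodd hsl P c hτ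
  have Q := P.quat h hodd hsl
  have hzz : zz K * zz K = 1 := h.zz_mul P.hK
  obtain ⟨z, hz⟩ : ∃ z, z = zz K := ⟨_, rfl⟩
  rw [← hz] at O Q hvv hww hzz ⊢
  have hzK : z ∈ K := Q.zKa
  have hcz : ∀ a ∈ K, a * z = z * a := fun a ha => by
    rw [hz]; exact mem_centralizer_singleton_iff.1 (h.le_centralizer P.hK ha)
  have hczL : ∀ a ∈ L, a * z = z * a := fun a ha => by
    rw [hz, P.hz]; exact mem_centralizer_singleton_iff.1 (h.le_centralizer P.hL ha)
  obtain ⟨f, hf⟩ : ∃ f, f = v * w := ⟨_, rfl⟩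
  have hvw : v * w = w * v := P.hc v hv w hw
  have hff : f * f = 1 := by
    calc f * f = v * (w * v) * w := by rw [hf]; group
      _ = v * v * (w * w) := by rw [← hvw]; group
      _ = 1 := by rw [hvv, hww, hzz]
  have hfz : f * z = z * f := by
    rw [hf]
    calc v * w * z = v * (w * z) := by group
      _ = v * z * w := by rw [hczL w hw]; group
      _ = z * (v * w) := by rw [hcz v hv]; group
  have hvf : v * f = f * v := by
    rw [hf]
    calc v * (v * w) = v * (w * v) := by rw [hvw]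
      _ = _ := by group
  have hfzz : f * z * (f * z) = 1 := by
    calc f * z * (f * z) = f * (z * f) * z := by group
      _ = f * f * (z * z) := by rw [← hfz]; group
      _ = 1 := by rw [hff, hzz, one_mul]
  have hzD : z ∈ D := P.hKD hzK
  have hfD : f ∈ D := by rw [hf]; exact mul_mem (P.hKD hv) (P.hLD hw)
  -- `v` is a 2-element which is not central
  obtain ⟨v', hv', hvv', hqq⟩ := Q.quat v hv hvv
  have hz1 : z ≠ 1 := by rw [hz]; exact h.zz_ne P.hK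
  have hne : v * v' ≠ v' * v := by
    intro e
    rw [hqq, mul_assoc] at e
    exact hz1 (right_eq_mul.1 e)
  have hv2 : IsPGroup 2 (zpowers v) := by
    refine IsPGroup.of_card (n := Nat.log 2 (orderOf v)) ?_
    have h4 : orderOf v ∣ 2 ^ 2 := by
      refine orderOf_dvd_of_pow_eq_one ?_
      calc v ^ 2 ^ 2 = (v * v) * (v * v) := by
            rw [show (2 : ℕ) ^ 2 = 4 from rfl]; simp only [pow_succ, pow_zero, one_mul, mul_assoc]
        _ = 1 := by rw [hvv, hzz]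
    obtain ⟨k, -, hk⟩ := (Nat.dvd_prime_pow Nat.prime_two).1 h4
    rw [Nat.card_zpowers, hk, Nat.log_pow (by norm_num)]
  have nrm : ∀ b, v * b = b * v → XX b ≤ normalizer (D : Set X) := fun b hb =>
    CT.XX_le_normalizer hD (P.hKD hv) (P.hKD hv') hne hb hv2
  -- `p`-elements of `C_D(b)`
  have hcen : ∀ b, b ∈ D → b * b = 1 → v * b = b * v → ∀ s ∈ D, (∃ k : ℕ, s ^ p ^ k = 1) → s * b = b * s →
      ∀ x ∈ XX b, s * x = x * s := by
    rintro b hbD hbb hvb s hs ⟨k, hk⟩ hsb x hx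
    refine hF.comm hbb (le_normalizer hbD) hx (nrm b hvb hx) hs hsb ?_
    rintro ⟨y, i, rfl⟩
    refine ⟨k, Subtype.ext ?_⟩
    change (s ^ i) ^ p ^ k = 1
    rw [← zpow_natCast, ← zpow_mul, mul_comm, zpow_mul, zpow_natCast, hk, one_zpow]
  have mem1 : z ∈ ({z, f, f * z} : Set X) := Or.inl rfl
  have mem2 : f ∈ ({z, f, f * z} : Set X) := Or.inr (Or.inl rfl)
  have hGB : ∀ b ∈ ({z, f, f * z} : Set X), b ∈ D → b * b = 1 → v * b = b * v → ∀ s ∈ D,
      (∃ k : ℕ, s ^ p ^ k = 1) → s * b = b * s → s ∈ CT.GB {z, f, f * z} := by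
    intro b hb hbD hbb hvb s hs hk hsb
    refine CT.le_GB hb (mem_inf.2 ⟨mem_centralizer_singleton_iff.2 hsb, ?_⟩)
    rw [mem_centralizer_iff]
    exact fun x hx => (hcen b hbD hbb hvb s hs hk hsb x hx).symm
  have gz := hGB z mem1 hzD hzz (hcz v hv)
  have gf := hGB f mem2 hfD hff hvf
  rw [← hf]
  constructor
  · intro x hx
    obtain ⟨S, hS, hcl⟩ := O.ka v hv w hw hvv hww
    rw [← hf] at hS hcl
    have h1 : Subgroup.closure S ≤ centralizer {x} := by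
      rw [closure_le]
      intro s hs
      obtain ⟨s1, s2, s3⟩ := hS s hs
      exact mem_centralizer_singleton_iff.2 (hcen f hfD hff hvf s s1 s3 s2 x hx)
    have h2 : z * f * x = x * (z * f) := mem_centralizer_singleton_iff.1 (h1 hcl)
    have h3 : x * f = f * x := CT.comm_of_mem_XX hx
    have h4 : x * z * f = z * x * f := by
      calc x * z * f = x * (z * f) := by group
        _ = z * f * x := h2.symm
        _ = z * (f * x) := by group
        _ = _ := by rw [← h3]; group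
    exact mul_right_cancel h4
  · obtain ⟨N, hN⟩ : ∃ N, N = CT.GB ({z, f, f * z} : Set X) := ⟨_, rfl⟩
    rw [← hN] at gz gf ⊢
    have hKN : K ≤ N := le_of_pelt h c P.hK P.hKD (by rw [← hz]; exact gz)
    have hLN : L ≤ N := le_of_pelt h c P.hL P.hLD (by rw [← P.hz, ← hz]; exact gz)
    -- the products `v' w'` are conjugate under `K L`
    have htr : ∀ v₁ ∈ K, ∀ w₁ ∈ L, v₁ * v₁ = z → w₁ * w₁ = z → ∃ k ∈ N, k ∈ D ∧ k * z = z * k ∧
        k * f * k⁻¹ = v₁ * w₁ := by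
      intro v₁ hv₁ w₁ hw₁ e1 e2
      obtain ⟨k₁, hk₁, e3⟩ := Q.ca v hv v₁ hv₁ hvv e1
      obtain ⟨k₂, hk₂, e4⟩ := Q.cb w hw w₁ hw₁ hww e2
      refine ⟨k₁ * k₂, mul_mem (hKN hk₁) (hLN hk₂), mul_mem (P.hKD hk₁) (P.hLD hk₂), ?_, ?_⟩
      · calc k₁ * k₂ * z = k₁ * (k₂ * z) := by group
          _ = k₁ * z * k₂ := by rw [hczL k₂ hk₂]; group
          _ = _ := by rw [hcz k₁ hk₁]; group
      · have c1 : k₂ * v = v * k₂ := (P.hc v hv k₂ hk₂).symm
        have c2 : k₁ * w₁ = w₁ * k₁ := P.hc k₁ hk₁ w₁ hw₁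
        calc k₁ * k₂ * f * (k₁ * k₂)⁻¹ = k₁ * (k₂ * v) * w * k₂⁻¹ * k₁⁻¹ := by rw [hf]; group
          _ = k₁ * v * (k₂ * w * k₂⁻¹) * k₁⁻¹ := by rw [c1]; group
          _ = k₁ * v * k₁⁻¹ * (k₁ * w₁) * k₁⁻¹ := by rw [e4]; group
          _ = v₁ * w₁ := by rw [c2, e3]; group
    refine O.kb N hKN hLN gz ?_ ?_
    · rintro s hs ⟨i, hi⟩ ⟨v₁, hv₁, w₁, hw₁, e1, e2, e3⟩
      obtain ⟨k, hkN, hkk, -, e7⟩ := htr v₁ hv₁ w₁ hw₁ e1 e2
      have h1 : k⁻¹ * s * k ∈ N := by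
        refine gf _ (mul_mem (mul_mem (inv_mem hkk) hs) hkk) ⟨i, Nodes.SwapB.pow_conj hi⟩ ?_
        rw [← e7] at e3
        calc k⁻¹ * s * k * f = k⁻¹ * (s * (k * f * k⁻¹)) * k := by group
          _ = k⁻¹ * ((k * f * k⁻¹) * s) * k := by rw [e3]
          _ = _ := by group
      have h2 := mul_mem (mul_mem hkN h1) (inv_mem hkN)
      have h3 : k * (k⁻¹ * s * k) * k⁻¹ = s := by group
      rwa [h3] at h2
    · intro c₀ hc₀ hc₀z
      -- `c₀` permutes `K`, `L`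
      have hperm : ∀ J ∈ Om, J ≤ D → zz J = z → J = K ∨ J = L := by
        intro J hJ hJD hJz
        rcases h.h2 J hJ K P.hK (by rw [hJz, hz]) with h1 | h1
        · exact Or.inl h1
        rcases h.h2 J hJ L P.hL (by rw [hJz, hz, P.hz]) with h2 | h2
        · exact Or.inr h2
        exfalso
        rw [hO J hJ hJD, bot_inf_eq, le_bot_iff, commutator_eq_bot_iff_le_centralizer] at h1 h2
        exact third h P hJ hJD (TypeDet.cm_iff_le_centralizer.2 h1) (TypeDet.cm_iff_le_centralizer.2 h2) c hτ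
      have P' := P.conj h hc₀
      have hz' : c₀ * z * c₀⁻¹ = z := by rw [hc₀z, mul_inv_cancel_right]
      have k1 := hperm _ P'.hK P'.hKD (by rw [h.zz_cj P.hK, ← hz, hz'])
      have k2 := hperm _ P'.hL P'.hLD (by rw [h.zz_cj P.hL, ← P.hz, ← hz, hz'])
      have m1 : c₀ * v * c₀⁻¹ ∈ cj c₀ K := conj_mem_cj hv
      have m2 : c₀ * w * c₀⁻¹ ∈ cj c₀ L := conj_mem_cj hw
      have q1 : c₀ * v * c₀⁻¹ * (c₀ * v * c₀⁻¹) = z := by
        calc c₀ * v * c₀⁻¹ * (c₀ * v * c₀⁻¹) = c₀ * (v * v) * c₀⁻¹ := by group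
          _ = z := by rw [hvv, hz']
      have q2 : c₀ * w * c₀⁻¹ * (c₀ * w * c₀⁻¹) = z := by
        calc c₀ * w * c₀⁻¹ * (c₀ * w * c₀⁻¹) = c₀ * (w * w) * c₀⁻¹ := by group
          _ = z := by rw [hww, hz']
      have hKL : K ≠ L := by
        intro e
        apply hne
        exact P.hc v hv v' (e ▸ hv')
      have q3 : c₀ * f * c₀⁻¹ = c₀ * v * c₀⁻¹ * (c₀ * w * c₀⁻¹) := by rw [hf]; group
      obtain ⟨k, hk, -, hkz, e4⟩ : ∃ k ∈ N, k ∈ D ∧ k * z = z * k ∧ k * f * k⁻¹ = c₀ * f * c₀⁻¹ := by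
        rw [q3]
        rcases k1 with k1 | k1
        · have k2' : cj c₀ L = L := by
            refine k2.resolve_left fun e => hKL ?_
            exact cj_injective c₀ (k1.trans e.symm)
          exact htr _ (k1 ▸ m1) _ (k2' ▸ m2) q1 q2
        · have k2' : cj c₀ L = K := by
            refine k2.resolve_right fun e => hKL ?_
            exact cj_injective c₀ (k1.trans e.symm)
          have e5 : c₀ * v * c₀⁻¹ * (c₀ * w * c₀⁻¹) = c₀ * w * c₀⁻¹ * (c₀ * v * c₀⁻¹) :=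
            (P.hc _ (k2' ▸ m2) _ (k1 ▸ m1)).symm
          rw [e5]
          exact htr _ (k2' ▸ m2) _ (k1 ▸ m1) q2 q1
      have h5 : k⁻¹ * c₀ ∈ normalizer (N : Set X) := by
        rw [hN]
        refine mem_normalizer_GB ?_
        have a1 : k⁻¹ * c₀ * z = z * (k⁻¹ * c₀) := by
          have hkz' : k⁻¹ * z = z * k⁻¹ := by
            rw [inv_mul_eq_iff_eq_mul, ← mul_assoc, hkz, mul_inv_cancel_right]
          rw [mul_assoc, hc₀z, ← mul_assoc, hkz', mul_assoc]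
        have a2 : k⁻¹ * c₀ * f = f * (k⁻¹ * c₀) := by
          calc k⁻¹ * c₀ * f = k⁻¹ * (c₀ * f * c₀⁻¹) * c₀ := by group
            _ = k⁻¹ * (k * f * k⁻¹) * c₀ := by rw [e4]
            _ = _ := by group
        rintro b (rfl | rfl | rfl)
        · exact a1
        · exact a2
        · rw [← mul_assoc, a2, mul_assoc, a1, ← mul_assoc]
      have h6 := mul_mem (le_normalizer hk : k ∈ normalizer (N : Set X)) h5
      rwa [mul_inv_cancel_left] at h6

end Main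

end Cfsg.Agent.Cit.Four.KABChart

namespace Cfsg.Agent.Cit.Four

open Subgroup Cfsg Cfsg.Agent.Cit

/-- **KAB for the pieces with a chart of type `C 2`, `A 3`, `B 3`** -/
theorem kab_chart {X : Type*} [Group X] [Finite X] {Om : Set (Subgroup X)} (h : Hyp Om)
    {D : Subgroup X} (hO : ∀ K ∈ Om, K ≤ D → OO K = ⊥) (hD : IsComponent D) {τ : Nodes.Chart.Ty} (hτ : τ = .C 2 ∨ τ = .A 3 ∨ τ = .B 3)
    (g : PieceTy Om D τ) {K L : Subgroup X} (hK : K ∈ Om) (hL : L ∈ Om)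
    (hKD : K ≤ D) (hLD : L ≤ D) (hc : K ≤ centralizer (L : Set X)) (hz : zz K = zz L) {v w : X}
    (hv : v ∈ K) (hw : w ∈ L) (hvv : v * v = zz K) (hww : w * w = zz L) :
    (∀ x ∈ XX (v * w), x * zz K = zz K * x) ∧ D ≤ CT.GB {zz K, v * w, v * w * zz K} := by
  obtain ⟨p, c, hc1, -, ⟨F, _, _, _, sl⟩, -⟩ := g.chart
  have hodd : Odd (Fintype.card F) := by
    rw [Nat.odd_iff]
    exact FiniteField.odd_card_of_char_ne_two (by rw [ringChar.eq F p]; exact c.odd)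
  refine KABChart.kab_aux h hO hD c ?_ (CT.fixP_of_chart c g.qs g.two) hodd ?_
    ⟨hK, hL, hKD, hLD, TypeDet.cm_iff_le_centralizer.2 hc, hz⟩ hv hw hvv (hww.trans hz.symm)
  · rcases hτ with rfl | rfl | rfl
    · exact Or.inl hc1
    · exact Or.inr (Or.inl hc1)
    · exact Or.inr (Or.inr hc1)
  · intro J hJ hJD
    obtain ⟨r, hr, g, -, e⟩ := c.om_conj J hJ hJD
    obtain ⟨e1⟩ := sl r hr
    have e2 : J = cj g (c.Z r ⊔ c.Z (-r)) := e
    rw [e2]
    exact ⟨e1.trans (cjEquiv g _)⟩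

end Cfsg.Agent.Cit.Four
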