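import Cfsg.Agent.Cit.HexKAB
import Cfsg.Agent.Cit.HexPieces
import Cfsg.Agent.Cit.ExcTripBase
import Cfsg.Agent.Cit.Four.Defs
import Cfsg.Agent.Cit.CT

/-!
# KAB for the pieces `G₂(q)`, `³D₄(q)`

`D` a component, `D / Z(D)` of type `G₂(q)` or `³D₄(q)`, `q` odd, `Z(D)` a 2-group, `K`, `J` twins in `D`,
`v ∈ K`, `w ∈ J`, `v² = w² = z`.  For every non-central involution `b` of `D`, `O(C(b))` centralises `D`; `D` is
generated by `C_D(z)` and `C_D(v w)`.
-/

set_option autoImplicit false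
set_option linter.style.haveILetI false

namespace Cfsg.Agent.Cit.Four.KABHex

open Subgroup Cfsg Cfsg.Agent.Cit Cfsg.Agent.Cit.CT Cfsg.Agent.Cit.Comp

section central

variable {E : Type*} [Field E] {σ : E ≃+* E} {L : Type*} [Group L] {c : HexBase.HexGrp σ L}
  {Y : Type*} [Group Y] {f : Y →* L} {z : Y}

/-- a central extension `f : Y → L` by a 2-group, `z` a lift of `c.z` with the full centraliser -/
structure Ext (c : HexBase.HexGrp σ L) (f : Y →* L) (z : Y) : Prop where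
  surj : Function.Surjective f
  ker : f.ker ≤ center Y
  two : IsPGroup 2 f.ker
  fz : f z = c.z
  comm : ∀ d, f d * c.z = c.z * f d → d * z = z * d

theorem Ext.comm_b [Finite E] [Finite L] (x : Ext c f z) (h2 : (2 : E) ≠ 0) {b : Y} (hb : f b * f b = 1)
    (hb1 : f b ≠ 1) {d : Y} (hd : f d * f b = f b * f d) : d * b = b * d := by
  obtain ⟨g', hg'⟩ := isConj_iff.1 (c.isConj_z h2 hb hb1)
  obtain ⟨g, rfl⟩ := x.surj g'
  have h3 : g * b * g⁻¹ * z⁻¹ ∈ f.ker := by
    rw [MonoidHom.mem_ker, map_mul, map_mul, map_mul, map_inv, map_inv, hg', x.fz, mul_inv_cancel]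
  obtain ⟨s, hs⟩ : ∃ s, s = g * b * g⁻¹ * z⁻¹ := ⟨_, rfl⟩
  have hsc : ∀ y, y * s = s * y := fun y => by rw [hs]; exact mem_center_iff.1 (x.ker h3) y
  have e1 : g * b * g⁻¹ = s * z := by rw [hs]; group
  have h4 : g * d * g⁻¹ * z = z * (g * d * g⁻¹) := by
    apply x.comm
    rw [← hg', map_mul, map_mul, map_inv]
    calc f g * f d * (f g)⁻¹ * (f g * f b * (f g)⁻¹) = f g * (f d * f b) * (f g)⁻¹ := by group
      _ = _ := by rw [hd]; group
  have h5 : g * (d * b) * g⁻¹ = g * (b * d) * g⁻¹ := by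
    calc g * (d * b) * g⁻¹ = g * d * g⁻¹ * (g * b * g⁻¹) := by group
      _ = (g * d * g⁻¹ * s) * z := by rw [e1]; group
      _ = s * (g * d * g⁻¹ * z) := by rw [hsc]; group
      _ = s * z * (g * d * g⁻¹) := by rw [h4]; group
      _ = _ := by rw [← e1]; group
  exact mul_left_cancel (mul_right_cancel h5)

/-- a subgroup of odd order of `C(b)` normalised by `C(b)` is trivial -/
theorem Ext.odd_eq_bot [Finite E] [Finite L] [Finite Y] (x : Ext c f z) (h2 : (2 : E) ≠ 0) {b : Y}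
    (hb : f b * f b = 1) (hb1 : f b ≠ 1) {N : Subgroup Y} (ho : (Nat.card N).Coprime 2)
    (hN : N ≤ centralizer {b}) (hn : centralizer {b} ≤ normalizer (N : Set Y)) : N = ⊥ := by
  have h3 := c.oddCore_centralizer h2 hb hb1
  have hoN : (Nat.card (N.map f)).Coprime 2 := by
    refine Nat.Coprime.coprime_dvd_left ?_ ho
    exact Subgroup.card_map_dvd N f
  have hle : N.map f ≤ centralizer {f b} := by
    rintro _ ⟨n, hnN, rfl⟩
    rw [mem_centralizer_singleton_iff, ← map_mul, mem_centralizer_singleton_iff.1 (hN hnN), map_mul]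
  have hnor : centralizer {f b} ≤ normalizer (N.map f : Set L) := by
    have key : ∀ l ∈ centralizer {f b}, ∀ n ∈ N.map f, l * n * l⁻¹ ∈ N.map f := by
      rintro l hl _ ⟨n, hnN, rfl⟩
      obtain ⟨d, rfl⟩ := x.surj l
      have h4 := x.comm_b h2 hb hb1 (mem_centralizer_singleton_iff.1 hl)
      refine ⟨d * n * d⁻¹, ?_, by rw [map_mul, map_mul, map_inv]⟩
      exact (mem_normalizer_iff.1 (hn (mem_centralizer_singleton_iff.2 h4)) n).1 hnN
    intro l hl
    rw [mem_normalizer_iff]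
    refine fun n => ⟨key l hl n, fun h => ?_⟩
    have h5 := key l⁻¹ (inv_mem hl) _ h
    have e : l⁻¹ * (l * n * l⁻¹) * l⁻¹⁻¹ = n := by group
    rwa [e] at h5
  have h4 : ((N.map f).subgroupOf (centralizer {f b})).Normal := (normal_subgroupOf_iff_le_normalizer hle).2 hnor
  have h5 : (N.map f).subgroupOf (centralizer {f b}) ≤ oddCore ↥(centralizer {f b}) :=
    Lib.Cores.le_pPrimeCore h4 (by rw [Nat.card_congr (subgroupOfEquivOfLe hle).toEquiv]; exact hoN)
  rw [h3, le_bot_iff, subgroupOf_eq_bot, disjoint_iff, inf_eq_left.2 hle] at h5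
  have h6 : N ≤ f.ker := (Subgroup.map_eq_bot_iff N).1 h5
  have h7 : IsPGroup 2 N := x.two.to_le h6
  have : Fact (Nat.Prime 2) := ⟨Nat.prime_two⟩
  obtain ⟨k, hk⟩ := IsPGroup.iff_card.1 h7
  rw [← card_eq_one]
  rw [hk] at ho ⊢
  rcases Nat.eq_zero_or_pos k with h8 | h8
  · rw [h8, pow_zero]
  · exfalso
    rw [Nat.coprime_pow_left_iff h8] at ho
    norm_num at ho

/-- the automorphism of `L` induced by an automorphism of `Y` trivial on the kernel -/
theorem exists_induced (hs : Function.Surjective f) (α : MulAut Y) (hk : ∀ y ∈ f.ker, α y = y) :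
    ∃ β : MulAut L, ∀ y, β (f y) = f (α y) := by
  have hm : f.ker.map α.toMonoidHom = f.ker := by
    ext y
    constructor
    · rintro ⟨k, hk', rfl⟩
      have : α k = k := hk k hk'
      change α k ∈ f.ker
      rw [this]; exact hk'
    · intro hy
      exact ⟨y, hy, hk y hy⟩
  let e := QuotientGroup.quotientKerEquivOfSurjective f hs
  refine ⟨(e.symm.trans (QuotientGroup.congr f.ker f.ker α hm)).trans e, fun y => ?_⟩
  have h1 : e.symm (f y) = (y : Y ⧸ f.ker) := by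
    rw [MulEquiv.symm_apply_eq]
    rfl
  change e (QuotientGroup.congr f.ker f.ker α hm (e.symm (f y))) = _
  rw [h1]
  rfl

/-- **an automorphism of odd order trivial on `C(b)` is trivial** -/
theorem Ext.aut [Finite E] [Finite L] (x : Ext c f z) (h2 : (2 : E) ≠ 0) (hperf : commutator Y = ⊤) {b : Y}
    (hb : f b * f b = 1) (hb1 : f b ≠ 1) {α : MulAut Y} (hα : ∀ d, d * b = b * d → α d = d) {m : ℕ} (hm : Odd m)
    (hαm : α ^ m = 1) : α = 1 := by
  have hker : ∀ y ∈ f.ker, α y = y := fun y hy => hα y (mem_center_iff.1 (x.ker hy) b).symm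
  obtain ⟨β, hβ⟩ := exists_induced x.surj α hker
  have hβm : β ^ m = 1 := by
    have key : ∀ n : ℕ, ∀ y, (β ^ n) (f y) = f ((α ^ n) y) := by
      intro n
      induction n with
      | zero => intro y; rfl
      | succ n ih =>
        intro y
        rw [pow_succ, pow_succ, MulAut.mul_apply, MulAut.mul_apply, hβ, ih]
    ext l
    obtain ⟨y, rfl⟩ := x.surj l
    rw [key, hαm]
    rfl
  obtain ⟨g, hg⟩ := isConj_iff.1 (c.isConj_z h2 hb hb1)
  obtain ⟨τ, hτ⟩ : ∃ τ, τ = MulAut.conj g * β * (MulAut.conj g)⁻¹ := ⟨_, rfl⟩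
  have hτz : ∀ l, l * c.z = c.z * l → τ l = l := by
    intro l hl
    obtain ⟨d, hd⟩ := x.surj (g⁻¹ * l * g)
    have h3 : f d * f b = f b * f d := by
      have e1 : f b = g⁻¹ * c.z * g := by rw [← hg]; group
      rw [hd, e1]
      calc g⁻¹ * l * g * (g⁻¹ * c.z * g) = g⁻¹ * (l * c.z) * g := by group
        _ = _ := by rw [hl]; group
    have h4 : β (g⁻¹ * l * g) = g⁻¹ * l * g := by
      rw [← hd, hβ, hα d (x.comm_b h2 hb hb1 h3)]
    have h5 : (MulAut.conj g)⁻¹ l = g⁻¹ * l * g := by rw [← map_inv, MulAut.conj_apply, inv_inv]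
    rw [hτ, MulAut.mul_apply, MulAut.mul_apply, h5, h4, MulAut.conj_apply]
    group
  have hτ1 : τ = 1 := by
    have hτm : τ ^ m = 1 := by
      rw [hτ, conj_pow, hβm, mul_one, mul_inv_cancel]
    rcases HexBase.HexGrp.eq_of_K14 (c := c) h2 (τ := τ) (fun y => hτz _ (c.z_pb y).symm)
      (fun y => hτz _ (c.z_p4 y).symm) with h | h
    · exact h
    · obtain ⟨k, hk⟩ := hm
      rw [h, ← map_pow, hk, pow_succ, pow_mul, pow_two, c.z_sq, one_pow, one_mul] at hτm
      rw [h, hτm]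
  have hβ1 : β = 1 := by
    have : β = (MulAut.conj g)⁻¹ * τ * MulAut.conj g := by rw [hτ]; group
    rw [this, hτ1]; group
  -- `α y = y s`, `s` central
  have h3 : ∀ y, ∃ s ∈ center Y, α y = y * s := by
    intro y
    refine ⟨y⁻¹ * α y, x.ker ?_, by group⟩
    rw [MonoidHom.mem_ker, map_mul, map_inv, ← hβ, hβ1]
    exact inv_mul_cancel _
  have h4 : commutator Y ≤ α.toMonoidHom.eqLocus (MonoidHom.id Y) := by
    rw [_root_.commutator_def, commutator_le]
    intro p _ q _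
    obtain ⟨s, hs, e1⟩ := h3 p
    obtain ⟨t, ht, e2⟩ := h3 q
    have hs' := mem_center_iff.1 hs
    have ht' := mem_center_iff.1 ht
    change α (p * q * p⁻¹ * q⁻¹) = p * q * p⁻¹ * q⁻¹
    rw [map_mul, map_mul, map_mul, map_inv, map_inv, e1, e2]
    calc p * s * (q * t) * (p * s)⁻¹ * (q * t)⁻¹ = p * (s * (q * t * s⁻¹)) * p⁻¹ * t⁻¹ * q⁻¹ := by group
      _ = p * (q * t * s⁻¹ * s) * p⁻¹ * t⁻¹ * q⁻¹ := by rw [← hs']
      _ = p * q * (t * p⁻¹) * t⁻¹ * q⁻¹ := by group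
      _ = p * q * (p⁻¹ * t) * t⁻¹ * q⁻¹ := by rw [← ht']
      _ = _ := by group
  rw [hperf] at h4
  ext y
  exact h4 (mem_top y)

/-- **generation** -/
theorem Ext.gen [Finite E] [Finite L] (x : Ext c f z) (h2 : (2 : E) ≠ 0) {v w : Y} (hv : f v ∈ c.K1)
    (hw : f w ∈ c.K4) (hvv : v * v = z) (hww : w * w = z) {M : Subgroup Y} (hz : centralizer {z} ≤ M)
    (hvw : centralizer {v * w} ≤ M) (hb : f (v * w) * f (v * w) = 1) (hb1 : f (v * w) ≠ 1) : M = ⊤ := by
  have hker : f.ker ≤ M := fun y hy => hz (mem_centralizer_singleton_iff.2 (mem_center_iff.1 (x.ker hy) z).symm)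
  have h3 : M.map f = ⊤ := by
    refine c.gen_two h2 hv hw (by rw [← map_mul, hvv, x.fz]) (by rw [← map_mul, hww, x.fz]) ?_ ?_
    · intro l hl
      obtain ⟨d, rfl⟩ := x.surj l
      exact ⟨d, hz (mem_centralizer_singleton_iff.2 (x.comm d (mem_centralizer_singleton_iff.1 hl))), rfl⟩
    · intro l hl
      obtain ⟨d, rfl⟩ := x.surj l
      rw [← map_mul] at hl
      exact ⟨d, hvw (mem_centralizer_singleton_iff.2 (x.comm_b h2 hb hb1 (mem_centralizer_singleton_iff.1 hl))), rfl⟩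
  rw [eq_top_iff]
  intro y _
  obtain ⟨m, hm, e⟩ : f y ∈ M.map f := by rw [h3]; exact mem_top _
  have h4 : m⁻¹ * y ∈ f.ker := by rw [MonoidHom.mem_ker, map_mul, map_inv, e, inv_mul_cancel]
  have h5 : y = m * (m⁻¹ * y) := by group
  rw [h5]
  exact M.mul_mem hm (hker h4)

/-- `f (v w)` is an involution -/
theorem Ext.invol [Finite E] (x : Ext c f z) (h2 : (2 : E) ≠ 0) {v w : Y} (hv : f v ∈ c.K1)
    (hw : f w ∈ c.K4) (hvv : v * v = z) (hww : w * w = z) :
    f (v * w) * f (v * w) = 1 ∧ f (v * w) ≠ 1 ∧ f (v * w * z) * f (v * w * z) = 1 ∧ f (v * w * z) ≠ 1 := by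
  have hvz : f v * f v = c.z := by rw [← map_mul, hvv, x.fz]
  have hwz : f w * f w = c.z := by rw [← map_mul, hww, x.fz]
  have hcm : f v * f w = f w * f v := c.comm14 hv hw
  have hsq : f (v * w) * f (v * w) = 1 := by
    rw [map_mul]
    calc f v * f w * (f v * f w) = f v * (f w * f v) * f w := by group
      _ = (f v * f v) * (f w * f w) := by rw [← hcm]; group
      _ = 1 := by rw [hvz, hwz, c.z_sq]
  have hzc : f (v * w) * c.z = c.z * f (v * w) := by
    have h3 := c.comm14 hv c.z_mem_K4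
    have h4 := c.comm14 c.z_mem_K1 hw
    rw [map_mul]
    calc f v * f w * c.z = f v * (c.z * f w) := by rw [h4]; group
      _ = (f v * c.z) * f w := by group
      _ = _ := by rw [h3]; group
  have key : ∀ s, (s = 1 ∨ s = c.z) → f v * f w ≠ s := by
    intro s hs h
    have h3 : f v ∈ c.K4 := by
      have : f v = s * (f w)⁻¹ := by rw [← h]; group
      rw [this]
      refine mul_mem ?_ (inv_mem hw)
      rcases hs with rfl | rfl
      · exact one_mem _
      · exact c.z_mem_K4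
    rcases c.eq_of_mem_inf h2 hv h3 with h4 | h4
    · rw [h4, mul_one] at hvz
      exact c.z_ne h2 hvz.symm
    · rw [h4, c.z_sq] at hvz
      exact c.z_ne h2 hvz.symm
  refine ⟨hsq, ?_, ?_, ?_⟩
  · rw [map_mul]; exact key 1 (Or.inl rfl)
  · rw [map_mul f (v * w) z, x.fz]
    calc f (v * w) * c.z * (f (v * w) * c.z) = f (v * w) * (c.z * f (v * w)) * c.z := by group
      _ = (f (v * w) * f (v * w)) * (c.z * c.z) := by rw [← hzc]; group
      _ = 1 := by rw [hsq, c.z_sq, one_mul]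
  · rw [map_mul f (v * w) z, x.fz]
    intro h
    refine key c.z (Or.inr rfl) ?_
    rw [← map_mul, ← c.z_inv]
    exact eq_inv_of_mul_eq_one_left h

end central

section exist

variable {E : Type*} [Field E] {σ : E ≃+* E} {L : Type*} [Group L] (c : HexBase.HexGrp σ L)
  {Y : Type*} [Group Y] [Finite Y] {Om : Set (Subgroup Y)} {K J : Subgroup Y}

/-- `zz K` is a commutator of elements of `K` -/
theorem exists_comm (h : Hyp Om) (hK : K ∈ Om) : ∃ i ∈ K, ∃ j ∈ K, i * j * i⁻¹ * j⁻¹ = zz K := by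
  obtain ⟨Q, hQ⟩ := Hyp.exists_syl K
  obtain ⟨a, v, n, hq⟩ := h.exists_gq hK hQ
  refine ⟨v, hQ.1 hq.v_mem, a ^ 2 ^ n, pow_mem (hQ.1 hq.c_mem) _, ?_⟩
  have h1 := hq.conj_pow (2 ^ n)
  rw [h1]
  have h3 : (a ^ 2 ^ n)⁻¹ * v * v⁻¹ * (a ^ 2 ^ n)⁻¹ = (a ^ 2 ^ n * a ^ 2 ^ n)⁻¹ := by group
  rw [h3, ← pow_add, ← two_mul, ← pow_succ', hq.z_eq, hq.z_inv]

/-- elements normalising the image of `K` in a central quotient commute with `zz K` -/
theorem comm_zz_of_map {L : Type*} [Group L] {f : Y →* L} (h : Hyp Om) (hK : K ∈ Om) (hker : f.ker ≤ center Y)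
    {d : Y} (hd : ∀ k ∈ K, f d * f k * (f d)⁻¹ ∈ K.map f) : d * zz K = zz K * d := by
  obtain ⟨i, hi, j, hj, e⟩ := exists_comm h hK
  have key : ∀ k ∈ K, ∃ k' ∈ K, ∃ s ∈ center Y, d * k * d⁻¹ = k' * s := by
    intro k hk
    obtain ⟨k', hk', e1⟩ := hd k hk
    refine ⟨k', hk', k'⁻¹ * (d * k * d⁻¹), hker ?_, by group⟩
    rw [MonoidHom.mem_ker, map_mul, map_inv, e1, map_mul, map_mul, map_inv]
    group
  obtain ⟨i', hi', s, hs, e1⟩ := key i hi
  obtain ⟨j', hj', t, ht, e2⟩ := key j hj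
  have hs' := mem_center_iff.1 hs
  have ht' := mem_center_iff.1 ht
  have h3 : d * zz K * d⁻¹ = i' * j' * i'⁻¹ * j'⁻¹ := by
    rw [← e]
    calc d * (i * j * i⁻¹ * j⁻¹) * d⁻¹ = (d * i * d⁻¹) * (d * j * d⁻¹) * (d * i * d⁻¹)⁻¹ * (d * j * d⁻¹)⁻¹ := by
          group
      _ = i' * (s * (j' * t * s⁻¹)) * i'⁻¹ * t⁻¹ * j'⁻¹ := by rw [e1, e2]; group
      _ = i' * (j' * t * s⁻¹ * s) * i'⁻¹ * t⁻¹ * j'⁻¹ := by rw [← hs']
      _ = i' * j' * (t * i'⁻¹) * t⁻¹ * j'⁻¹ := by group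
      _ = i' * j' * (i'⁻¹ * t) * t⁻¹ * j'⁻¹ := by rw [← ht']
      _ = _ := by group
  have h4 : d * zz K * d⁻¹ = zz K := by
    refine h.uniq K hK _ ?_ ?_
    · rw [h3]
      exact mul_mem (mul_mem (mul_mem hi' hj') (inv_mem hi')) (inv_mem hj')
    · rw [← h.orderOf_zz hK]
      exact (MulAut.conj d).orderOf_eq (zz K)
  exact mul_inv_eq_iff_eq_mul.1 h4

include c in
theorem exists_ext [Finite E] [Finite L] (h : Hyp Om) (ty : ∀ K ∈ Om, IsType K) (hq : IsQuasisimple Y)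
    (hp : IsPGroup 2 (center Y)) (ht : (⊤ : Subgroup Y) ∉ Om) (e : (Y ⧸ center Y) ≃* L) (h2 : (2 : E) ≠ 0)
    (hK : K ∈ Om) (hJ : J ∈ Om) (hc : K ≤ centralizer (J : Set Y)) (hz : zz K = zz J) :
    ∃ f : Y →* L, Ext c f (zz K) ∧ ((K.map f = c.K1 ∧ J.map f = c.K4) ∨ (K.map f = c.K4 ∧ J.map f = c.K1)) := by
  have hinf0 : ∀ J ∈ Om, J ⊓ center Y = ⊥ := fun J hJ => ExcTripOf.inf_center h hq hp ht hJ
  obtain ⟨f0, hf0⟩ : ∃ f0 : Y →* L, f0 = e.toMonoidHom.comp (QuotientGroup.mk' (center Y)) := ⟨_, rfl⟩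
  have hs0 : Function.Surjective f0 := by
    rw [hf0]; exact e.surjective.comp (QuotientGroup.mk'_surjective _)
  have hk0 : ∀ y, f0 y = 1 ↔ y ∈ center Y := by
    intro y
    rw [hf0]
    change e (QuotientGroup.mk' (center Y) y) = 1 ↔ _
    rw [map_eq_one_iff e e.injective, ← MonoidHom.mem_ker, QuotientGroup.ker_mk']
  have hzc : zz K ∉ center Y := by
    intro h3
    have h4 : zz K ∈ K ⊓ center Y := ⟨h.zz_mem hK, h3⟩
    rw [hinf0 K hK, mem_bot] at h4
    exact h.zz_ne hK h4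
  obtain ⟨g, hg⟩ := isConj_iff.1 (c.isConj_z h2 (t := f0 (zz K)) (by rw [← map_mul, h.zz_mul hK, map_one])
    (fun h3 => hzc ((hk0 _).1 h3)))
  obtain ⟨f, hf⟩ : ∃ f : Y →* L, f = (MulAut.conj g).toMonoidHom.comp f0 := ⟨_, rfl⟩
  have hs : Function.Surjective f := by
    rw [hf]; exact (MulAut.conj g).surjective.comp hs0
  have hker : f.ker = center Y := by
    ext y
    rw [MonoidHom.mem_ker, hf]
    change MulAut.conj g (f0 y) = 1 ↔ _
    rw [map_eq_one_iff _ (MulAut.conj g).injective]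
    exact hk0 y
  have hfz : f (zz K) = c.z := by rw [hf]; exact hg
  have hinf : ∀ J ∈ Om, J ⊓ f.ker = ⊥ := fun J hJ => by rw [hker]; exact hinf0 J hJ
  have h' : Hyp (img f Om) := QuoCen.hyp_img_central h hs hker.le hinf
  have ty' := TyTrans.isType_img_inf ty hinf
  have hm : ∀ {N : Subgroup Y}, N ∈ Om → N.map f ∈ img f Om := fun hN => ⟨_, hN, rfl⟩
  have hzz : ∀ {N : Subgroup Y}, N ∈ Om → zz N = zz K → zz (N.map f) = c.z := by
    intro N hN e1
    rw [QuoCen.zz_map_of_inf h hN (hinf N hN), e1, hfz]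
  have h14 : ∀ {N : Subgroup Y}, N ∈ Om → zz N = zz K → N.map f = c.K1 ∨ N.map f = c.K4 := by
    intro N hN e1
    have e2 := hzz hN e1
    refine c.eq_K1_or_eq_K4 h2 (ty' _ (hm hN)) ?_ ?_
    · rw [← e2]; exact h'.le_centralizer (hm hN)
    · rw [← e2]; exact h'.sub _ (hm hN)
  have hne : K.map f ≠ J.map f := by
    intro h3
    refine h'.not_le_centralizer_self (hm hJ) ?_
    have h4 : K.map f ≤ centralizer (J.map f : Set L) := by
      rintro _ ⟨k, hk, rfl⟩
      rw [mem_centralizer_iff]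
      rintro _ ⟨j, hj, rfl⟩
      rw [← map_mul, ← map_mul, mem_centralizer_iff.1 (hc hk) j hj]
    rwa [h3] at h4
  have hcomm : ∀ d, f d * c.z = c.z * f d → d * zz K = zz K * d := by
    intro d hd
    refine comm_zz_of_map h hK hker.le fun k hk => ?_
    have hkm : f k ∈ K.map f := ⟨k, hk, rfl⟩
    rcases h14 hK rfl with h3 | h3
    · rw [h3] at hkm ⊢
      exact c.nml1 h2 hd hkm
    · rw [h3] at hkm ⊢
      exact c.nml4 h2 hd hkm
  refine ⟨f, ⟨hs, hker.le, by rw [hker]; exact hp, hfz, hcomm⟩, ?_⟩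
  rcases h14 hK rfl with h3 | h3
  · rcases h14 hJ hz.symm with h4 | h4
    · exact absurd (h3.trans h4.symm) hne
    · exact Or.inl ⟨h3, h4⟩
  · rcases h14 hJ hz.symm with h4 | h4
    · exact Or.inr ⟨h3, h4⟩
    · exact absurd (h3.trans h4.symm) hne

end exist

section group

variable {X : Type*} [Group X] [Finite X]

/-- `O(C(b))` centralises `D` -/
theorem XX_comm {E : Type*} [Field E] [Finite E] {σ : E ≃+* E} {L : Type*} [Group L] [Finite L]
    {c : HexBase.HexGrp σ L} (h2 : (2 : E) ≠ 0) {D : Subgroup X} (hD : IsComponent D) {f : D →* L} {z : D}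
    (x : Ext c f z) {b : D} (hbb : b * b = 1) (hb1 : f b ≠ 1) {u : X} (hu : u ∈ XX (b : X)) {y : X} (hy : y ∈ D) :
    u * y = y * u := by
  have hfb : f b * f b = 1 := by rw [← map_mul, hbb, map_one]
  have hbb' : (b : X) * b = 1 := congrArg Subtype.val hbb
  have hnc : ∃ l ∈ D, (b : X) * l ≠ l * b := by
    by_contra hcon
    push Not at hcon
    apply hb1
    refine c.cen _ fun l => ?_
    obtain ⟨d, rfl⟩ := x.surj l
    rw [← map_mul, ← map_mul]
    congr 1
    exact Subtype.ext (hcon d d.2)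
  obtain ⟨l, hl, hbl⟩ := hnc
  have hb2 : IsPGroup 2 (zpowers (b : X)) := by
    have : Fact (Nat.Prime 2) := ⟨Nat.prime_two⟩
    have h3 : orderOf (b : X) ∣ 2 ^ 1 := orderOf_dvd_of_pow_eq_one (by rw [pow_one, pow_two]; exact hbb')
    obtain ⟨k, -, hk⟩ := (Nat.dvd_prime_pow Nat.prime_two).1 h3
    exact IsPGroup.of_card (n := k) (by rw [Nat.card_zpowers, hk])
  have hN : XX (b : X) ≤ normalizer (D : Set X) := CT.XX_le_normalizer hD b.2 hl hbl rfl hb2
  -- `O(C_D(b)) = 1`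
  have hO : OO (D ⊓ centralizer {(b : X)}) = ⊥ := by
    have hle : OO (D ⊓ centralizer {(b : X)}) ≤ D := (OO_le _).trans inf_le_left
    have h3 : (OO (D ⊓ centralizer {(b : X)})).subgroupOf D = ⊥ := by
      refine x.odd_eq_bot h2 hfb hb1 ?_ ?_ ?_
      · rw [Nat.card_congr (subgroupOfEquivOfLe hle).toEquiv]
        exact (odd_iff_coprime _).1 (odd_OO _)
      · intro n hn
        rw [mem_subgroupOf] at hn
        rw [mem_centralizer_singleton_iff]
        exact Subtype.ext (mem_centralizer_singleton_iff.1 (OO_le _ hn).2)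
      · intro n hn
        have h4 : (n : X) ∈ D ⊓ centralizer {(b : X)} :=
          ⟨n.2, mem_centralizer_singleton_iff.2 (congrArg Subtype.val (mem_centralizer_singleton_iff.1 hn))⟩
        have h5 := le_normalizer_OO _ h4
        rw [mem_normalizer_iff] at h5 ⊢
        intro q
        rw [mem_subgroupOf, mem_subgroupOf]
        exact h5 q
    rw [subgroupOf_eq_bot, disjoint_iff, inf_eq_left.2 hle] at h3
    exact h3
  have hcm : ∀ d ∈ D, d * b = b * d → d * u = u * d := by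
    intro d hd hdb
    have h3 := comm_mem_OO hu (hN hu) hd hdb
    rw [hO, mem_bot, mul_inv_eq_one, mul_inv_eq_iff_eq_mul] at h3
    exact h3
  obtain ⟨α, hα⟩ : ∃ α, α = D.normalizerMonoidHom ⟨u, hN hu⟩ := ⟨_, rfl⟩
  have hαv : ∀ d : D, ((α d : D) : X) = u * d * u⁻¹ := fun d => by rw [hα]; rfl
  have ho : Odd (orderOf u) := by
    rw [← Nat.not_even_iff_odd, even_iff_two_dvd]
    intro h3
    refine odd_XX (b : X) (h3.trans ?_)
    rw [← Subgroup.orderOf_mk u hu]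
    exact orderOf_dvd_natCard _
  have hαm : α ^ orderOf u = 1 := by
    rw [hα, ← map_pow]
    have : (⟨u, hN hu⟩ : normalizer (D : Set X)) ^ orderOf u = 1 := Subtype.ext (pow_orderOf_eq_one u)
    rw [this, map_one]
  have hperf : commutator D = ⊤ := hD.2.1.commutator_eq_top
  have h1 : α = 1 := x.aut h2 hperf hfb hb1 (fun d hd => by
    apply Subtype.ext
    rw [hαv, ← hcm d d.2 (congrArg Subtype.val hd)]
    group) ho hαm
  have h3 := hαv ⟨y, hy⟩
  rw [h1] at h3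
  exact (mul_inv_eq_iff_eq_mul.1 h3.symm)

variable {Om : Set (Subgroup X)}

theorem kab_aux (h : Hyp Om) (ty : ∀ K ∈ Om, Ty K) {D : Subgroup X} (hD : IsComponent D) (hDO : D ∉ Om)
    (htwo : IsPGroup 2 (center D)) {E : Type*} [Field E] [Finite E] {σ : E ≃+* E} {L : Type*} [Group L] [Finite L]
    (c : HexBase.HexGrp σ L) (h2 : (2 : E) ≠ 0) (e : (↥D ⧸ center D) ≃* L) {K J : Subgroup X} (hK : K ∈ Om)
    (hJ : J ∈ Om) (hKD : K ≤ D) (hJD : J ≤ D) (hc : K ≤ centralizer (J : Set X)) (hz : zz K = zz J) {v w : X}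
    (hv : v ∈ K) (hw : w ∈ J) (hvv : v * v = zz K) (hww : w * w = zz J) :
    (∀ b ∈ ({zz K, v * w, v * w * zz K} : Set X), ∀ x ∈ XX b, ∀ y ∈ D, x * y = y * x) ∧
      D ≤ CT.GB {zz K, v * w, v * w * zz K} := by
  have hY : Hyp (restr Om D) := h.restr D
  have hnt : (⊤ : Subgroup D) ∉ restr Om D := by
    intro h3
    rw [mem_restr, ← MonoidHom.range_eq_map, range_subtype] at h3
    exact hDO h3
  have mK : K.subgroupOf D ∈ restr Om D := subgroupOf_mem_restr hK hKD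
  have mJ : J.subgroupOf D ∈ restr Om D := subgroupOf_mem_restr hJ hJD
  have zK : ((zz (K.subgroupOf D) : D) : X) = zz K := by rw [zz_map h mK, map_subgroupOf_eq_of_le hKD]
  have zJ : ((zz (J.subgroupOf D) : D) : X) = zz J := by rw [zz_map h mJ, map_subgroupOf_eq_of_le hJD]
  obtain ⟨f, hx, hcase⟩ := exists_ext c hY (fun N hN => (Ty.restr ty D N hN).isType) hD.2 htwo hnt e h2 mK mJ
    (by
      intro k hk
      rw [mem_centralizer_iff]
      intro j hj
      exact Subtype.ext (mem_centralizer_iff.1 (hc hk) j hj))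
    (Subtype.ext (by rw [zK, zJ, hz]))
  obtain ⟨v', hv'⟩ : ∃ v' : D, v' = ⟨v, hKD hv⟩ := ⟨_, rfl⟩
  obtain ⟨w', hw'⟩ : ∃ w' : D, w' = ⟨w, hJD hw⟩ := ⟨_, rfl⟩
  obtain ⟨z', hz'⟩ : ∃ z' : D, z' = zz (K.subgroupOf D) := ⟨_, rfl⟩
  have cv : (v' : X) = v := by rw [hv']
  have cw : (w' : X) = w := by rw [hw']
  have cz : (z' : X) = zz K := by rw [hz', zK]
  rw [← hz'] at hx
  have mv : f v' ∈ (K.subgroupOf D).map f := ⟨v', by change (v' : X) ∈ K; rw [cv]; exact hv, rfl⟩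
  have mw : f w' ∈ (J.subgroupOf D).map f := ⟨w', by change (w' : X) ∈ J; rw [cw]; exact hw, rfl⟩
  have ev : v' * v' = z' := Subtype.ext (by rw [Subgroup.coe_mul, cv, cz, hvv])
  have ew : w' * w' = z' := Subtype.ext (by rw [Subgroup.coe_mul, cw, cz, hww, hz])
  have hcm : v * w = w * v := (mem_centralizer_iff.1 (hc hv) w hw).symm
  have hcm' : v' * w' = w' * v' := Subtype.ext (by rw [Subgroup.coe_mul, Subgroup.coe_mul, cv, cw, hcm])
  have hzz' : z' * z' = 1 := Subtype.ext (by rw [Subgroup.coe_mul, cz]; exact h.zz_mul hK)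
  have hzv : v' * z' = z' * v' := by rw [← ev]; group
  have hzw : w' * z' = z' * w' := by rw [← ew]; group
  -- involutions
  have hvw2 : v' * w' * (v' * w') = 1 := by
    calc v' * w' * (v' * w') = v' * (w' * v') * w' := by group
      _ = (v' * v') * (w' * w') := by rw [← hcm']; group
      _ = 1 := by rw [ev, ew, hzz']
  have hvwz2 : v' * w' * z' * (v' * w' * z') = 1 := by
    calc v' * w' * z' * (v' * w' * z') = v' * w' * (z' * v') * w' * z' := by group
      _ = v' * w' * v' * (z' * w') * z' := by rw [← hzv]; group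
      _ = (v' * w' * (v' * w')) * (z' * z') := by rw [← hzw]; group
      _ = 1 := by rw [hvw2, hzz', one_mul]
  have hfz1 : f z' ≠ 1 := by rw [hx.fz]; exact c.z_ne h2
  -- the main facts, in both cases
  have main : f (v' * w') ≠ 1 ∧ f (v' * w' * z') ≠ 1 ∧ ∀ M : Subgroup D, centralizer {z'} ≤ M →
      centralizer {v' * w'} ≤ M → M = ⊤ := by
    rcases hcase with ⟨k1, k4⟩ | ⟨k4, k1⟩
    · rw [k1] at mv
      rw [k4] at mw
      obtain ⟨i1, i2, i3, i4⟩ := hx.invol h2 mv mw ev ew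
      exact ⟨i2, i4, fun M h3 h4 => hx.gen h2 mv mw ev ew h3 h4 i1 i2⟩
    · rw [k1] at mw
      rw [k4] at mv
      obtain ⟨i1, i2, i3, i4⟩ := hx.invol h2 mw mv ew ev
      rw [hcm']
      exact ⟨i2, i4, fun M h3 h4 => hx.gen h2 mw mv ew ev h3 h4 i1 i2⟩
  obtain ⟨n1, n2, hgen⟩ := main
  have hX : ∀ b ∈ ({zz K, v * w, v * w * zz K} : Set X), ∀ x ∈ XX b, ∀ y ∈ D, x * y = y * x := by
    rintro b (rfl | rfl | rfl) x hxb y hy
    · rw [← cz] at hxb
      exact XX_comm h2 hD hx hzz' hfz1 hxb hy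
    · have e3 : v * w = ((v' * w' : D) : X) := by rw [Subgroup.coe_mul, cv, cw]
      rw [e3] at hxb
      exact XX_comm h2 hD hx hvw2 n1 hxb hy
    · have e3 : v * w * zz K = ((v' * w' * z' : D) : X) := by
        rw [Subgroup.coe_mul, Subgroup.coe_mul, cv, cw, cz]
      rw [e3] at hxb
      exact XX_comm h2 hD hx hvwz2 n2 hxb hy
  refine ⟨hX, ?_⟩
  have hin : ∀ b : D, (b : X) ∈ ({zz K, v * w, v * w * zz K} : Set X) →
      centralizer {b} ≤ (CT.GB {zz K, v * w, v * w * zz K}).subgroupOf D := by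
    intro b hb d hd
    rw [mem_subgroupOf]
    refine CT.le_GB hb ⟨?_, ?_⟩
    · exact mem_centralizer_singleton_iff.2 (congrArg Subtype.val (mem_centralizer_singleton_iff.1 hd))
    · refine mem_centralizer_iff.2 fun x hxb => ?_
      exact hX b hb x hxb d d.2
  have h3 := hgen ((CT.GB {zz K, v * w, v * w * zz K}).subgroupOf D)
    (hin z' (by rw [cz]; exact Or.inl rfl))
    (hin (v' * w') (by rw [Subgroup.coe_mul, cv, cw]; exact Or.inr (Or.inl rfl)))
  exact subgroupOf_eq_top.1 h3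

/-- **KAB for the pieces `G₂(q)`, `³D₄(q)`** -/
theorem kab_hex_all (h : Hyp Om) (ty : ∀ K ∈ Om, Ty K) {D : Subgroup X} (hD : IsComponent D) (g : PieceG2 Om D)
    {K J : Subgroup X} (hK : K ∈ Om) (hJ : J ∈ Om) (hKD : K ≤ D) (hJD : J ≤ D)
    (hc : K ≤ centralizer (J : Set X)) (hz : zz K = zz J) {v w : X}
    (hv : v ∈ K) (hw : w ∈ J) (hvv : v * v = zz K) (hww : w * w = zz J) :
    (∀ b ∈ ({zz K, v * w, v * w * zz K} : Set X), ∀ x ∈ XX b, ∀ y ∈ D, x * y = y * x) ∧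
      D ≤ CT.GB {zz K, v * w, v * w * zz K} := by
  obtain ⟨p, F, _, _, _, hp, hp2, hiso⟩ := g.iso
  have h2 : (2 : F) ≠ 0 := CoreOneHex.two_ne_zero_of_char hp2 F
  rcases hiso with ⟨⟨e⟩⟩ | ⟨q, hq, hF, ⟨e⟩⟩
  · have : Finite (Lie.chevG2.group F) := Finite.of_equiv _ e.toEquiv
    exact kab_aux h ty hD g.nmem g.two (HexG2.g2 F h2) h2 e hK hJ hKD hJD hc hz hv hw hvv hww
  · have : Finite (Lie.twistedD4 F q) := Finite.of_equiv _ e.toEquiv
    obtain ⟨σ, -, ⟨c⟩⟩ := HexD4.exists_d4 hF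
    exact kab_aux h ty hD g.nmem g.two c h2 e hK hJ hKD hJD hc hz hv hw hvv hww

end group

end Cfsg.Agent.Cit.Four.KABHex

namespace Cfsg.Agent.Cit.Four

open Subgroup Cfsg Cfsg.Agent.Cit

/-- **KAB for the pieces `G₂(q)`, `³D₄(q)`** (the form of helper533) -/
theorem kab_hex {X : Type*} [Group X] [Finite X] {Om : Set (Subgroup X)} (h : Hyp Om) (ty : ∀ K ∈ Om, Ty K)
    {D : Subgroup X} (hD : IsComponent D) (g : PieceG2 Om D) {K L : Subgroup X} (hK : K ∈ Om) (hL : L ∈ Om)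
    (hKD : K ≤ D) (hLD : L ≤ D) (_hne : K ≠ L) (hc : K ≤ centralizer (L : Set X)) (hz : zz K = zz L) {v w : X}
    (hv : v ∈ K) (hw : w ∈ L) (hvv : v * v = zz K) (hww : w * w = zz L) :
    (∀ x ∈ XX (v * w), x * zz K = zz K * x) ∧ D ≤ CT.GB {zz K, v * w, v * w * zz K} := by
  obtain ⟨h1, h2⟩ := KABHex.kab_hex_all h ty hD g hK hL hKD hLD hc hz hv hw hvv hww
  exact ⟨fun x hx => h1 _ (Or.inr (Or.inl rfl)) x hx _ (hKD (h.zz_mem hK)), h2⟩

end Cfsg.Agent.Cit.Four
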