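import Cfsg.Agent.Cit.Four.Defs
import Cfsg.Agent.Cit.FourChart
import Cfsg.Agent.Cit.TypeDet.Mathieu
import Cfsg.Agent.Cit.UseT2

/-!
# `n = 4`, `τ = 2` : the types of the pieces, in a group `X` with `HasPieces`

`F` a class of members of `X` with pieces, at most four members commute, `J 0`, ..., `J 3` commuting members with
`zz (J 0) = zz (J 1)`, `zz (J 2) = zz (J 3)`.

* `not_central` : `zz K` is not central in the piece of `K` unless this piece is `K`;
* `false_of_mathieu_two` : no two commuting members with the same non-central involution in a piece of type `M₁₁`;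
* `at_z` : `zz (J 0)` central in `X`: `F = {J 0, ..., J 3}` or the piece of `J 2` contains `J 3` and is of type `C 2`, `A 3`,
  `B 3` or `G₂`;
* `at_e` : `zz (J 0) * zz (J 2)` central in `X`, `F` one class: `F = {J 0, ..., J 3}` or all `J i` are in a piece of type
  `D 4`.
-/

set_option autoImplicit false
set_option linter.style.haveILetI false
set_option linter.unusedSectionVars false

namespace Cfsg.Agent.Cit.Four

open Subgroup Cfsg Cfsg.Agent.Cit SubCent UseT Branches Cfsg.Agent.Nodes.Chart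
open Cfsg.Agent.Cit.TypeDet (cm)

universe u

section

variable {X : Type*} [Group X] [Finite X] {F : Set (Subgroup X)}

theorem not_cm_self (h : Hyp F) {K : Subgroup X} (hK : K ∈ F) : ¬ cm K K := fun h1 =>
  h.not_le_centralizer_self hK (TypeDet.cm_iff_le_centralizer.1 h1)

theorem ne_of_cm (h : Hyp F) {K L : Subgroup X} (hK : K ∈ F) (h1 : cm K L) : K ≠ L := by
  rintro rfl
  exact not_cm_self h hK h1

/-- a member commutes with the members centralising its involution -/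
theorem cm_of_zz (h : Hyp F) (hc : ∀ K ∈ F, OO K = ⊥) {K L : Subgroup X} (hK : K ∈ F) (hL : L ∈ F) (hne : L ≠ K)
    (hz : ∀ x ∈ L, x * zz K = zz K * x) : cm L K := by
  obtain ⟨Q, hQ⟩ := Hyp.exists_syl L
  obtain ⟨S, hS, -, hLS, hKS⟩ := PairComm.exists_common' h hL hK hQ fun a ha => hz a (hQ.1 ha)
  exact TypeDet.cm_iff_le_centralizer.2 (comm_of_core h hc hS hLS hKS hne)

/-- if `zz K` centralises the piece of `K` then the piece is `K` -/
theorem not_central (h : Hyp F) (hc : ∀ K ∈ F, OO K = ⊥) {K : Subgroup X} (hK : K ∈ F)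
    (hz : ∀ x ∈ pc F K, x * zz K = zz K * x) : pc F K = K := by
  refine pc_eq_self fun J hJ hne => ?_
  by_cases h1 : pc F J = pc F K
  · exact TypeDet.cm_iff_le_centralizer.1 (cm_of_zz h hc hK hJ hne fun x hx => hz x (by rw [← h1]; exact le_pc hx))
  · exact (le_pc.trans (pc_comm hJ hK h1)).trans (centralizer_le le_pc)

/-- members of different pieces commute -/
theorem cm_of_pc_ne {K L : Subgroup X} (hK : K ∈ F) (hL : L ∈ F) (hne : pc F K ≠ pc F L) : cm K L :=
  TypeDet.cm_iff_le_centralizer.2 ((le_pc.trans (pc_comm hK hL hne)).trans (centralizer_le le_pc))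

theorem cm_pc {K L : Subgroup X} (hK : K ∈ F) (hL : L ∈ F) (hne : pc F K ≠ pc F L) : cm K (pc F L) :=
  TypeDet.cm_iff_le_centralizer.2 (le_pc.trans (pc_comm hK hL hne))

/-- a member in the piece of `L` -/
theorem le_pc_iff (h : Hyp F) {K L : Subgroup X} (hK : K ∈ F) (hL : L ∈ F) : K ≤ pc F L ↔ pc F K = pc F L := by
  constructor
  · intro h1
    by_contra h2
    exact not_cm_self h hK (TypeDet.cm_mono le_rfl h1 (cm_pc hK hL h2))
  · intro h1
    rw [← h1]; exact le_pc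

/-! ### `M₁₁` -/

open Cfsg.Agent.Cit.TypeDet in
/-- no two commuting members with the same non-central involution in a group with `|D / Z(D)| = 7920` -/
theorem false_of_card_two (hyp : Hyp F) {D : Subgroup X} (hD : Nat.card (↥D ⧸ center D) = 7920)
    {K J : Subgroup X} (hK : K ∈ F) (hJ : J ∈ F) (hKD : K ≤ D) (hJD : J ≤ D)
    (h1 : cm K J) (hz : zz K = zz J) (hnz : ¬ ∀ x ∈ D, x * zz K = zz K * x) : False := by
  have : Fact (Nat.Prime 2) := ⟨Nat.prime_two⟩
  obtain ⟨Q₁, hQ₁⟩ := Hyp.exists_syl K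
  obtain ⟨Q₂, hQ₂⟩ := Hyp.exists_syl J
  obtain ⟨c₁, v₁, n₁, q₁⟩ := hyp.exists_gq hK hQ₁
  obtain ⟨c₂, v₂, n₂, q₂⟩ := hyp.exists_gq hJ hQ₂
  have cm12 : ∀ x ∈ Q₁, ∀ y ∈ Q₂, x * y = y * x := fun x hx y hy => h1 x (hQ₁.1 hx) y (hQ₂.1 hy)
  -- the 2-group
  have hP : IsPGroup 2 ↥(Q₂ ⊔ Q₁) := by
    refine IsPGroup.to_sup_of_normal_right' hQ₂.2.1 hQ₁.2.1 ?_
    exact (cm_iff_le_centralizer.mp (cm_symm cm12)).trans (centralizer_le_normalizer _)
  set P := Q₂ ⊔ Q₁ with hPdef
  have hPD : P ≤ D := sup_le (hQ₂.1.trans hJD) (hQ₁.1.trans hKD)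
  set E := ↥D ⧸ center D
  let π : ↥D →* E := QuotientGroup.mk' (center D)
  let PP : Subgroup E := (P.subgroupOf D).map π
  have hPP : IsPGroup 2 PP := (hP.comap_of_injective D.subtype D.subtype_injective).map π
  obtain ⟨n, hn⟩ := IsPGroup.iff_card.mp hPP
  have hdvd : 2 ^ n ∣ 7920 := by
    rw [← hn, ← hD]
    exact card_subgroup_dvd_card PP
  have hn4 : n ≤ 4 := by
    by_contra hcon
    have h5 : 2 ^ 5 ∣ 7920 := (pow_dvd_pow 2 (by omega : 5 ≤ n)).trans hdvd
    omega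
  -- the involution
  have zQ1 : zz K ∈ Q₁ := by
    have h3 := zz_spec (K := Q₁) ⟨_, q₁.z_mem, q₁.orderOf_z⟩
    rw [← hyp.uniq K hK _ (hQ₁.1 h3.1) h3.2]
    exact h3.1
  have zc1 : ∀ y ∈ Q₁, zz K * y = y * zz K := fun y hy => (hyp.comm_zz hK (le_normalizer (hQ₁.1 hy))).symm
  have zc2 : ∀ y ∈ Q₂, zz K * y = y * zz K := fun y hy => by
    rw [hz]
    exact (hyp.comm_zz hJ (le_normalizer (hQ₂.1 hy))).symm
  have zsq : zz K * zz K = 1 := hyp.zz_mul hK
  -- the 32 elements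
  let Y := (Bool × Bool) × (Bool × Bool) × Bool
  let ze : Bool → X := fun b => if b then zz K else 1
  have m1 : ∀ a, TypeDet.four c₁ v₁ a ∈ Q₁ := four_mem q₁.c_mem q₁.v_mem
  have m2 : ∀ a, TypeDet.four c₂ v₂ a ∈ Q₂ := four_mem q₂.c_mem q₂.v_mem
  have m3 : ∀ b, ze b ∈ Q₁ := by
    intro b
    cases b
    · exact one_mem _
    · exact zQ1
  have z1 : ∀ b, ∀ y ∈ Q₁, ze b * y = y * ze b := by
    intro b y hy
    cases b
    · change 1 * y = y * 1
      rw [one_mul, mul_one]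
    · exact zc1 y hy
  have z2 : ∀ b, ∀ y ∈ Q₂, ze b * y = y * ze b := by
    intro b y hy
    cases b
    · change 1 * y = y * 1
      rw [one_mul, mul_one]
    · exact zc2 y hy
  have mP : ∀ x : Y, TypeDet.four c₁ v₁ x.1 * TypeDet.four c₂ v₂ x.2.1 * ze x.2.2 ∈ P := fun x =>
    mul_mem (mul_mem ((le_sup_right : Q₁ ≤ P) (m1 _)) ((le_sup_left : Q₂ ≤ P) (m2 _)))
      ((le_sup_right : Q₁ ≤ P) (m3 _))
  let f : Y → PP := fun x => ⟨π ⟨_, hPD (mP x)⟩, ⟨⟨_, hPD (mP x)⟩, mP x, rfl⟩⟩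
  have hf : Function.Injective f := by
    rintro ⟨a, b, d⟩ ⟨a', b', d'⟩ hxy
    have e1 : π ⟨_, hPD (mP (a, b, d))⟩ = π ⟨_, hPD (mP (a', b', d'))⟩ := congrArg Subtype.val hxy
    have e2 := (QuotientGroup.eq (s := center D)).mp e1
    set A := TypeDet.four c₁ v₁ a
    set A' := TypeDet.four c₁ v₁ a'
    set B := TypeDet.four c₂ v₂ b
    set B' := TypeDet.four c₂ v₂ b'
    have e3 : ∀ y ∈ D, (A * B * ze d)⁻¹ * (A' * B' * ze d') * y = y * ((A * B * ze d)⁻¹ * (A' * B' * ze d')) := by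
      intro y hy
      exact (congrArg Subtype.val (mem_center_iff.mp e2 ⟨y, hy⟩)).symm
    have hA : A ∈ Q₁ := m1 _
    have hA' : A' ∈ Q₁ := m1 _
    have hB : B ∈ Q₂ := m2 _
    have hB' : B' ∈ Q₂ := m2 _
    have hBB : B⁻¹ * B' ∈ Q₂ := mul_mem (inv_mem hB) hB'
    have hAA : A⁻¹ * A' ∈ Q₁ := mul_mem (inv_mem hA) hA'
    have hdd1 : ∀ y ∈ Q₁, (ze d)⁻¹ * ze d' * y = y * ((ze d)⁻¹ * ze d') := by
      intro y hy
      have i1 : (ze d)⁻¹ * y = y * (ze d)⁻¹ := by
        have := z1 d y hy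
        rw [inv_mul_eq_iff_eq_mul, ← mul_assoc, this, mul_inv_cancel_right]
      rw [mul_assoc, z1 d' y hy, ← mul_assoc, i1, mul_assoc]
    have hdd2 : ∀ y ∈ Q₂, (ze d)⁻¹ * ze d' * y = y * ((ze d)⁻¹ * ze d') := by
      intro y hy
      have i1 : (ze d)⁻¹ * y = y * (ze d)⁻¹ := by
        have := z2 d y hy
        rw [inv_mul_eq_iff_eq_mul, ← mul_assoc, this, mul_inv_cancel_right]
      rw [mul_assoc, z2 d' y hy, ← mul_assoc, i1, mul_assoc]
    have e4 : (A * B * ze d)⁻¹ * (A' * B' * ze d') = (A⁻¹ * A') * ((B⁻¹ * B') * ((ze d)⁻¹ * ze d')) := by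
      have j1 : (ze d)⁻¹ * B⁻¹ = B⁻¹ * (ze d)⁻¹ := by
        have := z2 d _ (inv_mem hB)
        rw [inv_mul_eq_iff_eq_mul, ← mul_assoc, this, mul_inv_cancel_right]
      have j2 : (ze d)⁻¹ * (A⁻¹ * A') = (A⁻¹ * A') * (ze d)⁻¹ := by
        have := z1 d _ hAA
        rw [inv_mul_eq_iff_eq_mul, ← mul_assoc, this, mul_inv_cancel_right]
      have j3 : (ze d)⁻¹ * B' = B' * (ze d)⁻¹ := by
        have := z2 d _ hB'
        rw [inv_mul_eq_iff_eq_mul, ← mul_assoc, this, mul_inv_cancel_right]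
      calc (A * B * ze d)⁻¹ * (A' * B' * ze d') = (ze d)⁻¹ * B⁻¹ * (A⁻¹ * A') * (B' * ze d') := by group
        _ = B⁻¹ * (ze d)⁻¹ * (A⁻¹ * A') * (B' * ze d') := by rw [j1]
        _ = B⁻¹ * ((ze d)⁻¹ * (A⁻¹ * A')) * (B' * ze d') := by group
        _ = B⁻¹ * ((A⁻¹ * A') * (ze d)⁻¹) * (B' * ze d') := by rw [j2]
        _ = (B⁻¹ * (A⁻¹ * A')) * ((ze d)⁻¹ * B') * ze d' := by group
        _ = ((A⁻¹ * A') * B⁻¹) * (B' * (ze d)⁻¹) * ze d' := by rw [← cm12 _ hAA _ (inv_mem hB), j3]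
        _ = _ := by group
    -- commuting with the two groups
    have r1 : ∀ y ∈ Q₁, (A⁻¹ * A') * y = y * (A⁻¹ * A') := by
      intro y hy
      have h4 := e3 y (hKD (hQ₁.1 hy))
      rw [e4] at h4
      refine comm_of_mul h4 ?_
      calc (B⁻¹ * B') * ((ze d)⁻¹ * ze d') * y = (B⁻¹ * B') * ((ze d)⁻¹ * ze d' * y) := by group
        _ = (B⁻¹ * B') * (y * ((ze d)⁻¹ * ze d')) := by rw [hdd1 y hy]
        _ = ((B⁻¹ * B') * y) * ((ze d)⁻¹ * ze d') := by group
        _ = (y * (B⁻¹ * B')) * ((ze d)⁻¹ * ze d') := by rw [cm12 y hy _ hBB]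
        _ = _ := by group
    have r2 : ∀ y ∈ Q₂, (B⁻¹ * B') * y = y * (B⁻¹ * B') := by
      intro y hy
      have h4 := e3 y (hJD (hQ₂.1 hy))
      have e5 : (A * B * ze d)⁻¹ * (A' * B' * ze d') = (B⁻¹ * B') * ((A⁻¹ * A') * ((ze d)⁻¹ * ze d')) := by
        rw [e4, ← mul_assoc, cm12 _ hAA _ hBB, mul_assoc]
      rw [e5] at h4
      refine comm_of_mul h4 ?_
      calc (A⁻¹ * A') * ((ze d)⁻¹ * ze d') * y = (A⁻¹ * A') * ((ze d)⁻¹ * ze d' * y) := by group
        _ = (A⁻¹ * A') * (y * ((ze d)⁻¹ * ze d')) := by rw [hdd2 y hy]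
        _ = ((A⁻¹ * A') * y) * ((ze d)⁻¹ * ze d') := by group
        _ = (y * (A⁻¹ * A')) * ((ze d)⁻¹ * ze d') := by rw [cm12 _ hAA y hy]
        _ = _ := by group
    have t1 : a = a' := four_inj (fun h => q₁.not_comm h.symm) (r1 _ q₁.c_mem) (r1 _ q₁.v_mem)
    have t2 : b = b' := four_inj (fun h => q₂.not_comm h.symm) (r2 _ q₂.c_mem) (r2 _ q₂.v_mem)
    have t3 : d = d' := by
      have hA1 : A⁻¹ * A' = 1 := by
        change (TypeDet.four c₁ v₁ a)⁻¹ * TypeDet.four c₁ v₁ a' = 1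
        rw [t1, inv_mul_cancel]
      have hB1 : B⁻¹ * B' = 1 := by
        change (TypeDet.four c₂ v₂ b)⁻¹ * TypeDet.four c₂ v₂ b' = 1
        rw [t2, inv_mul_cancel]
      rw [hA1, hB1, one_mul, one_mul] at e4
      by_contra hne
      apply hnz
      intro x hx
      have h4 := e3 x hx
      rw [e4] at h4
      cases d <;> cases d'
      · exact absurd rfl hne
      · have h5 : (1 : X)⁻¹ * zz K * x = x * ((1 : X)⁻¹ * zz K) := h4
        rw [inv_one, one_mul] at h5
        exact h5.symm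
      · have h5 : (zz K)⁻¹ * 1 * x = x * ((zz K)⁻¹ * 1) := h4
        rw [mul_one, hyp.zz_inv hK] at h5
        exact h5.symm
      · exact absurd rfl hne
    rw [t1, t2, t3]
  have h32 : 32 ≤ Nat.card PP := by
    have h4 := Nat.card_le_card_of_injective f hf
    have h5 : Nat.card Y = 32 := by
      rw [Nat.card_eq_fintype_card]
      decide
    omega
  rw [hn] at h32
  have h16 : 2 ^ n ≤ 2 ^ 4 := Nat.pow_le_pow_right (by norm_num) hn4
  omega

/-- no two commuting members with the same non-central involution in a piece of type `M₁₁` -/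
theorem false_of_mathieu_two (hyp : Hyp F) {D : Subgroup X} (hD : Spor.IsoM11 (↥D ⧸ center D))
    {K J : Subgroup X} (hK : K ∈ F) (hJ : J ∈ F) (hKD : K ≤ D) (hJD : J ≤ D)
    (h1 : cm K J) (hz : zz K = zz J) (hnz : ¬ ∀ x ∈ D, x * zz K = zz K * x) : False := by
  obtain ⟨e⟩ := hD
  refine false_of_card_two hyp ?_ hK hJ hKD hJD h1 hz hnz
  rw [Nat.card_congr e.toEquiv]
  exact TypeDet.card_M11'

/-! ### The structure of the members -/

/-- the hypotheses -/
structure FourX (F : Set (Subgroup X)) (J : Fin 4 → Subgroup X) : Prop where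
  hyp : Hyp F
  pieces : HasPieces F
  five : ∀ C ⊆ F, (∀ K ∈ C, ∀ L ∈ C, K ≠ L → cm K L) → C.ncard ≤ 4
  mem : ∀ i, J i ∈ F
  comm : ∀ i j, i ≠ j → cm (J i) (J j)
  z01 : zz (J 0) = zz (J 1)
  z23 : zz (J 2) = zz (J 3)

namespace FourX

variable {J : Fin 4 → Subgroup X} (T : FourX F J)

include T

theorem core : ∀ K ∈ F, OO K = ⊥ := T.pieces.core

theorem ne {i j : Fin 4} (hij : i ≠ j) : J i ≠ J j := ne_of_cm T.hyp (T.mem i) (T.comm i j hij)

theorem injective : Function.Injective J := by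
  intro i j hij
  by_contra hne
  exact T.ne hne hij

/-- no fifth member commuting with all -/
theorem false_of_cm {L : Subgroup X} (hL : L ∈ F) (h : ∀ i, cm L (J i)) : False := by
  have h1 : L ∉ Set.range J := by
    rintro ⟨i, rfl⟩
    exact not_cm_self T.hyp (T.mem i) (h i)
  have h2 := T.five (insert L (Set.range J)) (by
    rintro K (rfl | ⟨i, rfl⟩)
    · exact hL
    · exact T.mem i) (by
    rintro K (rfl | ⟨i, rfl⟩) M (rfl | ⟨j, rfl⟩) hne
    · exact absurd rfl hne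
    · exact h j
    · exact TypeDet.cm_symm (h i)
    · exact T.comm i j (fun e => hne (by rw [e])))
  rw [Set.ncard_insert_of_notMem h1 (Set.toFinite _), Set.ncard_range_of_injective T.injective,
    Nat.card_eq_fintype_card, Fintype.card_fin] at h2
  omega

/-- if all `J i` are pieces then there are no other members -/
theorem mem_range_of_single (h : ∀ i, pc F (J i) = J i) {L : Subgroup X} (hL : L ∈ F) : ∃ i, L = J i := by
  by_contra hcon
  push Not at hcon
  refine T.false_of_cm hL fun i => cm_of_pc_ne hL (T.mem i) fun h1 => hcon i ?_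
  rw [h] at h1
  exact T.hyp.eq_of_le hL (T.mem i) (by rw [← h1]; exact le_pc)

/-- twins are in the same piece, unless it is a member -/
theorem pc_eq_of_zz {i j : Fin 4} (hz : zz (J i) = zz (J j)) (hi : pc F (J i) ≠ J i) :
    pc F (J j) = pc F (J i) := by
  by_contra hne
  apply hi
  refine not_central T.hyp T.core (T.mem i) fun x hx => ?_
  rw [hz]
  exact (cm_pc (T.mem j) (T.mem i) hne (zz (J j)) (T.hyp.zz_mem (T.mem j)) x hx).symm

theorem single_of_central {i : Fin 4} (hz : ∀ x : X, x * zz (J i) = zz (J i) * x) : pc F (J i) = J i :=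
  not_central T.hyp T.core (T.mem i) fun x _ => hz x

/-- **the pieces at `z`** -/
theorem at_z_pc (hz : ∀ x : X, x * zz (J 0) = zz (J 0) * x) :
    (∀ L ∈ F, ∃ i, L = J i) ∨ (J 3 ≤ pc F (J 2) ∧
      (PieceTy F (pc F (J 2)) (.C 2) ∨ PieceTy F (pc F (J 2)) (.A 3) ∨ PieceTy F (pc F (J 2)) (.B 3) ∨
        PieceG2 F (pc F (J 2)))) := by
  have hs0 : pc F (J 0) = J 0 := T.single_of_central hz
  have hs1 : pc F (J 1) = J 1 := T.single_of_central fun x => by rw [← T.z01]; exact hz x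
  by_cases h2 : pc F (J 2) = J 2
  · left
    have h3 : pc F (J 3) = J 3 := by
      by_contra h3
      have h4 := T.pc_eq_of_zz (i := 3) (j := 2) T.z23.symm h3
      rw [h2] at h4
      have h5 : J 3 = J 2 := T.hyp.eq_of_le (T.mem 3) (T.mem 2) (by rw [h4]; exact le_pc)
      exact T.ne (by decide) h5
    intro L hL
    refine T.mem_range_of_single (fun i => ?_) hL
    fin_cases i
    · exact hs0
    · exact hs1
    · exact h2
    · exact h3
  · right
    have h3 : pc F (J 3) = pc F (J 2) := T.pc_eq_of_zz T.z23 h2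
    have hnm := (T.pieces.eq_or_quasisimple T.hyp (T.mem 2)).resolve_left h2
    have hl2 : J 2 ≤ pc F (J 2) := le_pc
    have hl3 : J 3 ≤ pc F (J 2) := by rw [← h3]; exact le_pc
    have hnz : ¬ ∀ x ∈ pc F (J 2), x * zz (J 2) = zz (J 2) * x := fun h4 =>
      h2 (not_central T.hyp T.core (T.mem 2) h4)
    have hp := T.pieces.piece T.hyp (T.mem 2)
    have hne0 : pc F (J 2) ≠ pc F (J 0) := by
      intro e
      apply hnm.1
      rw [e, hs0]; exact T.mem 0
    have hne1 : pc F (J 2) ≠ pc F (J 1) := by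
      intro e
      apply hnm.1
      rw [e, hs1]; exact T.mem 1
    have hmax : ∀ L ∈ F, L ≤ pc F (J 2) → cm L (J 2) → cm L (J 3) → False := by
      intro L hL hLD hL2 hL3
      have h4 := (le_pc_iff T.hyp hL (T.mem 2)).1 hLD
      refine T.false_of_cm hL fun i => ?_
      fin_cases i
      · exact cm_of_pc_ne hL (T.mem 0) (by rw [h4]; exact hne0)
      · exact cm_of_pc_ne hL (T.mem 1) (by rw [h4]; exact hne1)
      · exact hL2
      · exact hL3
    refine ⟨hl3, ?_⟩
    generalize pc F (J 2) = D at hnm hl2 hl3 hp hnz hmax ⊢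
    cases hp with
    | single mem => exact absurd mem hnm.1
    | chart nmem qs two p c τ kind ok small sl zx =>
      have h4 := FourTypes.types_ty T.hyp c kind ok (T.mem 2) (T.mem 3) hl2 hl3 (T.comm 2 3 (by decide)) T.z23 hmax
      rcases h4 with rfl | rfl | rfl
      · exact Or.inr (Or.inl ⟨nmem, qs, two, p, c, kind, small, sl, zx⟩)
      · exact Or.inr (Or.inr (Or.inl ⟨nmem, qs, two, p, c, kind, small, sl, zx⟩))
      · exact Or.inl ⟨nmem, qs, two, p, c, kind, small, sl, zx⟩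
    | exc qs two p prime odd iso ne zzc three =>
      obtain ⟨K, i1, i2, i3, i4⟩ := iso
      exact Or.inr (Or.inr (Or.inr ⟨hnm.1, qs, two, ⟨p, K, i1, i2, i3, prime, odd, i4⟩, zzc, three⟩))
    | mathieu qs two iso ne mem =>
      exfalso
      exact false_of_mathieu_two T.hyp iso (T.mem 2) (T.mem 3) hl2 hl3 (T.comm 2 3 (by decide)) T.z23 hnz

theorem at_z (hz : ∀ x : X, x * zz (J 0) = zz (J 0) * x) :
    (∀ L ∈ F, ∃ i, L = J i) ∨ ∃ D, J 2 ≤ D ∧ J 3 ≤ D ∧
      (PieceTy F D (.C 2) ∨ PieceTy F D (.A 3) ∨ PieceTy F D (.B 3) ∨ PieceG2 F D) := by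
  rcases T.at_z_pc hz with h1 | ⟨h1, h2⟩
  · exact Or.inl h1
  · exact Or.inr ⟨_, le_pc, h1, h2⟩

/-- **the pieces at `e`** -/
theorem at_e (hz : ∀ x : X, x * (zz (J 0) * zz (J 2)) = zz (J 0) * zz (J 2) * x)
    (htr : ∀ K ∈ F, ∀ L ∈ F, ∃ g, cj g K = L) :
    (∀ L ∈ F, ∃ i, L = J i) ∨ ∃ D, (∀ i, J i ≤ D) ∧ PieceTy F D (.D 4) := by
  by_cases h0 : pc F (J 0) = J 0
  · left
    intro L hL
    refine T.mem_range_of_single (fun i => ?_) hL
    obtain ⟨g, hg⟩ := htr _ (T.mem 0) _ (T.mem i)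
    rw [← hg, ← cj_pc T.hyp.conj, h0]
  · right
    have h1 : pc F (J 1) = pc F (J 0) := T.pc_eq_of_zz T.z01 h0
    have hsq : zz (J 2) * zz (J 2) = 1 := T.hyp.zz_mul (T.mem 2)
    have hnz : ¬ ∀ x ∈ pc F (J 0), x * zz (J 0) = zz (J 0) * x := fun h4 =>
      h0 (not_central T.hyp T.core (T.mem 0) h4)
    -- `z'` is not central in the piece
    have hnz2 : ¬ ∀ x ∈ pc F (J 0), x * zz (J 2) = zz (J 2) * x := by
      intro h4
      apply hnz
      intro x hx
      have h5 := hz x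
      have h6 := h4 x hx
      have h7 : x * zz (J 0) * zz (J 2) = zz (J 0) * x * zz (J 2) := by
        rw [mul_assoc, h5, mul_assoc, ← h6, mul_assoc]
      exact mul_right_cancel h7
    have hin : ∀ i, zz (J 2) = zz (J i) → pc F (J i) = pc F (J 0) := by
      intro i hi
      by_contra hne
      apply hnz2
      intro x hx
      rw [hi]
      exact (cm_pc (T.mem i) (T.mem 0) hne (zz (J i)) (T.hyp.zz_mem (T.mem i)) x hx).symm
    have h2 : pc F (J 2) = pc F (J 0) := hin 2 rfl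
    have h3 : pc F (J 3) = pc F (J 0) := hin 3 T.z23
    have hle : ∀ i, J i ≤ pc F (J 0) := by
      intro i
      fin_cases i
      · exact le_pc
      · exact le_pc.trans h1.le
      · exact le_pc.trans h2.le
      · exact le_pc.trans h3.le
    have hnm := (T.pieces.eq_or_quasisimple T.hyp (T.mem 0)).resolve_left h0
    have hp := T.pieces.piece T.hyp (T.mem 0)
    refine ⟨pc F (J 0), hle, ?_⟩
    generalize pc F (J 0) = D at hnm hle hp ⊢
    cases hp with
    | single mem => exact absurd mem hnm.1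
    | chart nmem qs two p c τ kind ok small sl zx =>
      obtain ⟨h4, h5⟩ := FourTypes.isTy_D_four T.hyp c (F := J) (fun i => ⟨T.mem i, hle i⟩) T.comm T.z01 T.z23
        (fun x _ => hz x)
      exact ⟨nmem, qs, two, p, c, h4, small, sl, Or.inl h5⟩
    | exc qs two p prime odd iso ne zzc three =>
      exfalso
      have h4 := three (J 0) (T.mem 0) (J 1) (T.mem 1) (J 2) (T.mem 2) (hle 0) (hle 1) (hle 2)
        (TypeDet.cm_iff_le_centralizer.1 (T.comm 0 1 (by decide)))
        (TypeDet.cm_iff_le_centralizer.1 (T.comm 0 2 (by decide)))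
        (TypeDet.cm_iff_le_centralizer.1 (T.comm 1 2 (by decide)))
      rcases h4 with h4 | h4 | h4
      · exact T.ne (by decide) h4
      · exact T.ne (by decide) h4
      · exact T.ne (by decide) h4
    | mathieu qs two iso ne mem =>
      exfalso
      exact TypeDet.false_of_mathieu T.hyp iso (T.mem 0) (T.mem 1) (T.mem 2) (hle 0) (hle 1) (hle 2)
        (T.comm 0 1 (by decide)) (T.comm 0 2 (by decide)) (T.comm 1 2 (by decide))

end FourX

end

end Cfsg.Agent.Cit.Four
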