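import Cfsg.Agent.Cit.Four.Skel
import Cfsg.Agent.Cit.Four.TypesX
import Cfsg.Agent.Cit.CovES

/-!
# `n = 4`, `τ = 2` : the types of the pieces

* `exists_lift_family` : commuting families of traces lift to some `Om(T)`, `T ≤ H`;
* `TwoTwo.cj`, `TwoTwo.exists_of`, `TwoTwo.card`, `TwoTwo.tauTwo` : the configuration for all Sylow 2-subgroups;
* `types : Types`.
-/

set_option autoImplicit false
set_option linter.style.haveILetI false
set_option linter.unusedSectionVars false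

namespace Cfsg.Agent.Cit.Four

open Subgroup Cfsg Cfsg.Agent.Cit SubCent UseT Branches CovES
open Cfsg.Agent.Cit.TypeDet (cm)

universe u

section Lift

variable {G : Type*} [Group G] [Finite G] {Om : Set (Subgroup G)} {H : Subgroup G}

/-- **commuting families of traces lift** -/
theorem exists_lift_family (hOm : Hyp Om) (h : ∀ K ∈ Om, IsType K) {C : Set (Subgroup (HQ H))}
    (hC : C ⊆ fam Om H) (hcc : ∀ K ∈ C, ∀ L ∈ C, K ≠ L → cm K L) :
    ∃ T : Subgroup G, IsPGroup 2 T ∧ T ≤ H ∧ ∀ J ∈ C, ∃ K ∈ cov Om H, K ∈ OmS Om T ∧ tr H K = J := by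
  haveI : Fact (Nat.Prime 2) := ⟨Nat.prime_two⟩
  obtain ⟨S', hS'⟩ := TypeDet.exists_sylow_of_comm (Om := fam Om H) hC hcc
  obtain ⟨T, hT, hTm⟩ := exists_lift (qm_surjective H) S'.isPGroup'
  have hH := RdOm.hyp_rd (RdOm.hyp_OmIn hOm H) (RdOm.isType_OmIn h H)
  have hset := OmS_img hH (not_dvd_ker H) hT
  rw [hTm] at hset
  have hr := isRd h H
  refine ⟨T.map H.subtype, hT.map _, map_subtype_le T, fun J hJ => ?_⟩
  have h3 := hS' hJ
  change J ∈ OmS (img (qm H) (rd '' Cit.OmIn Om H)) (S' : Subgroup (HQ H)) at h3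
  rw [hset] at h3
  obtain ⟨J₁, ⟨⟨J', hJ', rfl⟩, hJ2⟩, hJm⟩ := h3
  rw [RdOm.OmIn_eq] at hJ'
  obtain ⟨M', hM', rfl⟩ := hJ'
  refine ⟨M', hM', ⟨hM'.1, fun h4 => ?_⟩, hJm⟩
  -- `|M' : M' ⊓ T|` is odd
  have hJ3 : ¬ 2 ∣ T.relIndex (M'.subgroupOf H) := by
    intro h5
    have hle := hr.le _ (RdOm.mem_OmIn hM')
    have h6 : T.relIndex (M'.subgroupOf H) ∣
        T.relIndex (rd (M'.subgroupOf H)) * (rd (M'.subgroupOf H)).relIndex (M'.subgroupOf H) := by
      rw [← inf_relIndex_right T (M'.subgroupOf H), ← inf_relIndex_right T (rd (M'.subgroupOf H)),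
        relIndex_mul_relIndex _ _ _ inf_le_right hle]
      exact relIndex_dvd_of_le_left _ (inf_le_inf_left _ hle)
    rcases (Nat.Prime.dvd_mul Nat.prime_two).1 (h5.trans h6) with h7 | h7
    · exact hJ2 h7
    · exact not_dvd_relIndex (hr.mem_cov (RdOm.mem_OmIn hM')) h7
  have h7 : (T.map H.subtype).relIndex M' ∣
      (T.map H.subtype).relIndex (M' ⊓ H) * (M' ⊓ H).relIndex M' := by
    rw [← inf_relIndex_right (T.map H.subtype) M', ← inf_relIndex_right (T.map H.subtype) (M' ⊓ H),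
      relIndex_mul_relIndex _ _ _ inf_le_right inf_le_left]
    exact relIndex_dvd_of_le_left _ (inf_le_inf_left _ inf_le_left)
  rcases (Nat.Prime.dvd_mul Nat.prime_two).1 (h4.trans h7) with h8 | h8
  · apply hJ3
    rw [← subgroupOf_map_subtype, relIndex_map_map_of_injective _ _ H.subtype_injective] at h8
    exact h8
  · rw [inf_relIndex_left] at h8
    exact not_dvd_relIndex hM' h8

/-- at most `n` traces commute -/
theorem ncard_le_of_card (hOm : Hyp Om) (h : ∀ K ∈ Om, IsType K) {n : ℕ} (hn : Card Om n)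
    {C : Set (Subgroup (HQ H))} (hC : C ⊆ fam Om H) (hcc : ∀ K ∈ C, ∀ L ∈ C, K ≠ L → cm K L) : C.ncard ≤ n := by
  obtain ⟨T, hT, -, hl⟩ := exists_lift_family hOm h hC hcc
  obtain ⟨S, hS⟩ := exists_ge hT
  rw [← hn S]
  choose! K hK1 hK2 hK3 using hl
  refine Set.ncard_le_ncard_of_injOn K (fun J hJ => OmS_mono hS (hK2 J hJ)) ?_ (Set.toFinite _)
  intro J hJ J' hJ' he
  rw [← hK3 J hJ, he, hK3 J' hJ']

end Lift

section Two

variable {G : Type*} [Group G] [Finite G] {Om : Set (Subgroup G)} {K₁ K₂ K₃ K₄ : Subgroup G}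

theorem OmS_cj_eq (h : Hyp Om) (g : G) (S : Subgroup G) {K : Subgroup G} :
    K ∈ OmS Om (cj g S) ↔ cj g⁻¹ K ∈ OmS Om S := by
  constructor
  · intro hK
    have h1 := cj_mem_OmS h.conj g⁻¹ hK
    rwa [cj_inv_cj] at h1
  · intro hK
    have h1 := cj_mem_OmS h.conj g hK
    rwa [cj_cj_inv] at h1

namespace TwoTwo

theorem cj (h : Hyp Om) {S : Subgroup G} (t : TwoTwo Om S K₁ K₂ K₃ K₄) (g : G) :
    TwoTwo Om (Cit.cj g S) (Cit.cj g K₁) (Cit.cj g K₂) (Cit.cj g K₃) (Cit.cj g K₄) where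
  eq := by
    ext K
    rw [OmS_cj_eq h, t.eq]
    have key : ∀ L : Subgroup G, Cit.cj g⁻¹ K = L ↔ K = Cit.cj g L := by
      intro L
      constructor
      · rintro rfl
        rw [cj_cj_inv]
      · rintro rfl
        rw [cj_inv_cj]
    simp only [Set.mem_insert_iff, Set.mem_singleton_iff, key]
  ne12 := fun e => t.ne12 (cj_inj.1 e)
  ne34 := fun e => t.ne34 (cj_inj.1 e)
  z12 := by rw [h.zz_cj t.mem1.1, h.zz_cj t.mem2.1, t.z12]
  z34 := by rw [h.zz_cj t.mem3.1, h.zz_cj t.mem4.1, t.z34]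
  ne := by
    rw [h.zz_cj t.mem1.1, h.zz_cj t.mem3.1]
    intro e
    exact t.ne (mul_left_cancel (mul_right_cancel e))

theorem ne13 {S : Subgroup G} (t : TwoTwo Om S K₁ K₂ K₃ K₄) : K₁ ≠ K₃ := fun e => t.ne (by rw [e])
theorem ne14 {S : Subgroup G} (t : TwoTwo Om S K₁ K₂ K₃ K₄) : K₁ ≠ K₄ := fun e => t.ne (by rw [e, t.z34])
theorem ne23 {S : Subgroup G} (t : TwoTwo Om S K₁ K₂ K₃ K₄) : K₂ ≠ K₃ := fun e => t.ne (by rw [t.z12, e])
theorem ne24 {S : Subgroup G} (t : TwoTwo Om S K₁ K₂ K₃ K₄) : K₂ ≠ K₄ := fun e => t.ne (by rw [t.z12, e, t.z34])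

/-- the configuration for all Sylow 2-subgroups -/
theorem exists_of (h : Hyp Om) {S : Sylow 2 G} (t : TwoTwo Om (S : Subgroup G) K₁ K₂ K₃ K₄) (S' : Sylow 2 G) :
    ∃ L₁ L₂ L₃ L₄, TwoTwo Om (S' : Subgroup G) L₁ L₂ L₃ L₄ := by
  obtain ⟨g, hg⟩ := exists_cj_sylow S S'
  have h1 := t.cj h g
  rw [hg] at h1
  exact ⟨_, _, _, _, h1⟩

theorem ncard {S : Subgroup G} (t : TwoTwo Om S K₁ K₂ K₃ K₄) : (OmS Om S).ncard = 4 := by
  classical
  rw [t.eq]
  have h5 : ({K₁, K₂, K₃, K₄} : Finset (Subgroup G)).card = 4 := by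
    rw [Finset.card_insert_of_notMem, Finset.card_insert_of_notMem, Finset.card_insert_of_notMem,
      Finset.card_singleton]
    · simpa using t.ne34
    · simp only [Finset.mem_insert, Finset.mem_singleton, not_or]
      exact ⟨t.ne23, t.ne24⟩
    · simp only [Finset.mem_insert, Finset.mem_singleton, not_or]
      exact ⟨t.ne12, t.ne13, t.ne14⟩
  rw [← h5, ← Set.ncard_coe_finset]
  congr 1
  simp

theorem card (h : Hyp Om) {S : Sylow 2 G} (t : TwoTwo Om (S : Subgroup G) K₁ K₂ K₃ K₄) : Card Om 4 := by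
  rw [← t.ncard]
  exact card_of h S

/-- `τ = 2` -/
theorem tauTwo (h : Hyp Om) {S : Sylow 2 G} (t : TwoTwo Om (S : Subgroup G) K₁ K₂ K₃ K₄) : TauTwo Om := by
  intro S' K hK
  obtain ⟨L₁, L₂, L₃, L₄, t'⟩ := t.exists_of h S'
  -- the twin of the first member
  have key : ∀ {L₁ L₂ L₃ L₄ : Subgroup G}, TwoTwo Om (S' : Subgroup G) L₁ L₂ L₃ L₄ →
      ∃ L ∈ OmS Om (S' : Subgroup G), L ≠ L₁ ∧ zz L = zz L₁ ∧
        ∀ M ∈ OmS Om (S' : Subgroup G), zz M = zz L₁ → M = L₁ ∨ M = L := by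
    intro L₁ L₂ L₃ L₄ t
    refine ⟨L₂, t.mem2, t.ne12.symm, t.z12.symm, fun M hM hz => ?_⟩
    rcases t.cases hM with rfl | rfl | rfl | rfl
    · exact Or.inl rfl
    · exact Or.inr rfl
    · exact absurd hz.symm t.ne
    · exact absurd (hz.symm.trans t.z34.symm) t.ne
  rcases t'.cases hK with rfl | rfl | rfl | rfl
  · exact key t'
  · exact key t'.swap12
  · exact key t'.swap
  · exact key t'.swap.swap12

end TwoTwo

end Two

/-- the structure `FourX` for `H / O(H)`, `H = C(b)`, `b ∈ E(S)` -/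
theorem fourX {G : Type u} [Group G] [Finite G] {Om : Set (Subgroup G)} (m : MinS Om) {S : Sylow 2 G}
    {K₁ K₂ K₃ K₄ : Subgroup G} (t : TwoTwo Om (S : Subgroup G) K₁ K₂ K₃ K₄) {b : G}
    (hb : b ∈ ES Om (S : Subgroup G)) (hb1 : b ≠ 1) (hD : DD Om (S : Subgroup G) ≤ centralizer {b}) :
    FourX (fam Om (centralizer {b})) ![tr (centralizer {b}) K₁, tr (centralizer {b}) K₂, tr (centralizer {b}) K₃,
      tr (centralizer {b}) K₄] := by
  have h := m.hyp
  have hT := m.isType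
  set H := centralizer ({b} : Set G) with hH
  have hp : HasPieces (fam Om H) := m.fam_cent hb1
  have cov1 : ∀ {K : Subgroup G}, K ∈ OmS Om (S : Subgroup G) → K ∈ cov Om H := fun hK =>
    mem_cov_of_mem_ES h S.isPGroup' hK hb
  have h2 : IsPGroup 2 (DD Om (S : Subgroup G)) := S.isPGroup'.to_le DD_le
  have cc : ∀ {K L : Subgroup G}, K ∈ OmS Om (S : Subgroup G) → L ∈ OmS Om (S : Subgroup G) → K ≠ L →
      cm (tr H K) (tr H L) := by
    intro K L hK hL hne
    refine TypeDet.cm_iff_le_centralizer.2 (comm_tr h hT hp.core (cov1 hK) (cov1 hL) h2 hD ?_ ?_ hne)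
    · rw [OmS_DD S.isPGroup']; exact hK
    · rw [OmS_DD S.isPGroup']; exact hL
  refine ⟨hyp_fam h hT H, hp, fun C hC hcc => ncard_le_of_card h hT (t.card h) hC hcc, ?_, ?_, ?_, ?_⟩
  · intro i
    fin_cases i
    · exact tr_mem (cov1 t.mem1)
    · exact tr_mem (cov1 t.mem2)
    · exact tr_mem (cov1 t.mem3)
    · exact tr_mem (cov1 t.mem4)
  · intro i j hij
    fin_cases i <;> fin_cases j
    · exact absurd rfl hij
    · exact cc t.mem1 t.mem2 t.ne12
    · exact cc t.mem1 t.mem3 t.ne13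
    · exact cc t.mem1 t.mem4 t.ne14
    · exact cc t.mem2 t.mem1 t.ne12.symm
    · exact absurd rfl hij
    · exact cc t.mem2 t.mem3 t.ne23
    · exact cc t.mem2 t.mem4 t.ne24
    · exact cc t.mem3 t.mem1 t.ne13.symm
    · exact cc t.mem3 t.mem2 t.ne23.symm
    · exact absurd rfl hij
    · exact cc t.mem3 t.mem4 t.ne34
    · exact cc t.mem4 t.mem1 t.ne14.symm
    · exact cc t.mem4 t.mem2 t.ne24.symm
    · exact cc t.mem4 t.mem3 t.ne34.symm
    · exact absurd rfl hij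
  · change zz (tr H K₁) = zz (tr H K₂)
    rw [zz_tr h hT (cov1 t.mem1), zz_tr h hT (cov1 t.mem2)]
    congr 1
    exact Subtype.ext t.z12
  · change zz (tr H K₃) = zz (tr H K₄)
    rw [zz_tr h hT (cov1 t.mem3), zz_tr h hT (cov1 t.mem4)]
    congr 1
    exact Subtype.ext t.z34

/-- from the traces to the members -/
theorem sing_of {G : Type u} [Group G] [Finite G] {Om : Set (Subgroup G)} (m : MinS Om) {S : Sylow 2 G}
    {K₁ K₂ K₃ K₄ : Subgroup G} (t : TwoTwo Om (S : Subgroup G) K₁ K₂ K₃ K₄) {b : G}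
    (hb : b ∈ ES Om (S : Subgroup G))
    (hL : ∀ L ∈ fam Om (centralizer {b}), ∃ i, L = (![tr (centralizer {b}) K₁, tr (centralizer {b}) K₂,
      tr (centralizer {b}) K₃, tr (centralizer {b}) K₄] : Fin 4 → _) i) : Sing Om (S : Subgroup G) b := by
  have h := m.hyp
  intro J hJ
  have key : ∀ {K : Subgroup G}, K ∈ OmS Om (S : Subgroup G) → tr (centralizer {b}) J = tr (centralizer {b}) K →
      ∃ x ∈ XX b, Cit.cj x J ∈ OmS Om (S : Subgroup G) := by
    intro K hK he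
    obtain ⟨x, hx, hxK⟩ := (tr_eq_iff h m.isType hJ (mem_cov_of_mem_ES h S.isPGroup' hK hb)).1 he
    exact ⟨x, ⟨x, hx, rfl⟩, by rw [hxK]; exact hK⟩
  obtain ⟨i, hi⟩ := hL _ (tr_mem hJ)
  fin_cases i
  · exact key t.mem1 hi
  · exact key t.mem2 hi
  · exact key t.mem3 hi
  · exact key t.mem4 hi

/-- **the types of the pieces** -/
theorem types : Types.{u} := by
  intro G _ _ Om m S K₁ K₂ K₃ K₄ t
  have h := m.hyp
  have hT := m.isType
  have hz1 : zz K₁ ∈ ES Om (S : Subgroup G) := zz_mem_ES t.mem1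
  have hz3 : zz K₃ ∈ ES Om (S : Subgroup G) := zz_mem_ES t.mem3
  constructor
  · -- `z`
    have T := fourX m t hz1 (h.zz_ne t.mem1.1) (h.DD_le_centralizer S.isPGroup' t.mem1)
    have hc : ∀ x : HQ (centralizer ({zz K₁} : Set G)),
        x * zz (tr (centralizer {zz K₁}) K₁) = zz (tr (centralizer {zz K₁}) K₁) * x := by
      intro x
      obtain ⟨y, rfl⟩ := qm_surjective _ x
      rw [zz_tr h hT (mem_cov_of_mem_ES h S.isPGroup' t.mem1 hz1), ← map_mul, ← map_mul]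
      congr 1
      exact Subtype.ext (mem_centralizer_singleton_iff.1 y.2)
    rcases T.at_z hc with h1 | ⟨D, h2, h3, h4⟩
    · exact Or.inl (sing_of m t hz1 h1)
    · exact Or.inr ⟨D, h2, h3, h4⟩
  · -- `e`
    have he : zz K₁ * zz K₃ ∈ ES Om (S : Subgroup G) := mul_mem hz1 hz3
    have T := fourX m t he (t.mul_ne h) (DD_le.trans (t.le_centralizer h S.isPGroup'))
    have hc : ∀ x : HQ (centralizer ({zz K₁ * zz K₃} : Set G)),
        x * (zz (tr (centralizer {zz K₁ * zz K₃}) K₁) * zz (tr (centralizer {zz K₁ * zz K₃}) K₃)) =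
        zz (tr (centralizer {zz K₁ * zz K₃}) K₁) * zz (tr (centralizer {zz K₁ * zz K₃}) K₃) * x := by
      intro x
      obtain ⟨y, rfl⟩ := qm_surjective _ x
      rw [zz_tr h hT (mem_cov_of_mem_ES h S.isPGroup' t.mem1 he),
        zz_tr h hT (mem_cov_of_mem_ES h S.isPGroup' t.mem3 he), ← map_mul, ← map_mul, ← map_mul]
      congr 1
      exact Subtype.ext (mem_centralizer_singleton_iff.1 y.2)
    have htr : ∀ A ∈ fam Om (centralizer {zz K₁ * zz K₃}), ∀ B ∈ fam Om (centralizer {zz K₁ * zz K₃}),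
        ∃ g, Cit.cj g A = B := by
      intro A hA B hB
      obtain ⟨L, hL, rfl⟩ := exists_tr hA
      obtain ⟨M, hM, rfl⟩ := exists_tr hB
      obtain ⟨g, hg, rfl⟩ := tran_e h m.cls S t L hL M hM
      exact ⟨qm _ ⟨g, hg⟩, (tr_cj hT ⟨g, hg⟩ hL).symm⟩
    rcases T.at_e hc htr with h1 | ⟨D, h2, h3⟩
    · exact Or.inl (sing_of m t he h1)
    · refine Or.inr ⟨D, fun K hK => ?_, h3⟩
      rcases t.cases hK with rfl | rfl | rfl | rfl
      · exact h2 0
      · exact h2 1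
      · exact h2 2
      · exact h2 3

end Cfsg.Agent.Cit.Four
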