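import Cfsg.Agent.Cit.Four.ExcFacts

/-!
# `n = 4`, `τ = 2` : the pieces of type `G₂(q)`, `³D₄(q)` with twins

`D` a piece of type `G₂(q)`, `³D₄(q)` (`PieceG2 F D`), `K ≠ K'` commuting members in `D` with the same involution:
* `PieceG2.center_eq_bot` : `Z(D) = 1`; `PieceG2.one` : one class of involutions; `PieceG2.exists_zz` : all involutions of
  `D` are involutions of members in `D`;
* `PieceG2.inn` : `a ∈ N(D)`, `a² = 1`, `[a, K] = 1` implies `[a, D] = 1` or `[a zz(K), D] = 1`;
* `PieceG2.gen` : `D` is generated by the members `J ≤ D` with `zz J` commuting with `zz K`.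
-/

set_option autoImplicit false
set_option linter.style.haveILetI false
set_option linter.unusedSectionVars false

namespace Cfsg.Agent.Cit.Four

open Subgroup Cfsg Cfsg.Agent.Cit Cfsg.Agent.Cit.HexBase
open Cfsg.Agent.Cit.TypeDet (cm)
open scoped commutatorElement

universe u

variable {X : Type u} [Group X] [Finite X] {F : Set (Subgroup X)}

/-- twins in a piece of type `G₂(q)`, `³D₄(q)` -/
structure TwG (F : Set (Subgroup X)) (D K K' : Subgroup X) : Prop where
  hyp : Hyp F
  ty : ∀ K ∈ F, IsType K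
  core : ∀ K ∈ F, OO K = ⊥
  pc : PieceG2 F D
  mem : K ∈ F
  mem' : K' ∈ F
  le : K ≤ D
  le' : K' ≤ D
  ne : K ≠ K'
  comm : cm K K'
  zz : Cit.zz K = Cit.zz K'

namespace TwG

variable {D K K' : Subgroup X} (T : TwG F D K K')

include T

theorem symm : TwG F D K' K :=
  ⟨T.hyp, T.ty, T.core, T.pc, T.mem', T.mem, T.le', T.le, T.ne.symm, TypeDet.cm_symm T.comm, T.zz.symm⟩

theorem coe_zz : ((Cit.zz (K.subgroupOf D) : D) : X) = Cit.zz K := by
  rw [zz_map T.hyp (subgroupOf_mem_restr T.mem T.le), map_subgroupOf_eq_of_le T.le]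

theorem tw : Tw (restr F D) (K.subgroupOf D) (K'.subgroupOf D) where
  hyp := T.hyp.restr D
  ty := TyTrans.isType_restr T.ty D
  core J hJ := by
    have h1 : OO (J.map D.subtype) = ⊥ := T.core _ hJ
    rw [OO_map D.subtype D.subtype_injective] at h1
    exact (map_eq_bot_iff_of_injective _ D.subtype_injective).1 h1
  nmem h1 := by
    apply T.pc.nmem
    have h2 : (⊤ : Subgroup D).map D.subtype ∈ F := h1
    rwa [← MonoidHom.range_eq_map, range_subtype] at h2
  qs := T.pc.qs
  two := T.pc.two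
  iso := by
    obtain ⟨p, F, i1, i2, i3, hp, hp2, h⟩ := T.pc.iso
    exact ⟨p, hp, hp2, F, i1, i2, i3, h⟩
  mem := subgroupOf_mem_restr T.mem T.le
  mem' := subgroupOf_mem_restr T.mem' T.le'
  ne h1 := by
    apply T.ne
    rw [← map_subgroupOf_eq_of_le T.le, h1, map_subgroupOf_eq_of_le T.le']
  comm x hx y hy := Subtype.ext (T.comm x hx y hy)
  zz := by
    apply Subtype.ext
    rw [T.coe_zz, T.symm.coe_zz, T.zz]
  three := by
    have key : ∀ A B : Subgroup D, cm A B → A.map D.subtype ≤ centralizer (B.map D.subtype : Set X) := by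
      rintro A B h1 _ ⟨x, hx, rfl⟩
      rw [mem_centralizer_iff]
      rintro _ ⟨y, hy, rfl⟩
      exact (congrArg Subtype.val (h1 x hx y hy)).symm
    intro J hJ L hL M hM h1 h2 h3
    rcases T.pc.three _ hJ _ hL _ hM (map_subtype_le _) (map_subtype_le _) (map_subtype_le _) (key _ _ h1) (key _ _ h2)
      (key _ _ h3) with h4 | h4 | h4
    · exact Or.inl (map_injective D.subtype_injective h4)
    · exact Or.inr (Or.inl (map_injective D.subtype_injective h4))
    · exact Or.inr (Or.inr (map_injective D.subtype_injective h4))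

/-- **`Z(D) = 1`** -/
theorem center_eq_bot : center D = ⊥ := T.tw.center_eq_bot

/-- **one class of involutions** -/
theorem one {t : X} (htD : t ∈ D) (ht : t * t = 1) (ht1 : t ≠ 1) : ∃ g ∈ D, g * Cit.zz K * g⁻¹ = t := by
  obtain ⟨g, hg⟩ := T.tw.one (t := ⟨t, htD⟩) (Subtype.ext ht) (fun h => ht1 (congrArg Subtype.val h))
  refine ⟨g, g.2, ?_⟩
  rw [← T.coe_zz]
  exact congrArg Subtype.val hg

/-- **(X1)**: the involutions of `D` are involutions of members in `D` -/
theorem exists_zz {t : X} (htD : t ∈ D) (ht : t * t = 1) (ht1 : t ≠ 1) :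
    ∃ g ∈ D, cj g K ∈ F ∧ cj g K ≤ D ∧ Cit.zz (cj g K) = t := by
  obtain ⟨g, hg, h1⟩ := T.one htD ht ht1
  refine ⟨g, hg, T.hyp.conj K T.mem g, ?_, by rw [T.hyp.zz_cj T.mem, h1]⟩
  have h2 := cj_mono g T.le
  rwa [mem_normalizer_iff_cj.1 (le_normalizer hg)] at h2

/-- **(INN)** -/
theorem inn {a : X} (ha : a ∈ normalizer (D : Set X)) (ha2 : a * a = 1) (haK : ∀ x ∈ K, a * x = x * a) :
    (∀ d ∈ D, a * d = d * a) ∨ ∀ d ∈ D, a * Cit.zz K * d = d * (a * Cit.zz K) := by
  let α : MulAut D := D.normalizerMonoidHom ⟨a, ha⟩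
  have hα : ∀ x : D, ((α x : D) : X) = a * x * a⁻¹ := fun x => rfl
  have h1 : α * α = 1 := by
    ext x
    rw [MulAut.mul_apply, hα, hα, MulAut.one_apply]
    calc a * (a * (x : X) * a⁻¹) * a⁻¹ = a * a * x * (a * a)⁻¹ := by group
      _ = x := by rw [ha2]; group
  rcases T.tw.inn h1 (by
    intro x hx
    apply Subtype.ext
    have h2 : a * (x : X) = x * a := haK _ hx
    rw [hα, h2, mul_inv_cancel_right]) with h2 | h2
  · left
    intro d hd
    have h3 := hα ⟨d, hd⟩
    rw [h2, MulAut.one_apply] at h3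
    exact (mul_inv_eq_iff_eq_mul.1 h3.symm)
  · right
    intro d hd
    have h3 := hα ⟨d, hd⟩
    rw [h2, MulAut.conj_apply] at h3
    have h4 : Cit.zz K * d * (Cit.zz K)⁻¹ = a * d * a⁻¹ := by
      rw [← T.coe_zz]
      exact h3
    have hza : a * Cit.zz K = Cit.zz K * a := haK _ (T.hyp.zz_mem T.mem)
    have ha3 : a⁻¹ = a := inv_eq_of_mul_eq_one_right ha2
    have h5 := T.hyp.zz_inv T.mem
    rw [h5, ha3] at h4
    calc a * Cit.zz K * d = a * (Cit.zz K * d * Cit.zz K) * Cit.zz K := by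
          have := T.hyp.zz_mul T.mem
          calc a * Cit.zz K * d = a * Cit.zz K * d * (Cit.zz K * Cit.zz K) := by rw [this, mul_one]
            _ = _ := by group
      _ = a * a * d * a * Cit.zz K := by rw [h4]; group
      _ = d * (a * Cit.zz K) := by rw [ha2]; group

/-- **generation** -/
theorem gen {N : Subgroup X} (hN : ∀ J ∈ F, J ≤ D → Cit.zz J * Cit.zz K = Cit.zz K * Cit.zz J → J ≤ N) : D ≤ N := by
  have h1 : N.subgroupOf D = ⊤ := by
    refine T.tw.gen ?_
    intro g hg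
    have key : ∀ A : Subgroup X, A ∈ F → A ≤ D → Cit.zz A = Cit.zz K → cj g (A.subgroupOf D) ≤ N.subgroupOf D := by
      intro A hA hAD hz
      have hgD : cj (g : X) A ≤ D := by
        have h2 := cj_mono (g : X) hAD
        rwa [mem_normalizer_iff_cj.1 (le_normalizer g.2)] at h2
      have h3 : cj (g : X) A ≤ N := by
        refine hN _ (T.hyp.conj A hA g) hgD ?_
        rw [T.hyp.zz_cj hA, hz, ← T.coe_zz]
        exact congrArg Subtype.val hg
      rintro _ ⟨x, hx, rfl⟩
      exact h3 ⟨x, hx, rfl⟩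
    exact ⟨key K T.mem T.le rfl, key K' T.mem' T.le' T.zz.symm⟩
  intro x hx
  have h2 : (⟨x, hx⟩ : D) ∈ N.subgroupOf D := by rw [h1]; exact mem_top _
  exact h2

end TwG

end Cfsg.Agent.Cit.Four
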