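import Cfsg.Agent.Cit.CoresCore
import Cfsg.Agent.Cit.Four.Defs

/-!
# `|E(S)| ≥ 4` : consequences of `D(E) = 1`

`CorB Om S` : `|E| ≥ 4`, `C(s) / O(C(s))` has pieces, `[O(C(s)), K ⊓ S] = 1` for `s ∈ E`, `s ≠ 1`, `K ∈ Om(S)`, and `Δ_B = 1`
for a four-group `B ≤ E`.  Both `CoresCore.CorE` (`|E| ≥ 8`) and `Four.Cor4` (`|E| = 4`) give it.

* `CorB.OO_eq_bot` : `O(K) = 1` for `K ∈ Om(S)`;
* `CorB.XX_le_normalizer` : `O(C(s))` normalises all members of `Om(S)`;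
* `CorB.centralizer_le` : `C(s) ≤ N(E)` if `Sing Om S s`.
-/

set_option autoImplicit false
set_option linter.style.haveILetI false
set_option linter.unusedSectionVars false

namespace Cfsg.Agent.Cit.Four

open Subgroup Cfsg Cfsg.Agent.Cit SubCent UseT Cfsg.Agent.Cit.Comp CoreTwoB TorFunctor CoresG CoresCore
open scoped commutatorElement

universe u

variable {G : Type u} [Group G] [Finite G] {Om : Set (Subgroup G)} {S K : Subgroup G}

/-- `|E| ≥ 4`, `D(E) = 1` -/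
structure CorB (Om : Set (Subgroup G)) (S : Subgroup G) : Prop where
  card : 4 ≤ Nat.card (ES Om S)
  pieces : ∀ s ∈ ES Om S, s ≠ 1 → HasPieces (fam Om (centralizer {s}))
  comm : ∀ s ∈ ES Om S, s ≠ 1 → ∀ K ∈ OmS Om S, ⁅XX s, K ⊓ S⁆ = ⊥
  four : ∃ B ≤ ES Om S, Nat.card B = 4 ∧ Del B = ⊥

theorem _root_.Cfsg.Agent.Cit.CoresCore.CorE.corB (c : CorE Om S) : CorB Om S where
  card := by have := c.card; omega
  pieces := c.pieces
  comm := c.comm
  four := by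
    obtain ⟨B, hB, h4⟩ := c.four
    exact ⟨B, hB, h4, c.del B hB h4⟩

theorem Cor4.corB (c : Cor4 Om S) (h4 : Nat.card (ES Om S) = 4) : CorB Om S where
  card := h4.ge
  pieces := c.pieces
  comm := c.comm
  four := ⟨_, le_rfl, h4, c.del⟩

namespace CorB

variable (c : CorB Om S)
include c

theorem XX_le (h : Hyp Om) (hS : IsPGroup 2 S) {s : G} (hs : s ∈ ES Om S) (hs1 : s ≠ 1) :
    XX s ≤ centralizer (ES Om S : Set G) := XX_le_centralizer_ES h hS (c.comm s hs hs1)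

/-- an element of all `O(C(s))`, `s ∈ E`, `s ≠ 1`, is trivial -/
theorem eq_one {x : G} (hx : ∀ s ∈ ES Om S, s ≠ 1 → x ∈ XX s) : x = 1 := by
  obtain ⟨B, hB, h4, hD⟩ := c.four
  have h1 : x ∈ Del B := mem_Del.2 fun b hb hb1 => hx b (hB hb) hb1
  rwa [hD, mem_bot] at h1

theorem elem (h : Hyp Om) (hS : IsPGroup 2 S) : IsElementaryAbelian 2 (ES Om S) :=
  ⟨⟨⟨fun x y => Subtype.ext (ES_comm h hS x.2 y.2)⟩⟩, fun x hx => by rw [pow_two]; exact ES_sq h hS hx⟩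

/-- type `SL₂(3)` -/
theorem OO_eq_bot_of_isT (h : Hyp Om) (hS : IsPGroup 2 S) (hK : K ∈ OmS Om S) (hT : SolvTwo.IsT K) :
    OO K = ⊥ := by
  haveI : Fact (Nat.Prime 2) := ⟨Nat.prime_two⟩
  have h1 : ∀ s ∈ ES Om S, s ≠ 1 → OO K ⊓ centralizer {s} ≤ XX s := fun s hs hs1 =>
    OO_inf_le_XX h hS hK hs (c.pieces s hs hs1) (rd_of_isT h hS hK hs hT)
  have h2 : ∀ s ∈ ES Om S, s ≠ 1 → OO K ⊓ centralizer {s} = ⊥ := by
    intro s hs hs1
    rw [eq_bot_iff]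
    intro x hx
    have h3 := c.XX_le h hS hs hs1 (h1 s hs hs1 hx)
    rw [mem_bot]
    exact c.eq_one fun t ht ht1 => h1 t ht ht1
      ⟨hx.1, mem_centralizer_singleton_iff.2 (mem_centralizer_iff.1 h3 t ht).symm⟩
  have hE1 : ES Om S ≠ ⊥ := by
    intro h3
    have h4 := c.card
    rw [h3, card_bot] at h4
    omega
  rw [← Cfsg.Agent.Lib.CoprimeHyperplane.iSup_centralizer_hyperplane (c.elem h hS) hE1 (odd_OO K)
    (ES_le_normalizer_OO h hS hK), eq_bot_iff]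
  refine iSup_le fun B => ?_
  obtain ⟨B, hB, hi⟩ := B
  obtain ⟨b, hb, hb1⟩ : ∃ b ∈ B, b ≠ 1 := by
    by_contra hcon
    push Not at hcon
    have h3 : B = ⊥ := by
      rw [eq_bot_iff]; exact fun x hx => mem_bot.2 (hcon x hx)
    rw [h3, relIndex_bot_left] at hi
    have h4 := c.card
    omega
  rw [← h2 b (hB hb) hb1]
  exact inf_le_inf_left _ (centralizer_le (Set.singleton_subset_iff.2 hb))

/-- a perfect member centralises `O(C(z_K))` -/
theorem le_centralizer_XX (hodd : OddStmt.{u}) (h : Hyp Om) (hS : IsPGroup 2 S) (hK : K ∈ OmS Om S)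
    (hper : ⁅K, K⁆ = K) : K ≤ centralizer (XX (zz K) : Set G) := by
  refine le_centralizer_of_perfect hodd hper
    ((h.le_centralizer hK.1).trans (centralizer_le_normalizer_XX _)) (syl_inf hS hK) ?_
  have h1 := c.comm (zz K) (zz_mem_ES hK) (h.zz_ne hK.1) K hK
  rwa [commutator_comm, commutator_eq_bot_iff_le_centralizer] at h1

theorem le_centralizer_OO (hodd : OddStmt.{u}) (h : Hyp Om) (hS : IsPGroup 2 S) (hK : K ∈ OmS Om S)
    (hper : ⁅K, K⁆ = K) : K ≤ centralizer (OO K : Set G) :=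
  (c.le_centralizer_XX hodd h hS hK hper).trans (centralizer_le (OO_le_XX h hK.1))

/-- a perfect member is centralised by `E` -/
theorem le_centralizer_ES (hodd : OddStmt.{u}) (h : Hyp Om) (hS : IsPGroup 2 S) (hK : K ∈ OmS Om S)
    (hper : ⁅K, K⁆ = K) {s : G} (hs : s ∈ ES Om S) : K ≤ centralizer {s} := by
  have hcen := c.le_centralizer_OO hodd h hS hK hper
  conv_lhs => rw [← hper]
  rw [Subgroup.commutator_le]
  intro x hx y hy
  -- `s x s⁻¹ = a x`, `s y s⁻¹ = b y` with `a, b ∈ O(K)` central in `K`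
  have key : ∀ k ∈ K, ∃ a ∈ OO K, s * k * s⁻¹ = a * k := by
    intro k hk
    have h1 := commutator_ES_le h hS hK (commutator_mem_commutator hk hs)
    refine ⟨⁅k, s⁆⁻¹, inv_mem h1, ?_⟩
    rw [commutatorElement_def]
    group
  obtain ⟨a, ha, hax⟩ := key x hx
  obtain ⟨b, hb, hby⟩ := key y hy
  have hc : ∀ z ∈ OO K, ∀ k ∈ K, z * k = k * z := fun z hz k hk => mem_centralizer_iff.1 (hcen hk) z hz
  rw [mem_centralizer_singleton_iff]
  have h1 : s * ⁅x, y⁆ * s⁻¹ = ⁅x, y⁆ := by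
    have h2 : s * ⁅x, y⁆ * s⁻¹ = ⁅s * x * s⁻¹, s * y * s⁻¹⁆ := by
      simp only [commutatorElement_def]; group
    rw [h2, hax, hby, commutatorElement_def, commutatorElement_def]
    have hbK := OO_le K hb
    calc a * x * (b * y) * (a * x)⁻¹ * (b * y)⁻¹
        = a * x * b * y * x⁻¹ * a⁻¹ * y⁻¹ * b⁻¹ := by group
      _ = a * (x * b) * y * x⁻¹ * a⁻¹ * y⁻¹ * b⁻¹ := by group
      _ = a * (b * x) * y * x⁻¹ * (a⁻¹ * y⁻¹) * b⁻¹ := by rw [← hc b hb x hx]; group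
      _ = a * (b * x) * y * x⁻¹ * (y⁻¹ * a⁻¹) * b⁻¹ := by rw [hc a⁻¹ (inv_mem ha) y⁻¹ (inv_mem hy)]
      _ = (a * b) * (x * y * x⁻¹ * y⁻¹) * (a⁻¹ * b⁻¹) := by group
      _ = (x * y * x⁻¹ * y⁻¹) * (a * b) * (a⁻¹ * b⁻¹) := by
          rw [hc (a * b) (mul_mem ha hb) (x * y * x⁻¹ * y⁻¹)
            (mul_mem (mul_mem (mul_mem hx hy) (inv_mem hx)) (inv_mem hy))]
      _ = (x * y * x⁻¹ * y⁻¹) * (a * (b * a⁻¹) * b⁻¹) := by group
      _ = x * y * x⁻¹ * y⁻¹ := by rw [← hc a⁻¹ (inv_mem ha) b hbK]; group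
  calc ⁅x, y⁆ * s = (s * ⁅x, y⁆ * s⁻¹) * s := by rw [h1]
    _ = s * ⁅x, y⁆ := by group

/-- perfect members -/
theorem OO_eq_bot_of_perfect (hodd : OddStmt.{u}) (h : Hyp Om) (hS : IsPGroup 2 S) (hK : K ∈ OmS Om S)
    (ty : IsType K) (hper : ⁅K, K⁆ = K) : OO K = ⊥ := by
  rw [eq_bot_iff]
  intro x hx
  rw [mem_bot]
  refine c.eq_one fun s hs hs1 => ?_
  have hle := c.le_centralizer_ES hodd h hS hK hper hs
  exact OO_inf_le_XX h hS hK hs (c.pieces s hs hs1) (rd_of_perfect h hS hK hs ty hper hle)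
    ⟨hx, hle (OO_le K hx)⟩

/-- **the members have trivial cores** -/
theorem OO_eq_bot (hodd : OddStmt.{u}) (h : Hyp Om) (hS : IsPGroup 2 S) (hK : K ∈ OmS Om S)
    (ty : Ty K) : OO K = ⊥ := by
  rcases ty with hT | ⟨ty, hper⟩
  · exact c.OO_eq_bot_of_isT h hS hK hT
  · exact c.OO_eq_bot_of_perfect hodd h hS hK ty hper

/-- `O(C(s))` normalises the members -/
theorem XX_le_normalizer (h : Hyp Om) (hS : IsPGroup 2 S) (hK : K ∈ OmS Om S) {s : G} (hs : s ∈ ES Om S)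
    (hs1 : s ≠ 1) : XX s ≤ normalizer (K : Set G) := by
  haveI : Fact (Nat.Prime 2) := ⟨Nat.prime_two⟩
  intro x hx
  rw [mem_normalizer_iff_cj]
  have h1 := c.comm s hs hs1 K hK
  rw [commutator_eq_bot_iff_le_centralizer] at h1
  have hQ := syl_inf hS hK
  -- `x` centralises `K ⊓ S`
  have h2 : cj x (K ⊓ S) = K ⊓ S := by
    refine eq_of_le_of_card_ge ?_ (by rw [card_cj])
    rintro _ ⟨q, hq, rfl⟩
    have h3 : q * x = x * q := mem_centralizer_iff.1 (h1 hx) q hq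
    have h4 : (MulAut.conj x).toMonoidHom q = q := by
      change x * q * x⁻¹ = q
      rw [← h3, mul_inv_cancel_right]
    rw [h4]
    exact hq
  have h3 : cj x K ∈ OmS Om S := by
    have h4 := hQ.cj x
    rw [h2] at h4
    exact mem_OmS_of_le (h.conj K hK.1 x) h4 inf_le_right
  by_contra hne
  obtain ⟨c', v, n, hc⟩ := h.exists_gq hK.1 hQ
  have h4 : K ⊓ S ≤ cj x K ⊓ S := by
    refine le_inf ?_ inf_le_right
    conv_lhs => rw [← h2]
    exact cj_mono x inf_le_left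
  exact hc.not_comm (h.comm hS hK h3 (fun e => hne e.symm) hc.v_mem (h4 hc.c_mem))

/-- if `Om[C(s)] = Om(S)` modulo `O(C(s))`, then `C(s)` permutes `Om(S)` -/
theorem cj_mem_of_sing (h : Hyp Om) (hS : IsPGroup 2 S) {s : G} (hs : s ∈ ES Om S) (hs1 : s ≠ 1)
    (hsing : Sing Om S s) {g : G} (hg : g ∈ centralizer {s}) (hK : K ∈ OmS Om S) : cj g K ∈ OmS Om S := by
  have h1 : cj g K ∈ cov Om (centralizer {s}) := cj_mem_cov_of_mem h.conj (le_normalizer hg) (mem_cov h hS hK hs)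
  obtain ⟨x, hx, hxK⟩ := hsing _ h1
  have h2 := c.XX_le_normalizer h hS hxK hs hs1 ((XX s).inv_mem hx)
  rw [mem_normalizer_iff_cj, cj_inv_cj] at h2
  rw [h2]
  exact hxK

theorem centralizer_le (h : Hyp Om) (hS : IsPGroup 2 S) {s : G} (hs : s ∈ ES Om S) (hs1 : s ≠ 1)
    (hsing : Sing Om S s) : centralizer {s} ≤ normalizer (ES Om S : Set G) := by
  intro g hg
  rw [mem_normalizer_iff_cj]
  refine eq_of_le_of_card_ge ?_ (by rw [card_cj])
  have h1 : ES Om S ≤ cj g⁻¹ (ES Om S) := by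
    rw [ES_le_iff]
    intro K hK
    have h2 := zz_mem_ES (c.cj_mem_of_sing h hS hs hs1 hsing hg hK)
    rw [h.zz_cj hK.1] at h2
    rw [mem_cj, inv_inv]
    exact h2
  exact (cj_mono g h1).trans (by rw [cj_cj_inv])

end CorB

end Cfsg.Agent.Cit.Four
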