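import Cfsg.Agent.Cit.Four.Skel
import Cfsg.Agent.Cit.Four.Cor

/-!
# `n = 4`, `τ = 2` : the cases `Sing z` are dead, and the assembly

* `false_of_sing` (all `Sing`), `false_of_isolated` (`z`, `z'` `Sing`, all `C(e)`) from `D(E) = 1` and THEOREM CLOSE;
* `tauTwo` : `Types → Close4 → Cores → Ident → TauTwoStmt`.
-/

set_option autoImplicit false
set_option linter.style.haveILetI false
set_option linter.unusedSectionVars false

namespace Cfsg.Agent.Cit.Four

open Subgroup Cfsg Cfsg.Agent.Cit SubCent UseT Branches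

universe u

section

variable {G : Type u} [Group G] [Finite G] {Om : Set (Subgroup G)}

theorem not_normal_ES (hm : MinS Om) (S : Sylow 2 G) : ¬ (ES Om (S : Subgroup G)).Normal := by
  intro hn
  haveI := hm.simple
  obtain ⟨K, hK⟩ := hm.hyp.OmS_nonempty S hm.ne
  rcases IsSimpleGroup.eq_bot_or_eq_top_of_normal _ hn with h1 | h1
  · have h2 := zz_mem_ES hK
    rw [h1, mem_bot] at h2
    exact hm.hyp.zz_ne hK.1 h2
  · -- `E = G` is abelian
    obtain ⟨Q, hQ⟩ := Hyp.exists_syl K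
    obtain ⟨c, v, n, hc⟩ := hm.hyp.exists_gq hK.1 hQ
    refine hc.not_comm (ES_comm hm.hyp S.isPGroup' ?_ ?_) <;> rw [h1] <;> exact mem_top _

/-- all local types `Sing`: contradiction (any `|E| ≥ 4`) -/
theorem false_of_sing (hm : MinS Om) (hcl : CloseE Om) (S : Sylow 2 G) (c : CorB Om (S : Subgroup G))
    (hs : ∀ b ∈ ES Om (S : Subgroup G), b ≠ 1 → Sing Om (S : Subgroup G) b) : False := by
  have h1 := hcl S _ le_rfl fun a ha ha1 => c.centralizer_le hm.hyp S.isPGroup' ha ha1 (hs a ha ha1)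
  exact not_normal_ES hm S (normalizer_eq_top_iff.1 h1)

/-- `e = z z'` is not the involution of a member -/
theorem TwoTwo.zz_ne_e (h : Hyp Om) (S : Sylow 2 G) {K₁ K₂ K₃ K₄ : Subgroup G}
    (t : TwoTwo Om (S : Subgroup G) K₁ K₂ K₃ K₄) {J : Subgroup G} (hJ : J ∈ Om) : zz J ≠ zz K₁ * zz K₃ := by
  intro hz
  have hS := S.isPGroup'
  have hSC := t.le_centralizer h hS
  rw [← hz] at hSC
  have h1 : Syl (S : Subgroup G) (centralizer {zz J}) := by
    refine ⟨hSC, hS, fun h1 => ?_⟩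
    have h2 := relIndex_mul_index hSC
    haveI : Fact (Nat.Prime 2) := ⟨Nat.prime_two⟩
    exact S.not_dvd_index (h2 ▸ h1.mul_right _)
  have h2 := h.mem_OmS_of_syl hJ h1
  rcases t.zz_cases h2 with h3 | h3
  · rw [hz] at h3
    exact h.zz_ne t.mem3.1 (mul_eq_left.1 h3)
  · rw [hz] at h3
    exact h.zz_ne t.mem1.1 (mul_eq_right.1 h3)

theorem TwoTwo.normalizer_ES_le (h : Hyp Om) (S : Sylow 2 G) {K₁ K₂ K₃ K₄ : Subgroup G}
    (t : TwoTwo Om (S : Subgroup G) K₁ K₂ K₃ K₄) :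
    normalizer (ES Om (S : Subgroup G) : Set G) ≤ centralizer {zz K₁ * zz K₃} := by
  intro g hg
  have hS := S.isPGroup'
  have key : ∀ K ∈ OmS Om (S : Subgroup G), g * zz K * g⁻¹ = zz K₁ ∨ g * zz K * g⁻¹ = zz K₃ := by
    intro K hK
    have h1 : g * zz K * g⁻¹ ∈ ES Om (S : Subgroup G) := (mem_normalizer_iff.1 hg _).1 (zz_mem_ES hK)
    rcases (t.mem_ES_iff h hS).1 h1 with h2 | h2 | h2 | h2
    · exfalso
      rw [mul_inv_eq_one, mul_eq_left] at h2
      exact h.zz_ne hK.1 h2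
    · exact Or.inl h2
    · exact Or.inr h2
    · exfalso
      rw [← h.zz_cj hK.1] at h2
      exact t.zz_ne_e h S (h.conj K hK.1 g) h2
  have h1 : g * (zz K₁ * zz K₃) * g⁻¹ = (g * zz K₁ * g⁻¹) * (g * zz K₃ * g⁻¹) := by group
  have h2 : g * (zz K₁ * zz K₃) * g⁻¹ = zz K₁ * zz K₃ := by
    rw [h1]
    rcases key K₁ t.mem1 with h2 | h2 <;> rcases key K₃ t.mem3 with h3 | h3
    · exact absurd (mul_left_cancel (mul_right_cancel (h2.trans h3.symm))) t.ne
    · rw [h2, h3]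
    · rw [h2, h3, t.comm13 h hS]
    · exact absurd (mul_left_cancel (mul_right_cancel (h2.trans h3.symm))) t.ne
  rw [mul_inv_eq_iff_eq_mul] at h2
  rw [mem_centralizer_singleton_iff, h2]

/-- `e` is not isolated -/
theorem false_of_isolated (hm : MinS Om) (hcl : CloseE Om) (S : Sylow 2 G) (c : CorB Om (S : Subgroup G))
    {K₁ K₂ K₃ K₄ : Subgroup G} (t : TwoTwo Om (S : Subgroup G) K₁ K₂ K₃ K₄)
    (hs1 : Sing Om (S : Subgroup G) (zz K₁)) (hs3 : Sing Om (S : Subgroup G) (zz K₃)) : False := by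
  have h := hm.hyp
  have hS := S.isPGroup'
  have hN := t.normalizer_ES_le h S
  have h1 := hcl S _ hN fun a ha ha1 => by
    rcases (t.mem_ES_iff h hS).1 ha with rfl | rfl | rfl | rfl
    · exact absurd rfl ha1
    · exact (c.centralizer_le h hS ha ha1 hs1).trans hN
    · exact (c.centralizer_le h hS ha ha1 hs3).trans hN
    · exact le_rfl
  haveI := hm.simple
  have h2 : zz K₁ * zz K₃ ∈ center G := by
    rw [mem_center_iff]
    intro g
    have h3 : g ∈ centralizer {zz K₁ * zz K₃} := by rw [h1]; exact mem_top _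
    exact mem_centralizer_singleton_iff.1 h3
  rcases IsSimpleGroup.eq_bot_or_eq_top_of_normal (center G) inferInstance with h3 | h3
  · rw [h3, mem_bot] at h2
    exact t.mul_ne h h2
  · obtain ⟨Q, hQ⟩ := Hyp.exists_syl K₁
    obtain ⟨c, v, n, hc⟩ := h.exists_gq t.mem1.1 hQ
    refine hc.not_comm ?_
    have h4 : v ∈ center G := by rw [h3]; exact mem_top _
    exact (mem_center_iff.1 h4 c).symm

end

/-- **the assembly** -/
theorem tauTwo (hT : Types.{u}) (hcl : Close4.{u}) (hco : Cores.{u}) (hid : Ident.{u}) : TauTwoStmt.{u} := by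
  intro G _ _ Om hm hc ht
  have h := hm.hyp
  have h2 := tau_le_two h ht
  obtain ⟨S₀⟩ : Nonempty (Sylow 2 G) := inferInstance
  have hex := fun S : Sylow 2 G => exists_twoTwo h hm.ne hc ht S
  have hcl' : CloseE Om := by
    obtain ⟨K₁, K₂, K₃, K₄, t⟩ := hex S₀
    exact hcl G Om hm h2 ⟨S₀, t.card_ES h S₀.isPGroup'⟩
  have hcor : ∀ S : Sylow 2 G, Cor4 Om (S : Subgroup G) := by
    intro S
    obtain ⟨K₁, K₂, K₃, K₄, t⟩ := hex S
    obtain ⟨h3, h4⟩ := hT G Om hm S K₁ K₂ K₃ K₄ t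
    obtain ⟨h5, -⟩ := hT G Om hm S K₃ K₄ K₁ K₂ t.swap
    exact hco G Om hm hcl' S K₁ K₂ K₃ K₄ t h3 h5 h4
  -- both blocks
  obtain ⟨K₁, K₂, K₃, K₄, t⟩ := hex S₀
  obtain ⟨h3, h4⟩ := hT G Om hm S₀ K₁ K₂ K₃ K₄ t
  obtain ⟨h5, -⟩ := hT G Om hm S₀ K₃ K₄ K₁ K₂ t.swap
  have hns : ¬ Sing Om (S₀ : Subgroup G) (zz K₁) := fun hs =>
    false_of_isolated hm hcl' S₀ ((hcor S₀).corB (t.card_ES h S₀.isPGroup')) t hs
      (sing_iff h hm.cls S₀ t.mem1 t.mem3 hs)
  exact hid G Om hm hcl' hcor S₀ K₁ K₂ K₃ K₄ t (h3.resolve_left hns)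
    (h5.resolve_left fun hs => hns (sing_iff h hm.cls S₀ t.mem3 t.mem1 hs)) h4

end Cfsg.Agent.Cit.Four
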