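import Cfsg.Agent.Cit.Four.SwE
import Cfsg.Agent.Cit.Four.TypesMain
import Cfsg.Agent.Cit.Four.Kill
import Cfsg.Agent.Cit.Four.ExcPiece

/-!
# `n = 4`, `τ = 2` : no `G₂` if `C(e)` has a piece of type `D_4` (bb R18 #11646 (2))

`noG2 : NoG2`, from (X1) `TwG.exists_zz` : every involution of a piece of type `G₂` is the involution of a member.

`exists_cent_syl` : `J` covered by `H`, `f ∈ H` an involution centralising the trace of `J` and commuting with `zz J`: a
member with the same involution has a Sylow 2-subgroup centralised by `f`.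
-/

set_option autoImplicit false
set_option linter.style.haveILetI false
set_option linter.unusedSectionVars false

namespace Cfsg.Agent.Cit.Four

open Subgroup Cfsg Cfsg.Agent.Cit SubCent UseT Branches Cfsg.Agent.Nodes.Chart
open Cfsg.Agent.Cit.TypeDet (cm)
open Cfsg.Agent.Cit.EqClose (EqZ EqFour)

universe u

section

variable {G : Type*} [Group G] [Finite G] {Om : Set (Subgroup G)} {H J : Subgroup G}

theorem exists_cent_syl (h : Hyp Om) (hT : ∀ K ∈ Om, IsType K) (hJ : J ∈ cov Om H) {f : G} (hfH : f ∈ H)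
    (ff : f * f = 1) (hc : ∀ x ∈ tr H J, x * qm H ⟨f, hfH⟩ = qm H ⟨f, hfH⟩ * x) (hfz : f * zz J = zz J * f) :
    ∃ J' ∈ Om, zz J' = zz J ∧ ∃ Q, Syl Q J' ∧ ∀ a ∈ Q, a * f = f * a := by
  haveI : Fact (Nat.Prime 2) := ⟨Nat.prime_two⟩
  obtain ⟨Q, hQ0⟩ := Hyp.exists_syl (J ⊓ H)
  have hQ : Syl Q J := syl_of_syl_inf hJ hQ0
  have hQH : Q ≤ H := hQ0.1.trans inf_le_right
  obtain ⟨N, hN⟩ : ∃ N : Subgroup G, N = OO H ⊓ centralizer {zz J} := ⟨_, rfl⟩
  have hodd : ¬ 2 ∣ Nat.card N := fun h2 => odd_OO H (h2.trans (card_dvd_of_le (by rw [hN]; exact inf_le_left)))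
  have fi : f⁻¹ = f := inv_eq_of_mul_eq_one_left ff
  have hnorm : ∀ x ∈ H, x * zz J = zz J * x → x ∈ normalizer (N : Set G) := by
    intro x hx hxz
    rw [mem_normalizer_iff_cj, hN, cj_inf, cj_centralizer]
    have h1 : x * zz J * x⁻¹ = zz J := by rw [hxz, mul_inv_cancel_right]
    rw [h1, mem_normalizer_iff_cj.1 (le_normalizer_OO H hx)]
  have hfN := hnorm f hfH hfz
  have hzJ : ∀ a ∈ Q, a * zz J = zz J * a := fun a ha => h.comm_zz hJ.1 (le_normalizer (hQ.1 ha))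
  have hmem : ∀ a ∈ Q, f * a * f⁻¹ * a⁻¹ ∈ N := by
    intro a ha
    have haH := hQH ha
    rw [hN]
    refine ⟨?_, ?_⟩
    · obtain ⟨k, hk⟩ := hQ.2.1 ⟨a, ha⟩
      have h1 : qm H ⟨a, haH⟩ ∈ tr H J := mem_tr hT hJ (hQ.1 ha) (a := k)
        (Subtype.ext (by simpa using congrArg Subtype.val hk))
      have h2 := hc _ h1
      have h3 : qm H (⟨f, hfH⟩ * ⟨a, haH⟩ * ⟨f, hfH⟩⁻¹ * ⟨a, haH⟩⁻¹) = 1 := by
        rw [map_mul, map_mul, map_mul, map_inv, map_inv, ← h2]; group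
      have h4 : (⟨f, hfH⟩ * ⟨a, haH⟩ * ⟨f, hfH⟩⁻¹ * ⟨a, haH⟩⁻¹ : H) ∈ (qm H).ker := h3
      rw [ker_qm] at h4
      exact ⟨_, h4, rfl⟩
    · have c1 : f ∈ centralizer ({zz J} : Set G) := mem_centralizer_singleton_iff.2 hfz
      have c2 : a ∈ centralizer ({zz J} : Set G) := mem_centralizer_singleton_iff.2 (hzJ a ha)
      exact (centralizer ({zz J} : Set G)).mul_mem ((centralizer ({zz J} : Set G)).mul_mem
        ((centralizer ({zz J} : Set G)).mul_mem c1 c2) ((centralizer ({zz J} : Set G)).inv_mem c1))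
        ((centralizer ({zz J} : Set G)).inv_mem c2)
  obtain ⟨o, ho, hy⟩ := exists_mul_mem_centralizer (A := Q) (N := N) (k := f) hQ.2.1 hodd
    (fun a ha => hnorm a (hQH ha) (hzJ a ha)) hfN hmem
  set y := f * o with hydef
  have hyy : y * y ∈ N := by
    have h1 : f * o * f⁻¹ ∈ N := (mem_normalizer_iff.1 hfN o).1 ho
    have h2 : y * y = (f * o * f⁻¹) * (f * f) * o := by rw [hydef, fi, ff]; group
    rw [h2, ff, mul_one]
    exact N.mul_mem h1 ho
  obtain ⟨k, hk⟩ : ∃ k, Nat.card N = 2 * k + 1 := by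
    have h1 : Odd (Nat.card N) := by rwa [← Nat.not_even_iff_odd, even_iff_two_dvd]
    exact h1
  have hy1 : y ^ (2 * k + 1) * y ^ (2 * k + 1) = 1 := by
    have h1 : (y * y) ^ (2 * k + 1) = 1 := by
      have h2 := pow_card_eq_one' (x := (⟨y * y, hyy⟩ : N))
      rw [hk] at h2
      exact congrArg Subtype.val h2
    rw [← (Commute.refl y).mul_pow]
    exact h1
  have hfy : f * y ^ (2 * k + 1) ∈ N := by
    have h1 : f * (y * y) ^ k * f⁻¹ ∈ N := (mem_normalizer_iff.1 hfN _).1 (N.pow_mem hyy k)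
    have h2 : f * y ^ (2 * k + 1) = (f * (y * y) ^ k * f⁻¹) * ((f * f) * o) := by
      rw [pow_succ, pow_mul, pow_two, hydef]; group
    rw [h2, ff, one_mul]
    exact N.mul_mem h1 ho
  have hodd2 : Odd (orderOf (f * y ^ (2 * k + 1))) := by
    have h1 : orderOf (f * y ^ (2 * k + 1)) ∣ Nat.card N := Subgroup.orderOf_dvd_natCard N hfy
    exact Odd.of_dvd_nat ⟨k, hk⟩ h1
  obtain ⟨n, hn, hn2⟩ := inv_conj ff hy1 hodd2
  have hnN : n ∈ N := (zpowers_le.2 hfy) hn
  have hnz : n * zz J = zz J * n := by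
    rw [hN] at hnN
    exact mem_centralizer_singleton_iff.1 hnN.2
  refine ⟨cj n⁻¹ J, h.conj J hJ.1 _, ?_, cj n⁻¹ Q, hQ.cj n⁻¹, ?_⟩
  · rw [h.zz_cj hJ.1, inv_inv, mul_assoc, ← hnz]; group
  · intro a ha
    rw [mem_cj, inv_inv] at ha
    have h1 := (mem_centralizer_iff.1 (pow_mem hy (2 * k + 1))) _ ha
    rw [← hn2] at h1
    have h3 : n * (a * f) * n⁻¹ = n * (f * a) * n⁻¹ := by
      calc n * (a * f) * n⁻¹ = n * a * n⁻¹ * (n * f * n⁻¹) := by group
        _ = n * f * n⁻¹ * (n * a * n⁻¹) := h1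
        _ = _ := by group
    exact mul_left_cancel (mul_right_cancel h3)

/-- an element of order four of `K ⊓ S` is in no other member of `Om(S)` -/
theorem not_mem_of_ne (h : Hyp Om) {S K L : Subgroup G} (hS : IsPGroup 2 S) (hK : K ∈ OmS Om S) (hL : L ∈ OmS Om S)
    (hne : K ≠ L) {v : G} (hv : v ∈ K ⊓ S) (hv4 : orderOf v = 4) : v ∉ L := by
  intro hvL
  obtain ⟨c, w, n, hq⟩ := h.exists_gq hK.1 (syl_inf hS hK)
  have h1 : ∀ x ∈ K ⊓ S, v * x = x * v := fun x hx => (h.comm hS hK hL hne hx ⟨hvL, hv.2⟩).symm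
  rcases CoresH.GQ_center hq hv h1 with h2 | h2
  · rw [h2, orderOf_one] at hv4; omega
  · have h3 := h.orderOf_zz hK.1
    rw [← h2, hv4] at h3; omega

end

section

variable {G : Type u} [Group G] [Finite G] {Om : Set (Subgroup G)} {S : Sylow 2 G} {K₁ K₂ K₃ K₄ : Subgroup G}

/-- squares -/
theorem sq_of_four (h : Hyp Om) {K : Subgroup G} (hK : K ∈ Om) {v : G} (hv : v ∈ K) (hv4 : orderOf v = 4) :
    v * v = zz K := by
  rw [← h.uniq K hK (v * v) (K.mul_mem hv hv) ?_]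
  rw [← pow_two, orderOf_pow' v (by norm_num), hv4]; norm_num

/-- (X1) at `z` -/
theorem TwoTwo.exists_zz (m : MinS Om) (t : TwoTwo Om (S : Subgroup G) K₁ K₂ K₃ K₄) {z : G} (hz : z = zz K₁)
    {H : Subgroup G} (hH : H = centralizer {z}) {D : Subgroup (HQ H)} (h3 : tr H K₃ ≤ D)
    (h4 : tr H K₄ ≤ D) (hD : PieceG2 (fam Om H) D)
    {v w : G} (hv : v ∈ K₃ ⊓ S) (hw : w ∈ K₄ ⊓ S) (hv4 : orderOf v = 4) (hw4 : orderOf w = 4) :
    ∃ J ∈ Om, zz J = v * w ∧ ∀ a ∈ K₁ ⊓ S, ∀ b ∈ K₂ ⊓ S, orderOf a = 4 → orderOf b = 4 →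
      ∃ J' ∈ Om, zz J' = v * w ∧ ∃ Q, Syl Q J' ∧ ∀ x ∈ Q, x * (a * b) = a * b * x := by
  haveI : Fact (Nat.Prime 2) := ⟨Nat.prime_two⟩
  have h := m.hyp
  have hT := m.isType
  have hS := S.isPGroup'
  have hz1E : z ∈ ES Om (S : Subgroup G) := by rw [hz]; exact zz_mem_ES t.mem1
  have hzS1 : z ∈ K₁ ⊓ (S : Subgroup G) := by rw [hz]; exact h.zz_mem_inf hS t.mem1
  have hcov : ∀ {K}, K ∈ OmS Om (S : Subgroup G) → K ∈ cov Om H := fun hK => by
    rw [hH]; exact CovES.mem_cov_of_mem_ES h hS hK hz1E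
  -- elements of the `K i ⊓ S` are in `H`
  have hmemH : ∀ {K x}, K ∈ OmS Om (S : Subgroup G) → x ∈ K ⊓ (S : Subgroup G) → x ∈ H := by
    intro K x hK hx
    rw [hH, mem_centralizer_singleton_iff]
    by_cases hK1 : K = K₁
    · rw [hz, ← hK1]; exact h.comm_zz hK.1 (le_normalizer hx.1)
    · exact h.comm hS hK t.mem1 hK1 hx hzS1
  have hvw : v * w = w * v := h.comm hS t.mem3 t.mem4 t.ne34 hv hw
  have hvv : v * v = zz K₃ := sq_of_four h t.mem3.1 hv.1 hv4
  have hww : w * w = zz K₃ := by rw [t.z34]; exact sq_of_four h t.mem4.1 hw.1 hw4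
  have hsq : v * w * (v * w) = 1 := by
    calc v * w * (v * w) = v * (w * v) * w := by group
      _ = v * (v * w) * w := by rw [hvw]
      _ = (v * v) * (w * w) := by group
      _ = 1 := by rw [hvv, hww, h.zz_mul t.mem3.1]
  have hvH := hmemH t.mem3 hv
  have hwH := hmemH t.mem4 hw
  have hvwH : v * w ∈ H := H.mul_mem hvH hwH
  have p2 : ∀ {x : G} (hx : x ∈ H), orderOf x = 4 → (⟨x, hx⟩ : H) ^ 2 ^ 2 = 1 := by
    intro x hx hx4
    apply Subtype.ext
    change x ^ 4 = 1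
    rw [← hx4, pow_orderOf_eq_one]
  have hD1 : qm H ⟨v * w, hvwH⟩ ∈ D := by
    have e1 : (⟨v * w, hvwH⟩ : H) = ⟨v, hvH⟩ * ⟨w, hwH⟩ := rfl
    rw [e1, map_mul]
    exact D.mul_mem (h3 (mem_tr hT (hcov t.mem3) hv.1 (p2 hvH hv4)))
      (h4 (mem_tr hT (hcov t.mem4) hw.1 (p2 hwH hw4)))
  -- 2-elements in the kernel
  have hker : ∀ {x y : G} (hx : x ∈ H) (hy : y ∈ H), x * x = 1 → y * y = 1 → x * y = y * x →
      qm H ⟨x, hx⟩ = qm H ⟨y, hy⟩ → x = y := by
    intro x y hx hy hxx hyy hxy he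
    have h1 : (⟨x, hx⟩ * ⟨y, hy⟩ : H) ∈ (qm H).ker := by
      rw [MonoidHom.mem_ker, map_mul, he, ← map_mul]
      have : (⟨y, hy⟩ * ⟨y, hy⟩ : H) = 1 := Subtype.ext hyy
      rw [this, map_one]
    have h2 : (⟨x, hx⟩ * ⟨y, hy⟩ : H) = 1 := by
      refine eq_one_of_odd (not_dvd_ker H) h1 (a := 1) (Subtype.ext ?_)
      change (x * y) ^ (2 ^ 1) = 1
      calc (x * y) ^ (2 ^ 1) = x * y * (x * y) := by rw [pow_one, pow_two]
        _ = x * (y * x) * y := by group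
        _ = (x * x) * (y * y) := by rw [← hxy]; group
        _ = 1 := by rw [hxx, hyy, one_mul]
    have h3 : x * y = 1 := congrArg Subtype.val h2
    rw [← hyy] at h3
    exact mul_right_cancel h3
  have hne1 : v * w ≠ 1 := by
    intro h1
    have h2 : w = v⁻¹ := (inv_eq_of_mul_eq_one_right h1).symm
    refine not_mem_of_ne h hS t.mem3 t.mem4 t.ne34 hv hv4 ?_
    have h3 := hw.1
    rw [h2] at h3
    exact inv_mem_iff.1 h3
  have T4 : FourX (fam Om H) ![tr H K₁, tr H K₂, tr H K₃, tr H K₄] := by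
    subst hz hH
    exact fourX m t (zz_mem_ES t.mem1) (h.zz_ne t.mem1.1) (h.DD_le_centralizer S.isPGroup' t.mem1)
  have hp := T4.pieces
  have hTw : TwG (fam Om H) D (tr H K₃) (tr H K₄) :=
    { hyp := hyp_fam h hT H
      ty := isType_fam hT H
      core := hp.core
      pc := hD
      mem := tr_mem (hcov t.mem3)
      mem' := tr_mem (hcov t.mem4)
      le := h3
      le' := h4
      ne := fun he => (by decide : (2 : Fin 4) ≠ 3) (T4.injective he)
      comm := T4.comm 2 3 (by decide)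
      zz := T4.z23 }
  have hX1 := hTw.exists_zz hD1 (by
    rw [← map_mul]
    have : (⟨v * w, hvwH⟩ * ⟨v * w, hvwH⟩ : H) = 1 := Subtype.ext hsq
    rw [this, map_one]) (by
    intro h1
    apply hne1
    refine hker hvwH H.one_mem hsq (one_mul 1) (by rw [mul_one, one_mul]) ?_
    rw [h1]
    exact (map_one _).symm)
  obtain ⟨g₀, -, hJ₀, hJ₀D, hzJ₀⟩ := hX1
  obtain ⟨L, hL, hLe⟩ := exists_tr hJ₀
  rw [← hLe] at hJ₀ hJ₀D hzJ₀
  rw [zz_tr h hT hL] at hzJ₀
  obtain ⟨n, hn, hn2⟩ := exists_ker_conj (not_dvd_ker H) (z := ⟨zz L, zz_mem_of_cov h hL⟩) (t := ⟨v * w, hvwH⟩)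
    (Subtype.ext (h.zz_mul hL.1)) (Subtype.ext hsq) hzJ₀
  have hn3 : (n : G) * zz L * (n : G)⁻¹ = v * w := congrArg Subtype.val hn2
  set J := Cit.cj (n : G) L with hJdef
  have hJcov : J ∈ cov Om H := cj_mem_cov' h hL n.2
  have hzJ : zz J = v * w := by rw [hJdef, h.zz_cj hL.1, hn3]
  have htrJ : tr H J = tr H L := by
    symm
    rw [ker_qm] at hn
    exact (tr_eq_iff h hT hL hJcov).2 ⟨n, hn, rfl⟩
  -- `f` centralises the trace of `J`
  have hcm : ∀ {K}, K ∈ OmS Om (S : Subgroup G) → zz K = z → cm (tr H J) (tr H K) := by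
    intro K hK hKz
    refine cm_of_zz (hyp_fam h hT H) hp.core (tr_mem (hcov hK)) (tr_mem hJcov) ?_ ?_
    · intro he
      have h1 : zz (tr H J) = zz (tr H K) := by rw [he]
      rw [zz_tr h hT hJcov, zz_tr h hT (hcov hK)] at h1
      have h2 : v * w = z := by
        refine hker hvwH (by rw [hz]; exact hmemH t.mem1 (h.zz_mem_inf hS t.mem1)) hsq
          (by rw [hz]; exact h.zz_mul t.mem1.1) (mem_centralizer_singleton_iff.1 (hH ▸ hvwH)) ?_
        have e1 : (⟨v * w, hvwH⟩ : H) = ⟨zz J, zz_mem_of_cov h hJcov⟩ := Subtype.ext hzJ.symm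
        have e2 : (⟨z, by rw [hz]; exact hmemH t.mem1 (h.zz_mem_inf hS t.mem1)⟩ : H) =
            ⟨zz K, zz_mem_of_cov h (hcov hK)⟩ := Subtype.ext hKz.symm
        rw [e1, e2]; exact h1
      -- an element inverting `v`
      obtain ⟨c, q, k, hq⟩ := h.exists_gq t.mem3.1 (syl_inf hS t.mem3)
      obtain ⟨r, hr, -, hrv⟩ := hq.exists_inverting hv hv4
      have h5 : r * w = w * r := h.comm hS t.mem3 t.mem4 t.ne34 hr hw
      have h6 : r * z = z * r := by
        have := hmemH t.mem3 hr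
        rw [hH] at this
        exact mem_centralizer_singleton_iff.1 this
      have h7 : v⁻¹ * w = v * w := by
        calc v⁻¹ * w = (r * v * r⁻¹) * w := by rw [hrv]
          _ = r * v * (r⁻¹ * w) := by group
          _ = r * v * (w * r⁻¹) := by
              rw [show r⁻¹ * w = w * r⁻¹ by
                rw [inv_mul_eq_iff_eq_mul, ← mul_assoc, h5, mul_inv_cancel_right]]
          _ = r * (v * w) * r⁻¹ := by group
          _ = v * w := by rw [h2, h6, mul_inv_cancel_right]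
      have h8 := mul_right_cancel h7
      have h9 : v * v = 1 := by
        nth_rewrite 1 [← h8]
        exact inv_mul_cancel v
      rw [hvv] at h9
      exact h.zz_ne t.mem3.1 h9
    · intro x hx
      rw [zz_tr h hT (hcov hK)]
      obtain ⟨y, rfl⟩ := qm_surjective H x
      rw [← map_mul, ← map_mul]
      congr 1
      apply Subtype.ext
      change (y : G) * zz K = zz K * (y : G)
      rw [hKz]
      exact mem_centralizer_singleton_iff.1 (hH ▸ y.2)
  refine ⟨J, hJcov.1, hzJ, fun a ha b hb ha4 hb4 => ?_⟩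
  have haH := hmemH t.mem1 ha
  have hbH := hmemH t.mem2 hb
  have hab : a * b = b * a := h.comm hS t.mem1 t.mem2 t.ne12 ha hb
  have haa : a * a = zz K₁ := sq_of_four h t.mem1.1 ha.1 ha4
  have hbb : b * b = zz K₁ := by rw [t.z12]; exact sq_of_four h t.mem2.1 hb.1 hb4
  have hffsq : a * b * (a * b) = 1 := by
    calc a * b * (a * b) = a * (b * a) * b := by group
      _ = a * (a * b) * b := by rw [hab]
      _ = (a * a) * (b * b) := by group
      _ = 1 := by rw [haa, hbb, h.zz_mul t.mem1.1]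
  have hcomm : a * b * (v * w) = v * w * (a * b) := by
    have c1 := h.comm hS t.mem1 t.mem3 t.ne13 ha hv
    have c2 := h.comm hS t.mem1 t.mem4 t.ne14 ha hw
    have c3 := h.comm hS t.mem2 t.mem3 t.ne23 hb hv
    have c4 := h.comm hS t.mem2 t.mem4 t.ne24 hb hw
    have d1 : Commute a (v * w) := (show Commute a v from c1).mul_right c2
    have d2 : Commute b (v * w) := (show Commute b v from c3).mul_right c4
    exact (d1.mul_left d2).eq
  obtain ⟨J', hJ', hzJ', Q, hQ, hQc⟩ := exists_cent_syl h hT hJcov (f := a * b) (H.mul_mem haH hbH) hffsq (by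
    intro x hx
    have e1 : (⟨a * b, H.mul_mem haH hbH⟩ : H) = ⟨a, haH⟩ * ⟨b, hbH⟩ := rfl
    rw [e1, map_mul]
    have h1 := hcm t.mem1 hz.symm x hx _ (mem_tr hT (hcov t.mem1) ha.1 (p2 haH ha4))
    have h2 := hcm t.mem2 (by rw [← t.z12, hz]) x hx _ (mem_tr hT (hcov t.mem2) hb.1 (p2 hbH hb4))
    exact ((show Commute x _ from h1).mul_right h2).eq) (by rw [hzJ]; exact hcomm)
  exact ⟨J', hJ', hzJ'.trans hzJ, Q, hQ, hQc⟩

/-- **(D)** : the products `v₁v₂` are involutions of members -/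
theorem TwoTwo.exists_zz' (m : MinS Om) (t : TwoTwo Om (S : Subgroup G) K₁ K₂ K₃ K₄) {z : G} (hz : z = zz K₁)
    {H : Subgroup G} (hH : H = centralizer {z}) {D : Subgroup (HQ H)} (h3 : tr H K₃ ≤ D)
    (h4 : tr H K₄ ≤ D) (hD : PieceG2 (fam Om H) D)
    {v w : G} (hv : v ∈ K₁ ⊓ S) (hw : w ∈ K₂ ⊓ S) (hv4 : orderOf v = 4) (hw4 : orderOf w = 4) :
    ∃ J ∈ Om, zz J = v * w := by
  have h := m.hyp
  have hS := S.isPGroup'
  obtain ⟨g, hg⟩ := m.cls _ t.mem1.1 _ t.mem3.1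
  obtain ⟨n, hn, hn1⟩ := TypeDet.exists_normalizer_cj h S t.mem1 t.mem3 hg.symm
  have hn2 : Cit.cj n K₂ = K₄ := by
    have h1 : Cit.cj n K₂ ∈ OmS Om (S : Subgroup G) := by
      have := t.mem2
      rw [← OmS_DD hS] at this ⊢
      exact cj_mem_OmS' h.conj hn this
    have h2 : zz (Cit.cj n K₂) = zz K₃ := by
      rw [h.zz_cj t.mem2.1, ← t.z12, ← h.zz_cj t.mem1.1, hn1]
    rcases t.cases h1 with h5 | h5 | h5 | h5
    · exact absurd (by rw [← h2, h5]) t.ne
    · exact absurd (by rw [t.z12, ← h2, h5]) t.ne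
    · exact absurd (cj_inj.1 (hn1.trans h5.symm)) t.ne12
    · exact h5
  have key : ∀ {K L x}, K ∈ OmS Om (S : Subgroup G) → Cit.cj n K = L → x ∈ K ⊓ (S : Subgroup G) →
      n * x * n⁻¹ ∈ L ⊓ (S : Subgroup G) := by
    intro K L x hK hKL hx
    refine ⟨by rw [← hKL]; exact conj_mem_cj hx.1, DD_le (Om := Om) ?_⟩
    exact (mem_normalizer_iff.1 hn x).1 (inf_le_DD hK hx)
  have ho : ∀ x : G, orderOf (n * x * n⁻¹) = orderOf x := fun x => by
    have := MulEquiv.orderOf_eq (MulAut.conj n) x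
    simpa using this
  obtain ⟨J, hJ, hzJ, -⟩ := t.exists_zz m hz hH h3 h4 hD (key t.mem1 hn1 hv) (key t.mem2 hn2 hw)
    (by rw [ho, hv4]) (by rw [ho, hw4])
  refine ⟨Cit.cj n⁻¹ J, h.conj J hJ _, ?_⟩
  rw [h.zz_cj hJ, hzJ]; group

/-- **the key** : the product of all four is not the involution of a member -/
theorem TwoTwo.zz_ne_prod (m : MinS Om) (t : TwoTwo Om (S : Subgroup G) K₁ K₂ K₃ K₄) {z : G} (hz : z = zz K₁)
    {H : Subgroup G} (hH : H = centralizer {z}) {D : Subgroup (HQ H)} (h3 : tr H K₃ ≤ D)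
    (h4 : tr H K₄ ≤ D) (hD : PieceG2 (fam Om H) D)
    {a b v w : G} (ha : a ∈ K₁ ⊓ S) (hb : b ∈ K₂ ⊓ S) (hv : v ∈ K₃ ⊓ S) (hw : w ∈ K₄ ⊓ S)
    (ha4 : orderOf a = 4) (hb4 : orderOf b = 4) (hv4 : orderOf v = 4) (hw4 : orderOf w = 4)
    {L : Subgroup G} (hL : L ∈ Om) : zz L ≠ a * b * (v * w) := by
  have h := m.hyp
  have hS := S.isPGroup'
  obtain ⟨J, hJ, hzJ⟩ := t.exists_zz' m hz hH h3 h4 hD ha hb ha4 hb4
  obtain ⟨-, -, -, hJ'⟩ := t.exists_zz m hz hH h3 h4 hD hv hw hv4 hw4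
  obtain ⟨J', hJ', hzJ', Q, hQ, hQc⟩ := hJ' a ha b hb ha4 hb4
  obtain ⟨R, hR, -, hJ'R, hJR⟩ := PairComm.exists_common' h hJ' hJ hQ (by rw [hzJ]; exact hQc)
  obtain ⟨T, hT⟩ := exists_ge hR
  obtain ⟨L₁, L₂, L₃, L₄, t'⟩ := t.exists_of h T
  have hne : zz J ≠ zz J' := by
    rw [hzJ, hzJ']
    intro he
    obtain ⟨c, q, k, hq⟩ := h.exists_gq t.mem1.1 (syl_inf hS t.mem1)
    obtain ⟨r, hr, -, hra⟩ := hq.exists_inverting ha ha4
    have c1 := h.comm hS t.mem1 t.mem2 t.ne12 hr hb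
    have c3 := h.comm hS t.mem1 t.mem3 t.ne13 hr hv
    have c4 := h.comm hS t.mem1 t.mem4 t.ne14 hr hw
    have c5 : r * (v * w) = v * w * r := ((show Commute r v from c3).mul_right c4).eq
    have h7 : a⁻¹ * b = a * b := by
      calc a⁻¹ * b = (r * a * r⁻¹) * b := by rw [hra]
        _ = r * a * (r⁻¹ * b) := by group
        _ = r * a * (b * r⁻¹) := by
            rw [show r⁻¹ * b = b * r⁻¹ by
              rw [inv_mul_eq_iff_eq_mul, ← mul_assoc, c1, mul_inv_cancel_right]]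
        _ = r * (a * b) * r⁻¹ := by group
        _ = a * b := by rw [he, c5, mul_inv_cancel_right]
    have h8 := mul_right_cancel h7
    have h9 : a * a = 1 := by
      nth_rewrite 1 [← h8]
      exact inv_mul_cancel a
    rw [sq_of_four h t.mem1.1 ha.1 ha4] at h9
    exact h.zz_ne t.mem1.1 h9
  intro hzL
  rw [← hzJ, ← hzJ'] at hzL
  rcases t'.zz_cases (OmS_mono hT hJR) with h5 | h5 <;> rcases t'.zz_cases (OmS_mono hT hJ'R) with h6 | h6
  · exact hne (h5.trans h6.symm)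
  · exact t'.zz_ne_e h T hL (by rw [hzL, h5, h6])
  · exact t'.zz_ne_e h T hL (by rw [hzL, h5, h6, t'.comm13 h T.isPGroup'])
  · exact hne (h5.trans h6.symm)

/-- **(SW)** : some product of all four is the involution of a member -/
theorem TwoTwo.exists_prod (m : MinS Om) (t : TwoTwo Om (S : Subgroup G) K₁ K₂ K₃ K₄)
    (hB : Big Om (S : Subgroup G) (zz K₁ * zz K₃)) :
    ∃ a ∈ K₁ ⊓ (S : Subgroup G), ∃ b ∈ K₂ ⊓ (S : Subgroup G), ∃ v ∈ K₃ ⊓ (S : Subgroup G),
      ∃ w ∈ K₄ ⊓ (S : Subgroup G), orderOf a = 4 ∧ orderOf b = 4 ∧ orderOf v = 4 ∧ orderOf w = 4 ∧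
        ∃ L ∈ Om, zz L = a * b * (v * w) := by
  haveI : Fact (Nat.Prime 2) := ⟨Nat.prime_two⟩
  have h := m.hyp
  have hT := m.isType
  have hS := S.isPGroup'
  obtain ⟨e, he⟩ : ∃ e, e = zz K₁ * zz K₃ := ⟨_, rfl⟩
  obtain ⟨H, hH⟩ : ∃ H : Subgroup G, H = centralizer {e} := ⟨_, rfl⟩
  have heE : e ∈ ES Om (S : Subgroup G) := by rw [he]; exact mul_mem (zz_mem_ES t.mem1) (zz_mem_ES t.mem3)
  have hSH : (S : Subgroup G) ≤ H := by rw [hH, he]; exact t.le_centralizer h hS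
  have T4 : FourX (fam Om H) ![tr H K₁, tr H K₂, tr H K₃, tr H K₄] := by
    subst he hH
    exact fourX m t heE (t.mul_ne h) (DD_le.trans (t.le_centralizer h S.isPGroup'))
  obtain ⟨D, hKD, hD⟩ : ∃ D, (∀ K ∈ OmS Om (S : Subgroup G), tr H K ≤ D) ∧ PieceTy (fam Om H) D (.D 4) := by
    subst he hH
    exact hB
  have hcov : ∀ {K}, K ∈ OmS Om (S : Subgroup G) → K ∈ cov Om H := fun hK => by
    rw [hH]; exact CovES.mem_cov_of_mem_ES h hS hK heE
  obtain ⟨a, ha, ha4⟩ := h.exists_four hS t.mem1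
  obtain ⟨b, hb, hb4⟩ := h.exists_four hS t.mem2
  obtain ⟨v, hv, hv4⟩ := h.exists_four hS t.mem3
  obtain ⟨w, hw, hw4⟩ := h.exists_four hS t.mem4
  -- the Sylow subgroup
  obtain ⟨S', hS'⟩ : ∃ S' : Sylow 2 (HQ H), (S' : Subgroup (HQ H)) = ((S : Subgroup G).subgroupOf H).map (qm H) :=
    ⟨(S.subtype hSH).mapSurjective (qm_surjective H), rfl⟩
  have hzz : zz (tr H K₁) * zz (tr H K₃) = qm H ⟨e, by rw [hH]; exact mem_centralizer_singleton_iff.2 rfl⟩ := by
    rw [zz_tr h hT (hcov t.mem1), zz_tr h hT (hcov t.mem3), ← map_mul]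
    congr 1
    exact Subtype.ext he.symm
  have hcen : ∀ x : HQ H, x * (zz (tr H K₁) * zz (tr H K₃)) = zz (tr H K₁) * zz (tr H K₃) * x := by
    intro x
    obtain ⟨y, rfl⟩ := qm_surjective _ x
    rw [hzz, ← map_mul, ← map_mul]
    congr 1
    exact Subtype.ext (mem_centralizer_singleton_iff.1 (hH ▸ y.2))
  have ord : ∀ {x : G} (hx : x ∈ H), orderOf x = 4 → orderOf (qm H ⟨x, hx⟩) = 4 := by
    intro x hx hx4
    have e4 : x ^ 4 = 1 := by rw [← hx4, pow_orderOf_eq_one]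
    rw [show (4 : ℕ) = 2 ^ (1 + 1) by norm_num]
    refine orderOf_eq_prime_pow ?_ ?_
    · intro h1
      rw [← map_pow] at h1
      have h2 := eq_one_of_odd (not_dvd_ker H) h1 (a := 1) (Subtype.ext (by
        change (x ^ (2 ^ 1)) ^ (2 ^ 1) = 1
        rw [← pow_mul]; exact e4))
      have h3 : x ^ (2 ^ 1) = 1 := congrArg Subtype.val h2
      have h4 := orderOf_dvd_of_pow_eq_one h3
      rw [hx4] at h4
      revert h4; decide
    · rw [← map_pow]
      have h5 : (⟨x, hx⟩ : H) ^ 2 ^ (1 + 1) = 1 := Subtype.ext e4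
      rw [h5, map_one]
  have p2 : ∀ {x : G} (hx : x ∈ H), orderOf x = 4 → (⟨x, hx⟩ : H) ^ 2 ^ 2 = 1 := by
    intro x hx hx4
    apply Subtype.ext
    change x ^ 4 = 1
    rw [← hx4, pow_orderOf_eq_one]
  have mtr : ∀ {K x}, K ∈ OmS Om (S : Subgroup G) → (hx : x ∈ K ⊓ (S : Subgroup G)) → orderOf x = 4 →
      qm H ⟨x, hSH hx.2⟩ ∈ tr H K ⊓ (S' : Subgroup (HQ H)) := by
    intro K x hK hx hx4
    refine ⟨mem_tr hT (hcov hK) hx.1 (p2 _ hx4), ?_⟩
    rw [hS']
    exact ⟨_, hx.2, rfl⟩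
  have mOm : ∀ {K}, K ∈ OmS Om (S : Subgroup G) → tr H K ∈ OmS (fam Om H) (S' : Subgroup (HQ H)) := by
    intro K hK
    rw [hS']
    exact mem_OmS_fam hT (hcov hK) hSH hS hK
  obtain ⟨L', hL', hzL'⟩ := T4.exists_sw (fun K hK => (isType_fam hT H K hK).tyTwo) hcen hD.qs hD.nmem
    (hKD _ t.mem1) (S := S') (by
      intro i
      fin_cases i
      · exact mOm t.mem1
      · exact mOm t.mem2
      · exact mOm t.mem3
      · exact mOm t.mem4)
    (x := ![qm H ⟨a, hSH ha.2⟩, qm H ⟨b, hSH hb.2⟩, qm H ⟨v, hSH hv.2⟩, qm H ⟨w, hSH hw.2⟩]) (by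
      intro i
      fin_cases i
      · exact mtr t.mem1 ha ha4
      · exact mtr t.mem2 hb hb4
      · exact mtr t.mem3 hv hv4
      · exact mtr t.mem4 hw hw4) (by
      intro i
      fin_cases i
      · exact ord _ ha4
      · exact ord _ hb4
      · exact ord _ hv4
      · exact ord _ hw4)
  -- lift
  have lift : ∀ {y : G} (hy : y ∈ H), y * y = 1 → zz L' = qm H ⟨y, hy⟩ → ∃ L ∈ Om, zz L = y := by
    intro y hy hyy hz
    obtain ⟨L, hL, hLe⟩ := exists_tr hL'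
    rw [← hLe, zz_tr h hT hL] at hz
    obtain ⟨n, -, hn2⟩ := exists_ker_conj (not_dvd_ker H) (z := ⟨zz L, zz_mem_of_cov h hL⟩) (t := ⟨y, hy⟩)
      (Subtype.ext (h.zz_mul hL.1)) (Subtype.ext hyy) hz
    have hn3 : (n : G) * zz L * (n : G)⁻¹ = y := congrArg Subtype.val hn2
    exact ⟨Cit.cj (n : G) L, h.conj L hL.1 _, by rw [h.zz_cj hL.1, hn3]⟩
  -- the squares
  have sq : ∀ {a b v w : G}, a ∈ K₁ ⊓ (S : Subgroup G) → b ∈ K₂ ⊓ (S : Subgroup G) → v ∈ K₃ ⊓ (S : Subgroup G) →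
      w ∈ K₄ ⊓ (S : Subgroup G) → orderOf a = 4 → orderOf b = 4 → orderOf v = 4 → orderOf w = 4 →
      a * b * (v * w) * (a * b * (v * w)) = 1 := by
    intro a b v w ha hb hv hw ha4 hb4 hv4 hw4
    have c12 : Commute a b := h.comm hS t.mem1 t.mem2 t.ne12 ha hb
    have c13 : Commute a v := h.comm hS t.mem1 t.mem3 t.ne13 ha hv
    have c14 : Commute a w := h.comm hS t.mem1 t.mem4 t.ne14 ha hw
    have c23 : Commute b v := h.comm hS t.mem2 t.mem3 t.ne23 hb hv
    have c24 : Commute b w := h.comm hS t.mem2 t.mem4 t.ne24 hb hw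
    have c34 : Commute v w := h.comm hS t.mem3 t.mem4 t.ne34 hv hw
    have cc : Commute (a * b) (v * w) := (c13.mul_right c14).mul_left (c23.mul_right c24)
    have h1 : a * b * (a * b) = 1 := by
      rw [← pow_two, c12.mul_pow, pow_two, pow_two, sq_of_four h t.mem1.1 ha.1 ha4,
        sq_of_four h t.mem2.1 hb.1 hb4, ← t.z12, h.zz_mul t.mem1.1]
    have h2 : v * w * (v * w) = 1 := by
      rw [← pow_two, c34.mul_pow, pow_two, pow_two, sq_of_four h t.mem3.1 hv.1 hv4,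
        sq_of_four h t.mem4.1 hw.1 hw4, ← t.z34, h.zz_mul t.mem3.1]
    rw [← pow_two, cc.mul_pow, pow_two, pow_two, h1, h2, one_mul]
  rcases hzL' with h1 | h1
  · obtain ⟨L, hL, hz⟩ := lift (H.mul_mem (H.mul_mem (hSH ha.2) (hSH hb.2)) (H.mul_mem (hSH hv.2) (hSH hw.2)))
      (sq ha hb hv hw ha4 hb4 hv4 hw4) (by
        rw [h1]
        change qm H _ * qm H _ * qm H _ * qm H _ = _
        rw [← map_mul, ← map_mul, ← map_mul]
        congr 1
        exact Subtype.ext (by change a * b * v * w = a * b * (v * w); group))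
    exact ⟨a, ha, b, hb, v, hv, w, hw, ha4, hb4, hv4, hw4, L, hL, hz⟩
  · have ha' : a⁻¹ ∈ K₁ ⊓ (S : Subgroup G) := inv_mem ha
    have hv' : v⁻¹ ∈ K₃ ⊓ (S : Subgroup G) := inv_mem hv
    have ha4' : orderOf a⁻¹ = 4 := by rw [orderOf_inv, ha4]
    have hv4' : orderOf v⁻¹ = 4 := by rw [orderOf_inv, hv4]
    obtain ⟨L, hL, hz⟩ := lift (H.mul_mem (H.mul_mem (hSH ha'.2) (hSH hb.2)) (H.mul_mem (hSH hv'.2) (hSH hw.2)))
      (sq ha' hb hv' hw ha4' hb4 hv4' hw4) (by
        rw [h1]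
        change qm H _ * qm H _ * qm H _ * qm H _ * (zz (tr H K₁) * zz (tr H K₃)) = _
        rw [hzz, ← map_mul, ← map_mul, ← map_mul, ← map_mul]
        congr 1
        apply Subtype.ext
        change a * b * v * w * e = a⁻¹ * b * (v⁻¹ * w)
        have c12 : Commute a b := h.comm hS t.mem1 t.mem2 t.ne12 ha hb
        have c13 : Commute a v := h.comm hS t.mem1 t.mem3 t.ne13 ha hv
        have c14 : Commute a w := h.comm hS t.mem1 t.mem4 t.ne14 ha hw
        have c23 : Commute b v := h.comm hS t.mem2 t.mem3 t.ne23 hb hv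
        have c24 : Commute b w := h.comm hS t.mem2 t.mem4 t.ne24 hb hw
        have c34 : Commute v w := h.comm hS t.mem3 t.mem4 t.ne34 hv hw
        have q1 : a * a = zz K₁ := sq_of_four h t.mem1.1 ha.1 ha4
        have q3 : v * v = zz K₃ := sq_of_four h t.mem3.1 hv.1 hv4
        have i1 : a⁻¹ = a * zz K₁ := by
          rw [eq_comm, ← mul_eq_one_iff_eq_inv, mul_assoc, ← q1]
          have := h.zz_mul t.mem1.1
          rw [← q1] at this
          calc a * (a * a * a) = a * a * (a * a) := by group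
            _ = 1 := this
        have i3 : v⁻¹ = v * zz K₃ := by
          rw [eq_comm, ← mul_eq_one_iff_eq_inv, mul_assoc, ← q3]
          have := h.zz_mul t.mem3.1
          rw [← q3] at this
          calc v * (v * v * v) = v * v * (v * v) := by group
            _ = 1 := this
        rw [he, i1, i3, ← q1, ← q3]
        have d1 : Commute (a * a) b := c12.mul_left c12
        have d2 : Commute (a * a) (b * v * w) := ((c12.mul_right c13).mul_right c14).mul_left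
          ((c12.mul_right c13).mul_right c14)
        have d3 : Commute (v * v) w := c34.mul_left c34
        calc a * b * v * w * (a * a * (v * v)) = a * ((b * v * w) * (a * a)) * (v * v) := by group
          _ = a * ((a * a) * (b * v * w)) * (v * v) := by rw [d2.eq]
          _ = a * (a * a) * b * v * (w * (v * v)) := by group
          _ = a * (a * a) * b * v * (v * v * w) := by rw [← d3.eq]
          _ = a * (a * a) * b * (v * (v * v) * w) := by group)
    exact ⟨a⁻¹, ha', b, hb, v⁻¹, hv', w, hw, ha4', hb4, hv4', hw4, L, hL, hz⟩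

/-- **no `G₂` if `C(e)` has a piece of type `D_4`** -/
theorem noG2 : NoG2.{u} := by
  intro G _ _ Om m S K₁ K₂ K₃ K₄ t hB D h3 h4 hD
  obtain ⟨a, ha, b, hb, v, hv, w, hw, ha4, hb4, hv4, hw4, L, hL, hz⟩ := t.exists_prod m hB
  exact t.zz_ne_prod m rfl rfl h3 h4 hD ha hb hv hw ha4 hb4 hv4 hw4 hL hz

end

end Cfsg.Agent.Cit.Four
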