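import Cfsg.Agent.Cit.Four.ExcPiece
import Cfsg.Agent.Cit.Four.CorAll
import Cfsg.Agent.Cit.Four.TypesMain
import Cfsg.Agent.Cit.Four.Kill
import Cfsg.Agent.Cit.Trivial
import Cfsg.Agent.Cit.FamFb

/-!
# `n = 4`, `τ = 2` : no pieces of type `G₂(q)`, `³D₄(q)` if `Sing Om S e` (CASE II)

`Bf Om z` : the members in `C(z)` with involution `≠ z`.
* `InnP Om z z'`, `GenP Om z z'` : the facts of the piece of type `G₂` at `z` in terms of `G`; `GenP.cj`;
* `comm_all` : the members of `Bf z` and `Bf z'` commute;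
* `false_of_excTwo` : contradiction to CLOSE and the simplicity of `G`.
-/

set_option autoImplicit false
set_option linter.style.haveILetI false
set_option linter.unusedSectionVars false

namespace Cfsg.Agent.Cit.Four

open Subgroup Cfsg Cfsg.Agent.Cit SubCent UseT Branches PieceG CovES
open Cfsg.Agent.Cit.TypeDet (cm)
open Cfsg.Agent.Cit.ExLocal (LB)
open scoped commutatorElement

universe u

/-- a 2-element centralising a Sylow 2-subgroup of a member with trivial core centralises the member -/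
theorem comm_of_syl {X : Type*} [Group X] [Finite X] {F : Set (Subgroup X)} (h : Hyp F) {K : Subgroup X} (hK : K ∈ F)
    (hO : OO K = ⊥) {Q : Subgroup X} (hQ : Syl Q K) {b : X} {n : ℕ} (hb : b ^ 2 ^ n = 1)
    (hQb : ∀ q ∈ Q, b * q = q * b) : ∀ k ∈ K, b * k = k * b := by
  obtain ⟨c, v, m, hq⟩ := h.exists_gq hK hQ
  have hzb : b * zz K = zz K * b := hQb _ hq.z_mem
  have hbK : b ∈ normalizer (K : Set X) := by
    rw [mem_normalizer_iff_cj]
    have h1 : zz (cj b K) = zz K := by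
      rw [h.zz_cj hK, hzb, mul_inv_cancel_right]
    rcases h.h2 _ (h.conj K hK b) K hK h1 with h2 | h2
    · exact h2
    · exfalso
      rw [hO, inf_bot_eq, le_bot_iff, commutator_eq_bot_iff_le_centralizer] at h2
      have h3 : ∀ q ∈ Q, q ∈ cj b K := by
        intro q hq'
        rw [mem_cj]
        have h4 : b⁻¹ * q * b = q := by rw [mul_assoc, ← hQb q hq', inv_mul_cancel_left]
        rw [h4]
        exact hQ.1 hq'
      apply hq.not_comm
      exact (mem_centralizer_iff.1 (h2 (h3 v hq.v_mem)) c (hQ.1 hq.c_mem)).symm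
  intro k hk
  have h2 := Trivial.comm_mem_OO h hK hQ hbK hb hQb k hk
  rw [hO, mem_bot, mul_inv_eq_one, mul_inv_eq_iff_eq_mul] at h2
  exact h2

section

variable {G : Type u} [Group G]

/-- the members in `C(z)` with involution `≠ z` -/
def Bf (Om : Set (Subgroup G)) (z : G) : Set (Subgroup G) := {J | J ∈ Om ∧ J ≤ centralizer {z} ∧ zz J ≠ z}

/-- the fact on involutory automorphisms of the piece at `z` -/
def InnP (Om : Set (Subgroup G)) (z z' : G) : Prop :=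
  ∀ a, a * a = 1 → a * z = z * a → (∀ K ∈ Om, zz K = z' → ∀ x ∈ K, a * x = x * a) →
    (∀ L ∈ Bf Om z, ∀ x ∈ L, a * x = x * a) ∨ (∀ L ∈ Bf Om z, ∀ x ∈ L, a * z' * x = x * (a * z'))

/-- generation of the piece at `z` -/
def GenP (Om : Set (Subgroup G)) (z z' : G) : Prop :=
  ∀ N : Subgroup G, (∀ J ∈ Bf Om z, zz J * z' = z' * zz J → J ≤ N) → ∀ J ∈ Bf Om z, zz J ∈ N

variable [Finite G] {Om : Set (Subgroup G)}

theorem cj_mem_Bf (h : Hyp Om) {z g : G} {J : Subgroup G} (hJ : J ∈ Bf Om z) :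
    cj g J ∈ Bf Om (g * z * g⁻¹) := by
  refine ⟨h.conj J hJ.1 g, ?_, ?_⟩
  · rw [← cj_centralizer]
    exact cj_mono g hJ.2.1
  · rw [h.zz_cj hJ.1]
    intro e
    exact hJ.2.2 (mul_left_cancel (mul_right_cancel e))

theorem cj_mem_Bf_iff (h : Hyp Om) {z g : G} {J : Subgroup G} :
    cj g⁻¹ J ∈ Bf Om z ↔ J ∈ Bf Om (g * z * g⁻¹) := by
  constructor
  · intro h1
    have h2 := cj_mem_Bf h (g := g) h1
    rwa [cj_cj_inv] at h2
  · intro h1
    have h2 := cj_mem_Bf h (g := g⁻¹) h1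
    have e : g⁻¹ * (g * z * g⁻¹) * g⁻¹⁻¹ = z := by group
    rwa [e] at h2

theorem GenP.cj (h : Hyp Om) {z z' : G} (hG : GenP Om z z') (g : G) : GenP Om (g * z * g⁻¹) (g * z' * g⁻¹) := by
  intro N hN J hJ
  have h1 := hG (Cit.cj g⁻¹ N) (by
    intro L hL hc
    have h2 := hN _ (cj_mem_Bf h (g := g) hL) (by
      rw [h.zz_cj hL.1]
      calc g * zz L * g⁻¹ * (g * z' * g⁻¹) = g * (zz L * z') * g⁻¹ := by group
        _ = g * (z' * zz L) * g⁻¹ := by rw [hc]
        _ = _ := by group)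
    have h3 := cj_mono g⁻¹ h2
    rwa [cj_inv_cj] at h3) _ ((cj_mem_Bf_iff h).2 hJ)
  rw [h.zz_cj hJ.1, mem_cj] at h1
  have e : g⁻¹⁻¹ * (g⁻¹ * zz J * g⁻¹⁻¹) * g⁻¹ = zz J := by group
  rwa [e] at h1

end

section

variable {G : Type u} [Group G] [Finite G] {Om : Set (Subgroup G)} {S : Sylow 2 G} {K₁ K₂ K₃ K₄ : Subgroup G}

/-- the input -/
structure ExI (Om : Set (Subgroup G)) (S : Sylow 2 G) (K₁ K₂ K₃ K₄ : Subgroup G) : Prop where
  b : LB Om
  t : TwoTwo Om (S : Subgroup G) K₁ K₂ K₃ K₄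

namespace ExI

variable (I : ExI Om S K₁ K₂ K₃ K₄)

include I

theorem hyp : Hyp Om := I.b.hyp

theorem swap : ExI Om S K₃ K₄ K₁ K₂ := ⟨I.b, I.t.swap⟩

theorem isType : ∀ K ∈ Om, IsType K := fun K hK => (I.b.ty K hK).isType

theorem cc {K L : Subgroup G} (hK : K ∈ OmS Om (S : Subgroup G)) (hL : L ∈ OmS Om (S : Subgroup G)) (hne : K ≠ L) :
    cm K L := TypeDet.cm_iff_le_centralizer.2 (UseT.comm_of_core I.hyp I.b.core S.isPGroup' hK hL hne)

/-- no member commutes with `K₁`, ..., `K₄` -/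
theorem false_of_five {L : Subgroup G} (hL : L ∈ Om) (h1 : cm L K₁) (h2 : cm L K₂) (h3 : cm L K₃) (h4 : cm L K₄) :
    False := by
  -- `L` and `K₁, …, K₄` are in one `Om(T)`
  have hset : ({L, K₁, K₂, K₃, K₄} : Set (Subgroup G)) ⊆ Om := by
    rintro M (rfl | rfl | rfl | rfl | rfl)
    · exact hL
    · exact I.t.mem1.1
    · exact I.t.mem2.1
    · exact I.t.mem3.1
    · exact I.t.mem4.1
  have hcc : ∀ M ∈ ({L, K₁, K₂, K₃, K₄} : Set (Subgroup G)), ∀ N ∈ ({L, K₁, K₂, K₃, K₄} : Set (Subgroup G)),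
      M ≠ N → cm M N := by
    rintro M (rfl | rfl | rfl | rfl | rfl) N (rfl | rfl | rfl | rfl | rfl) hne
    all_goals first
      | exact absurd rfl hne
      | assumption
      | exact TypeDet.cm_symm (by assumption)
      | exact I.cc I.t.mem1 I.t.mem2 hne
      | exact I.cc I.t.mem1 I.t.mem3 hne
      | exact I.cc I.t.mem1 I.t.mem4 hne
      | exact I.cc I.t.mem2 I.t.mem1 hne
      | exact I.cc I.t.mem2 I.t.mem3 hne
      | exact I.cc I.t.mem2 I.t.mem4 hne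
      | exact I.cc I.t.mem3 I.t.mem1 hne
      | exact I.cc I.t.mem3 I.t.mem2 hne
      | exact I.cc I.t.mem3 I.t.mem4 hne
      | exact I.cc I.t.mem4 I.t.mem1 hne
      | exact I.cc I.t.mem4 I.t.mem2 hne
      | exact I.cc I.t.mem4 I.t.mem3 hne
  obtain ⟨T, hT⟩ := TypeDet.exists_sylow_of_comm hset hcc
  have hn := (I.t.card I.hyp) T
  have hL' : L ∉ ({K₁, K₂, K₃, K₄} : Set (Subgroup G)) := by
    rintro (rfl | rfl | rfl | rfl)
    · exact I.b.not_cm_self hL h1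
    · exact I.b.not_cm_self hL h2
    · exact I.b.not_cm_self hL h3
    · exact I.b.not_cm_self hL h4
  have h5 : (insert L ({K₁, K₂, K₃, K₄} : Set (Subgroup G))).ncard = 5 := by
    rw [Set.ncard_insert_of_notMem hL' (Set.toFinite _), ← I.t.eq, I.t.ncard]
  have h6 := Set.ncard_le_ncard hT (Set.toFinite _)
  rw [h5, hn] at h6
  omega

theorem tau {K L M : Subgroup G} (hK : K ∈ Om) (hL : L ∈ Om) (hM : M ∈ Om) (h1 : zz K = zz L) (h2 : zz K = zz M) :
    K = L ∨ K = M ∨ L = M := tau_le_two I.hyp (I.t.tauTwo I.hyp) K hK L hL M hM h1 h2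

/-- the members over `z` -/
theorem eq_of_zz {J : Subgroup G} (hJ : J ∈ Om) (hz : zz J = zz K₁) : J = K₁ ∨ J = K₂ := by
  rcases I.tau I.t.mem1.1 I.t.mem2.1 hJ I.t.z12 hz.symm with h1 | h1 | h1
  · exact absurd h1 I.t.ne12
  · exact Or.inl h1.symm
  · exact Or.inr h1.symm

/-- members of `Bf z` commute with the members over `z` -/
theorem cm_of_Bf {J L : Subgroup G} (hJ : J ∈ Om) (hz : zz J = zz K₁) (hL : L ∈ Bf Om (zz K₁)) : cm J L := by
  have h1 : L ≤ centralizer {zz J} := by rw [hz]; exact hL.2.1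
  rcases I.b.eq_or_cm hJ hL.1 h1 with h2 | h2
  · exact absurd (by rw [h2, hz]) hL.2.2
  · exact TypeDet.cm_symm h2

theorem mem3_Bf : K₃ ∈ Bf Om (zz K₁) :=
  ⟨I.t.mem3.1, I.b.le_of_cm I.t.mem1.1 (I.cc I.t.mem3 I.t.mem1 I.t.ne13.symm), I.t.ne.symm⟩

theorem mem4_Bf : K₄ ∈ Bf Om (zz K₁) :=
  ⟨I.t.mem4.1, I.b.le_of_cm I.t.mem1.1 (I.cc I.t.mem4 I.t.mem1 I.t.ne14.symm), by rw [← I.t.z34]; exact I.t.ne.symm⟩

/-- no member is in `Bf z` and `Bf z'` -/
theorem false_of_both {J : Subgroup G} (h1 : J ∈ Bf Om (zz K₁)) (h3 : J ∈ Bf Om (zz K₃)) : False :=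
  I.false_of_five h1.1 (TypeDet.cm_symm (I.cm_of_Bf I.t.mem1.1 rfl h1)) (TypeDet.cm_symm (I.cm_of_Bf I.t.mem2.1 I.t.z12.symm h1))
    (TypeDet.cm_symm (I.swap.cm_of_Bf I.t.mem3.1 rfl h3)) (TypeDet.cm_symm (I.swap.cm_of_Bf I.t.mem4.1 I.t.z34.symm h3))

end ExI

/-! ### The piece at `z` -/

/-- the piece at `z` is of type `G₂(q)`, `³D₄(q)` -/
structure ExG (Om : Set (Subgroup G)) (S : Sylow 2 G) (K₁ K₂ K₃ K₄ : Subgroup G) : Prop extends ExI Om S K₁ K₂ K₃ K₄ where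
  le34 : bar (centralizer {zz K₁}) K₄ ≤ PT Om (centralizer {zz K₁}) K₃
  pc : PieceG2 (fb Om (centralizer {zz K₁})) (PT Om (centralizer {zz K₁}) K₃)

theorem zz_bar (h : Hyp Om) {H K : Subgroup G} (hK : K ∈ Om) (hKH : K ≤ H) :
    zz (bar H K) = qm H ⟨zz K, hKH (h.zz_mem hK)⟩ := by
  rw [bar, zz_map' (h.restr H) (not_dvd_ker H) (subgroupOf_mem_restr hK hKH)]
  congr 1
  apply Subtype.ext
  have h7 := zz_map h (subgroupOf_mem_restr hK hKH)
  rw [h7, map_subgroupOf_eq_of_le hKH]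

namespace ExG

variable (I : ExG Om S K₁ K₂ K₃ K₄)

include I

theorem cor : CorG Om (centralizer {zz K₁}) := I.b.cor K₁ I.t.mem1.1

theorem le3 : K₃ ≤ centralizer {zz K₁} := I.mem3_Bf.2.1
theorem le4 : K₄ ≤ centralizer {zz K₁} := I.mem4_Bf.2.1

theorem hf : Hyp (fb Om (centralizer {zz K₁})) := fb_hyp I.hyp _

theorem qp : QP Om (centralizer {zz K₁}) (PT Om (centralizer {zz K₁}) K₃) := qp_PT I.cor I.t.mem3.1 I.le3 I.pc.nmem

theorem tw : TwG (fb Om (centralizer {zz K₁})) (PT Om (centralizer {zz K₁}) K₃) (bar (centralizer {zz K₁}) K₃)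
    (bar (centralizer {zz K₁}) K₄) where
  hyp := I.hf
  ty := TyTrans.isType_img_odd (TyTrans.isType_restr I.isType _) (not_dvd_ker _)
  core := I.cor.pcs.core
  pc := I.pc
  mem := bar_mem I.t.mem3.1 I.le3
  mem' := bar_mem I.t.mem4.1 I.le4
  le := bar_le_PT
  le' := I.le34
  ne h := I.t.ne34 (eq_of_bar_eq I.cor I.t.mem3.1 I.t.mem4.1 I.le3 I.le4 h)
  comm := (I.b.cm_iff I.cor I.t.mem3.1 I.t.mem4.1 I.le3 I.le4).2 (I.cc I.t.mem3 I.t.mem4 I.t.ne34)
  zz := by
    rw [zz_bar I.hyp I.t.mem3.1 I.le3, zz_bar I.hyp I.t.mem4.1 I.le4]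
    congr 1
    exact Subtype.ext I.t.z34

/-- the members of `Bf z` are in the piece -/
theorem bar_le {L : Subgroup G} (hL : L ∈ Bf Om (zz K₁)) :
    bar (centralizer {zz K₁}) L ≤ PT Om (centralizer {zz K₁}) K₃ := by
  by_cases h3 : cm L K₃
  · by_cases h4 : cm L K₄
    · exact (I.false_of_five hL.1 (TypeDet.cm_symm (I.cm_of_Bf I.t.mem1.1 rfl hL))
        (TypeDet.cm_symm (I.cm_of_Bf I.t.mem2.1 I.t.z12.symm hL)) h3 h4).elim
    · have h1 := I.b.PT_eq_of_not_cm I.cor hL.1 I.t.mem4.1 hL.2.1 I.le4 h4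
      have h2 : PT Om (centralizer {zz K₁}) K₄ = PT Om (centralizer {zz K₁}) K₃ :=
        (le_pc_iff I.hf (bar_mem I.t.mem4.1 I.le4) (bar_mem I.t.mem3.1 I.le3)).1 I.le34
      rw [← h2, ← h1]
      exact bar_le_PT
  · have h1 := I.b.PT_eq_of_not_cm I.cor hL.1 I.t.mem3.1 hL.2.1 I.le3 h3
    rw [← h1]
    exact bar_le_PT

/-- elements of order two centralising the piece centralise `Bf z` -/
theorem comm_of_cent {a : G} (haH : a ∈ centralizer {zz K₁}) (ha2 : a * a = 1)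
    (hc : ∀ d ∈ PT Om (centralizer {zz K₁}) K₃, qm _ ⟨a, haH⟩ * d = d * qm _ ⟨a, haH⟩) {L : Subgroup G}
    (hL : L ∈ Bf Om (zz K₁)) : ∀ x ∈ L, a * x = x * a := by
  have h1 : zpowers a ≤ centralizer {zz K₁} := by rw [zpowers_le]; exact haH
  have h2 := comm_of_bar I.cor I.qp h1 (by
    rintro _ ⟨⟨y, hy⟩, hyY, rfl⟩
    obtain ⟨i, hi⟩ := mem_zpowers_iff.1 (show y ∈ zpowers a from hyY)
    have e : (⟨y, hy⟩ : centralizer {zz K₁}) = ⟨a, haH⟩ ^ i := Subtype.ext hi.symm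
    rw [e, map_zpow]
    refine Subgroup.zpow_mem _ ?_ i
    rw [mem_centralizer_iff]
    exact fun d hd => (hc d hd).symm)
  obtain ⟨Q, hQ⟩ := Hyp.exists_syl L
  have h3 : Q ≤ DL Om (centralizer {zz K₁}) (PT Om (centralizer {zz K₁}) K₃) :=
    le_DL hL.1 hL.2.1 hQ.2.1 hQ.1 (I.bar_le hL)
  exact comm_of_syl I.hyp hL.1 (I.b.core L hL.1) hQ (n := 1) (by rw [pow_one, pow_two, ha2])
    fun q hq => h2 a (mem_zpowers a) q (h3 hq)

/-- **(INN)** -/
theorem innP : InnP Om (zz K₁) (zz K₃) := by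
  intro a ha2 haz haK
  have haH : a ∈ centralizer {zz K₁} := mem_centralizer_singleton_iff.2 haz
  have h3 : ∀ x ∈ bar (centralizer {zz K₁}) K₃, qm _ ⟨a, haH⟩ * x = x * qm _ ⟨a, haH⟩ := by
    rintro _ ⟨x, hx, rfl⟩
    rw [← map_mul, ← map_mul]
    congr 1
    exact Subtype.ext (haK K₃ I.t.mem3.1 rfl x hx)
  have hn : qm _ ⟨a, haH⟩ ∈ normalizer (PT Om (centralizer {zz K₁}) K₃ : Set (HQ (centralizer {zz K₁}))) := by
    rw [mem_normalizer_iff_cj, PT, cj_pc I.hf.conj]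
    congr 1
    rw [← mem_normalizer_iff_cj]
    refine centralizer_le_normalizer _ ?_
    rw [mem_centralizer_iff]
    exact fun x hx => (h3 x hx).symm
  have hz3 : zz K₃ ∈ centralizer {zz K₁} := I.le3 (I.hyp.zz_mem I.t.mem3.1)
  rcases I.tw.inn hn (by
    rw [← map_mul, ← map_one (qm (centralizer {zz K₁}))]
    congr 1
    exact Subtype.ext ha2) h3 with h1 | h1
  · left
    exact fun L hL => I.comm_of_cent haH ha2 h1 hL
  · right
    have haz3 : a * zz K₃ = zz K₃ * a := haK K₃ I.t.mem3.1 rfl _ (I.hyp.zz_mem I.t.mem3.1)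
    refine fun L hL => I.comm_of_cent (mul_mem haH hz3) ?_ ?_ hL
    · have h4 := I.hyp.zz_mul I.t.mem3.1
      calc a * zz K₃ * (a * zz K₃) = a * (zz K₃ * a) * zz K₃ := by group
        _ = a * a * (zz K₃ * zz K₃) := by rw [← haz3]; group
        _ = 1 := by rw [ha2, h4, one_mul]
    · intro d hd
      have h4 := h1 d hd
      rw [zz_bar I.hyp I.t.mem3.1 I.le3, ← map_mul] at h4
      exact h4

/-- **(GEN)** -/
theorem genP : GenP Om (zz K₁) (zz K₃) := by
  intro N hN J hJ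
  set H := centralizer ({zz K₁} : Set G) with hH
  set Y : Subgroup G := sSup {J | J ∈ Bf Om (zz K₁) ∧ zz J * zz K₃ = zz K₃ * zz J} with hY
  have hYN : Y ≤ N := sSup_le fun J hJ => hN J hJ.1 hJ.2
  have hYH : Y ≤ H := sSup_le fun J hJ => hJ.1.2.1
  set D := PT Om H K₃ with hD
  have hcz : ∀ J ∈ Om, J ≤ H → ∀ x ∈ OO H, zz J * x = x * zz J := by
    intro J hJ hJH x hx
    have h1 : IsPGroup 2 (zpowers (zz J)) := by
      refine IsPGroup.of_card (n := 1) ?_
      rw [Nat.card_zpowers, I.hyp.orderOf_zz hJ, pow_one]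
    have h2 := I.cor.cor J hJ hJH (zpowers (zz J)) (by rw [zpowers_le]; exact I.hyp.zz_mem hJ) h1 (mem_zpowers _)
    exact (mem_centralizer_iff.1 h2 x hx).symm
  have hDY : D ≤ bar H Y := by
    refine I.tw.gen ?_
    intro J' hJ' hJD hc
    obtain ⟨J, hJ, hJH, rfl⟩ := exists_bar hJ'
    have hz1 : zz J ≠ zz K₁ := by
      intro he
      apply I.tw.tw.not_mem_center (subgroupOf_mem_restr hJ' hJD)
      rw [mem_center_iff]
      intro d
      apply Subtype.ext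
      have h1 : ((zz ((bar H J).subgroupOf D) : D) : HQ H) = zz (bar H J) := by
        rw [zz_map I.hf (subgroupOf_mem_restr hJ' hJD), map_subgroupOf_eq_of_le hJD]
      change (d : HQ H) * ((zz ((bar H J).subgroupOf D) : D) : HQ H) = ((zz ((bar H J).subgroupOf D) : D) : HQ H) * d
      rw [h1, zz_bar I.hyp hJ hJH]
      obtain ⟨x, hx⟩ := qm_surjective H (d : HQ H)
      rw [← hx, ← map_mul, ← map_mul]
      congr 1
      apply Subtype.ext
      change (x : G) * zz J = zz J * x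
      rw [he]
      exact mem_centralizer_singleton_iff.1 x.2
    have hcomm : zz J * zz K₃ = zz K₃ * zz J := by
      rw [zz_bar I.hyp hJ hJH, zz_bar I.hyp I.t.mem3.1 I.le3, ← map_mul, ← map_mul] at hc
      refine CorOf.comm_of_odd (odd_OO H) ?_ (hcz K₃ I.t.mem3.1 I.le3) (a := 1)
        (by rw [pow_one, pow_two, I.hyp.zz_mul I.t.mem3.1])
      have h1 : qm H ⁅(⟨zz J, hJH (I.hyp.zz_mem hJ)⟩ : H), ⟨zz K₃, I.le3 (I.hyp.zz_mem I.t.mem3.1)⟩⁆ = 1 := by
        rw [map_commutatorElement, commutatorElement_eq_one_iff_mul_comm, ← map_mul, ← map_mul]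
        exact hc
      exact qm_eq_one_iff.1 h1
    exact bar_mono (le_sSup ⟨⟨hJ, hJH, hz1⟩, hcomm⟩)
  -- `DL ≤ Y`
  have hqp := I.qp
  set L := DL Om H D with hL
  have hLY : L ≤ Y := by
    have hnorm : ((L ⊓ Y).subgroupOf L).Normal := by
      refine ⟨fun w hw d => ?_⟩
      rw [mem_subgroupOf] at hw ⊢
      refine ⟨L.mul_mem (L.mul_mem d.2 w.2) (L.inv_mem d.2), ?_⟩
      have hdH : (d : G) ∈ H := DL_le d.2
      have hqd : qm H ⟨d, hdH⟩ ∈ D := qm_mem_of_DL (Om := Om) (x := ⟨d, hdH⟩) d.2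
      obtain ⟨y, hy, hyd⟩ := hDY hqd
      have h1 : ((y : G))⁻¹ * d ∈ OO H := by
        have h2 : qm H (y⁻¹ * ⟨d, hdH⟩) = 1 := by
          rw [map_mul, map_inv, hyd, inv_mul_cancel]
        exact qm_eq_one_iff.1 h2
      have h2 := DL_comm_core I.cor hw.1 h1
      have h3 : ((d * w * d⁻¹ : L) : G) = (y : G) * w * (y : G)⁻¹ := by
        change (d : G) * w * (d : G)⁻¹ = _
        calc (d : G) * w * (d : G)⁻¹ = y * ((y : G)⁻¹ * d * w) * (d : G)⁻¹ := by group
          _ = y * (w * ((y : G)⁻¹ * d)) * (d : G)⁻¹ := by rw [h2]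
          _ = _ := by group
      rw [h3]
      have hyY : (y : G) ∈ Y := hy
      exact Y.mul_mem (Y.mul_mem hyY hw.2) (Y.inv_mem hyY)
    rcases Lib.ComponentSolvable.quasisimple_normal_cases (DL_quasisimple I.cor hqp) hnorm with h1 | h1
    · exact (subgroupOf_eq_top.1 h1).trans inf_le_right
    · exfalso
      obtain ⟨Q, hQ⟩ := Hyp.exists_syl K₃
      have hQL : Q ≤ L := le_DL I.t.mem3.1 I.le3 hQ.2.1 hQ.1 bar_le_PT
      have hQY : Q ≤ Y := hQ.1.trans (le_sSup ⟨I.mem3_Bf, rfl⟩)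
      obtain ⟨c, v, n, hq⟩ := I.hyp.exists_gq I.t.mem3.1 hQ
      have h2 : (⟨v, hQL hq.v_mem⟩ : L) ∈ center L :=
        h1 (show v ∈ L ⊓ Y from ⟨hQL hq.v_mem, hQY hq.v_mem⟩)
      have h3 := mem_center_iff.1 h2 ⟨c, hQL hq.c_mem⟩
      exact hq.not_comm (congrArg Subtype.val h3).symm
  exact hYN (hLY (zz_mem_DL I.hyp hJ.1 hJ.2.1 (I.bar_le hJ)))

/-- two members of `Bf z` do not commute -/
theorem exists_not_cm : ∃ L ∈ Bf Om (zz K₁), L ≠ K₃ ∧ ¬ cm L K₃ := by
  by_contra hcon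
  push Not at hcon
  apply I.pc.nmem
  have h1 : PT Om (centralizer {zz K₁}) K₃ = bar (centralizer {zz K₁}) K₃ := by
    refine I.b.sg_of_forall I.t.mem1.1 I.t.mem3.1 I.le3 fun J hJ hJH => ?_
    by_cases hz : zz J = zz K₁
    · right
      exact I.cm_of_Bf hJ hz I.mem3_Bf
    · by_cases he : J = K₃
      · exact Or.inl he
      · exact Or.inr (hcon J ⟨hJ, hJH, hz⟩ he)
  rw [h1]
  exact bar_mem I.t.mem3.1 I.le3

end ExG

/-! ### CASE II -/

/-- members in `C(s)` are members of `Om(S)` if `Sing Om S s` -/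
theorem mem_of_sing {G : Type u} [Group G] [Finite G] {Om : Set (Subgroup G)} {S : Subgroup G} (c : CorB Om S)
    (h : Hyp Om) (hS : IsPGroup 2 S) {s : G} (hs : s ∈ ES Om S) (hs1 : s ≠ 1) (hsing : Sing Om S s) {J : Subgroup G}
    (hJ : J ∈ Om) (hJs : J ≤ centralizer {s}) : J ∈ OmS Om S := by
  obtain ⟨x, hx, hxJ⟩ := hsing J (mem_cov_of_le hJ hJs)
  have h2 := c.XX_le_normalizer h hS hxJ hs hs1 ((XX s).inv_mem hx)
  rw [mem_normalizer_iff_cj, cj_inv_cj] at h2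
  rw [h2]
  exact hxJ

/-- CASE II -/
structure ExT {G : Type u} [Group G] [Finite G] (Om : Set (Subgroup G)) (S : Sylow 2 G) (K₁ K₂ K₃ K₄ : Subgroup G) :
    Prop extends ExG Om S K₁ K₂ K₃ K₄ where
  ms : MinS Om
  cB : CorB Om (S : Subgroup G)
  sing : Sing Om (S : Subgroup G) (zz K₁ * zz K₃)
  close : CloseE Om

namespace ExT

variable {G : Type u} [Group G] [Finite G] {Om : Set (Subgroup G)} {S : Sylow 2 G} {K₁ K₂ K₃ K₄ : Subgroup G}
  (I : ExT Om S K₁ K₂ K₃ K₄)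

include I

theorem mem_e : zz K₁ * zz K₃ ∈ ES Om (S : Subgroup G) := mul_mem (zz_mem_ES I.t.mem1) (zz_mem_ES I.t.mem3)

theorem mem_OmS_e {J : Subgroup G} (hJ : J ∈ Om) (hJs : J ≤ centralizer {zz K₁ * zz K₃}) :
    J ∈ OmS Om (S : Subgroup G) :=
  mem_of_sing I.cB I.hyp S.isPGroup' I.mem_e (I.t.mul_ne I.hyp) I.sing hJ hJs

/-- (GEN) at `z'` -/
theorem genP' : GenP Om (zz K₃) (zz K₁) := by
  have h := I.hyp
  obtain ⟨g, hg, hgz⟩ := exists_norm h I.ms.cls S I.t.mem1 I.t.mem3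
  have h3 : g * zz K₃ * g⁻¹ = zz K₁ := by
    have h4 : cj g K₃ ∈ OmS Om (S : Subgroup G) := by
      have h5 := I.t.mem3
      rw [← OmS_DD S.isPGroup'] at h5 ⊢
      exact cj_mem_OmS' h.conj hg h5
    rcases I.t.zz_cases h4 with h5 | h5
    · rw [← h5, h.zz_cj I.t.mem3.1]
    · exfalso
      rw [h.zz_cj I.t.mem3.1] at h5
      exact I.t.ne (mul_left_cancel (mul_right_cancel (h5.trans hgz.symm))).symm
  have h4 := I.toExG.genP.cj h g
  rwa [hgz, h3] at h4

/-- first step -/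
theorem cm_step {J L : Subgroup G} (hJ : J ∈ Bf Om (zz K₃)) (hc : zz J * zz K₁ = zz K₁ * zz J)
    (hL : L ∈ Bf Om (zz K₁)) : cm J L := by
  have h := I.hyp
  by_cases hz : zz J = zz K₁
  · exact I.cm_of_Bf hJ.1 hz hL
  have hK3 : ∀ K ∈ Om, zz K = zz K₃ → cm K J := fun K hK hz3 => I.swap.cm_of_Bf hK hz3 hJ
  rcases I.toExG.innP (zz J) (h.zz_mul hJ.1) hc (fun K hK hz3 x hx =>
    (hK3 K hK hz3 x hx _ (h.zz_mem hJ.1)).symm) with h1 | h1
  · have h2 : L ≤ centralizer {zz J} := by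
      intro x hx
      rw [mem_centralizer_singleton_iff]
      exact (h1 L hL x hx).symm
    rcases I.b.eq_or_cm hJ.1 hL.1 h2 with h3 | h3
    · exact (I.false_of_both hL (h3 ▸ hJ)).elim
    · exact TypeDet.cm_symm h3
  · exfalso
    -- `J`, `K₃` are conjugate into `Om(S)`
    obtain ⟨T, hT⟩ := TypeDet.exists_sylow_of_comm (Om := Om) (C := {J, K₃}) (by
      rintro M (rfl | rfl)
      · exact hJ.1
      · exact I.t.mem3.1) (by
      rintro M (rfl | rfl) N (rfl | rfl) hne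
      · exact absurd rfl hne
      · exact TypeDet.cm_symm (hK3 _ I.t.mem3.1 rfl)
      · exact hK3 _ I.t.mem3.1 rfl
      · exact absurd rfl hne)
    obtain ⟨g, hg⟩ := exists_cj_sylow T S
    have m1 : cj g J ∈ OmS Om (S : Subgroup G) := by
      have h2 := cj_mem_OmS h.conj g (hT (by simp : J ∈ ({J, K₃} : Set (Subgroup G))))
      rwa [hg] at h2
    have m3 : cj g K₃ ∈ OmS Om (S : Subgroup G) := by
      have h2 := cj_mem_OmS h.conj g (hT (by simp : K₃ ∈ ({J, K₃} : Set (Subgroup G))))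
      rwa [hg] at h2
    have he : g * (zz J * zz K₃) * g⁻¹ = zz K₁ * zz K₃ := by
      have e : g * (zz J * zz K₃) * g⁻¹ = (g * zz J * g⁻¹) * (g * zz K₃ * g⁻¹) := by group
      rw [e]
      have n1 := I.t.zz_cases m1
      have n3 := I.t.zz_cases m3
      rw [h.zz_cj hJ.1] at n1
      rw [h.zz_cj I.t.mem3.1] at n3
      rcases n1 with n1 | n1 <;> rcases n3 with n3 | n3
      · exact absurd (mul_left_cancel (mul_right_cancel (n1.trans n3.symm))) hJ.2.2
      · rw [n1, n3]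
      · rw [n1, n3, I.t.comm13 h S.isPGroup']
      · exact absurd (mul_left_cancel (mul_right_cancel (n1.trans n3.symm))) hJ.2.2
    have key : ∀ M ∈ Bf Om (zz K₁), cj g M ∈ OmS Om (S : Subgroup G) := by
      intro M hM
      refine I.mem_OmS_e (h.conj M hM.1 g) ?_
      rw [← he, ← cj_centralizer]
      refine cj_mono g fun x hx => ?_
      rw [mem_centralizer_singleton_iff]
      exact (h1 M hM x hx).symm
    obtain ⟨M, hM, hne, hn⟩ := I.toExG.exists_not_cm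
    apply hn
    rw [← TypeDet.cm_cj (g := g)]
    exact I.cc (key M hM) (key K₃ I.mem3_Bf) fun e => hne (cj_inj.1 e)

/-- **the members of `Bf z`, `Bf z'` commute** -/
theorem cm_all {J L : Subgroup G} (hJ : J ∈ Bf Om (zz K₃)) (hL : L ∈ Bf Om (zz K₁)) : cm J L := by
  have h1 := I.genP' (centralizer (L : Set G))
    (fun M hM hc => TypeDet.cm_iff_le_centralizer.1 (I.cm_step hM hc hL)) J hJ
  have h2 : L ≤ centralizer {zz J} := by
    intro x hx
    rw [mem_centralizer_singleton_iff]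
    exact mem_centralizer_iff.1 h1 x hx
  rcases I.b.eq_or_cm hJ.1 hL.1 h2 with h3 | h3
  · exact (I.false_of_both hL (h3 ▸ hJ)).elim
  · exact TypeDet.cm_symm h3

theorem mem_Bf3_iff {J : Subgroup G} : J ∈ Bf Om (zz K₃) ↔ J ∈ Om ∧ ∀ L ∈ Bf Om (zz K₁), cm J L := by
  constructor
  · exact fun hJ => ⟨hJ.1, fun L hL => I.cm_all hJ hL⟩
  · rintro ⟨hJ, h1⟩
    refine ⟨hJ, I.b.le_of_cm I.t.mem3.1 (h1 _ I.mem3_Bf), fun hz => ?_⟩
    rcases I.swap.eq_of_zz hJ hz with rfl | rfl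
    · exact I.b.not_cm_self hJ (h1 _ I.mem3_Bf)
    · exact I.b.not_cm_self hJ (h1 _ I.mem4_Bf)

theorem mem_Bf1_iff {L : Subgroup G} : L ∈ Bf Om (zz K₁) ↔ L ∈ Om ∧ ∀ J ∈ Bf Om (zz K₃), cm L J := by
  constructor
  · exact fun hL => ⟨hL.1, fun J hJ => TypeDet.cm_symm (I.cm_all hJ hL)⟩
  · rintro ⟨hL, h1⟩
    refine ⟨hL, I.b.le_of_cm I.t.mem1.1 (h1 _ I.swap.mem3_Bf), fun hz => ?_⟩
    rcases I.eq_of_zz hL hz with rfl | rfl
    · exact I.b.not_cm_self hL (h1 _ I.swap.mem3_Bf)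
    · exact I.b.not_cm_self hL (h1 _ I.swap.mem4_Bf)

/-- the join of the members in `Bf z`, `Bf z'` is normalised by a group permuting them -/
theorem le_normalizer_of {H : Subgroup G}
    (h : ∀ g ∈ H, ∀ L, L ∈ Bf Om (zz K₁) ∨ L ∈ Bf Om (zz K₃) →
      cj g L ∈ Bf Om (zz K₁) ∨ cj g L ∈ Bf Om (zz K₃)) :
    H ≤ normalizer ((sSup (Bf Om (zz K₃)) ⊔ sSup (Bf Om (zz K₁)) : Subgroup G) : Set G) := by
  refine OneComp.le_normalizer_of_cj_le fun g hg => ?_
  rw [cj_sup]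
  have key : ∀ L, L ∈ Bf Om (zz K₁) ∨ L ∈ Bf Om (zz K₃) →
      L ≤ cj g⁻¹ (sSup (Bf Om (zz K₃)) ⊔ sSup (Bf Om (zz K₁))) := by
    intro L hL
    rw [← cj_le_iff]
    rcases h g hg L hL with h1 | h1
    · exact (le_sSup h1).trans le_sup_right
    · exact (le_sSup h1).trans le_sup_left
  refine sup_le ?_ ?_
  · rw [cj_le_iff]
    exact sSup_le fun L hL => key L (Or.inr hL)
  · rw [cj_le_iff]
    exact sSup_le fun L hL => key L (Or.inl hL)

/-- **CASE II is dead** -/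
theorem false : False := by
  have h := I.hyp
  have hS := S.isPGroup'
  set A := sSup (Bf Om (zz K₃)) with hA
  set B := sSup (Bf Om (zz K₁)) with hB
  have hcom : A ≤ centralizer (B : Set G) := by
    refine sSup_le fun J hJ => ?_
    rw [le_centralizer_iff]
    refine sSup_le fun L hL => ?_
    exact TypeDet.cm_iff_le_centralizer.1 (TypeDet.cm_symm (I.cm_all hJ hL))
  have c1 : centralizer {zz K₁} ≤ normalizer ((A ⊔ B : Subgroup G) : Set G) := by
    refine I.le_normalizer_of fun g hg L hL => ?_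
    have h1 : ∀ x ∈ centralizer {zz K₁}, x * zz K₁ * x⁻¹ = zz K₁ := by
      intro x hx
      rw [mem_centralizer_singleton_iff.1 hx, mul_inv_cancel_right]
    have st : ∀ x ∈ centralizer {zz K₁}, ∀ L ∈ Bf Om (zz K₁), cj x L ∈ Bf Om (zz K₁) := by
      intro x hx L hL
      have h2 := cj_mem_Bf h (g := x) hL
      rwa [h1 x hx] at h2
    rcases hL with hL | hL
    · exact Or.inl (st g hg L hL)
    · right
      rw [I.mem_Bf3_iff] at hL ⊢
      refine ⟨h.conj L hL.1 g, fun M hM => ?_⟩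
      have h2 := hL.2 _ (st g⁻¹ (inv_mem hg) M hM)
      rw [← TypeDet.cm_cj (g := g), cj_cj_inv] at h2
      exact h2
  have c3 : centralizer {zz K₃} ≤ normalizer ((A ⊔ B : Subgroup G) : Set G) := by
    refine I.le_normalizer_of fun g hg L hL => ?_
    have h1 : ∀ x ∈ centralizer {zz K₃}, x * zz K₃ * x⁻¹ = zz K₃ := by
      intro x hx
      rw [mem_centralizer_singleton_iff.1 hx, mul_inv_cancel_right]
    have st : ∀ x ∈ centralizer {zz K₃}, ∀ L ∈ Bf Om (zz K₃), cj x L ∈ Bf Om (zz K₃) := by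
      intro x hx L hL
      have h2 := cj_mem_Bf h (g := x) hL
      rwa [h1 x hx] at h2
    rcases hL with hL | hL
    · left
      rw [I.mem_Bf1_iff] at hL ⊢
      refine ⟨h.conj L hL.1 g, fun M hM => ?_⟩
      have h2 := hL.2 _ (st g⁻¹ (inv_mem hg) M hM)
      rw [← TypeDet.cm_cj (g := g), cj_cj_inv] at h2
      exact h2
    · exact Or.inr (st g hg L hL)
  have ce : centralizer {zz K₁ * zz K₃} ≤ normalizer ((A ⊔ B : Subgroup G) : Set G) := by
    refine I.le_normalizer_of fun g hg L hL => ?_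
    have h1 : cj g K₁ ∈ OmS Om (S : Subgroup G) :=
      I.cB.cj_mem_of_sing h hS I.mem_e (I.t.mul_ne h) I.sing hg I.t.mem1
    have h2 : (g * zz K₁ * g⁻¹) * (g * zz K₃ * g⁻¹) = zz K₁ * zz K₃ := by
      have h3 : g * (zz K₁ * zz K₃) * g⁻¹ = zz K₁ * zz K₃ := by
        rw [mem_centralizer_singleton_iff.1 hg, mul_inv_cancel_right]
      rw [← h3]; group
    have h3 := I.t.zz_cases h1
    rw [h.zz_cj I.t.mem1.1] at h3
    rcases h3 with h3 | h3
    · have h4 : g * zz K₃ * g⁻¹ = zz K₃ := by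
        rw [h3] at h2
        exact mul_left_cancel h2
      rcases hL with hL | hL
      · left
        have h5 := cj_mem_Bf h (g := g) hL
        rwa [h3] at h5
      · right
        have h5 := cj_mem_Bf h (g := g) hL
        rwa [h4] at h5
    · have h4 : g * zz K₃ * g⁻¹ = zz K₁ := by
        rw [h3, I.t.comm13 h hS] at h2
        exact mul_left_cancel h2
      rcases hL with hL | hL
      · right
        have h5 := cj_mem_Bf h (g := g) hL
        rwa [h3] at h5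
      · left
        have h5 := cj_mem_Bf h (g := g) hL
        rwa [h4] at h5
  have hM := I.close S _ ((I.t.normalizer_ES_le h S).trans ce) fun a ha ha1 => by
    rcases (I.t.mem_ES_iff h hS).1 ha with rfl | rfl | rfl | rfl
    · exact absurd rfl ha1
    · exact c1
    · exact c3
    · exact ce
  have hn : (A ⊔ B).Normal := normalizer_eq_top_iff.1 hM
  haveI := I.ms.simple
  have hK1 : K₁ ≤ A := le_sSup I.swap.mem3_Bf
  have hK3 : K₃ ≤ B := le_sSup I.mem3_Bf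
  have hne : ∀ {K : Subgroup G}, K ∈ Om → K ≠ ⊥ := by
    rintro K hK rfl
    exact h.zz_ne hK ((mem_bot).1 (h.zz_mem hK))
  have htop : A ⊔ B = ⊤ := by
    rcases IsSimpleGroup.eq_bot_or_eq_top_of_normal _ hn with h1 | h1
    · exfalso
      exact hne I.t.mem1.1 (le_bot_iff.1 ((hK1.trans le_sup_left).trans h1.le))
    · exact h1
  have hAn : A.Normal := by
    rw [← normalizer_eq_top_iff, eq_top_iff, ← htop]
    exact sup_le le_normalizer ((le_centralizer_iff.1 hcom).trans (centralizer_le_normalizer _))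
  have hA' : A = ⊤ := by
    rcases IsSimpleGroup.eq_bot_or_eq_top_of_normal _ hAn with h1 | h1
    · exfalso
      exact hne I.t.mem1.1 (le_bot_iff.1 (hK1.trans h1.le))
    · exact h1
  apply h.not_le_centralizer_self I.t.mem3.1
  have h1 : K₃ ≤ A := by rw [hA']; exact le_top
  exact (h1.trans hcom).trans (centralizer_le hK3)

end ExT

end

end Cfsg.Agent.Cit.Four
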