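import Cfsg.Agent.Cit.Four.TypesMain
import Cfsg.Agent.Cit.Four.CorAll
import Cfsg.Agent.Cit.Four.Kill
import Cfsg.Agent.Cit.Four.Exc
import Cfsg.Agent.Cit.FamFb

/-!
# `n = 4`, `τ = 2` : the assembly of `Ident`

* `fourX_fb` : `FourX` for the family `fb Om C(s)`, `s ∈ E(S)` (trivial cores);
* `at_zz` : at `z` all members are in `Om(S)`, or the piece `PT Om C(z) K₃` contains `bar K₄` and is of type `C 2`, `A 3`,
  `B 3` or `G₂`;
* `hch` : the pieces of `C(z)` are of type `C 2`, `A 3`, `B 3` (from `NoG2`);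
* `IdentCh` : the statement for the types `C 2`, `A 3`, `B 3`; `ident` : `NoG2 → IdentCh → Ident`.
-/

set_option autoImplicit false
set_option linter.style.haveILetI false
set_option linter.unusedSectionVars false

namespace Cfsg.Agent.Cit.Four

open Subgroup Cfsg Cfsg.Agent.Cit SubCent UseT Branches PieceG CovES CoresG
open Cfsg.Agent.Cit.TypeDet (cm)
open Cfsg.Agent.Cit.ExLocal (LB)

universe u

section

variable {G : Type u} [Group G] [Finite G] {Om : Set (Subgroup G)} {S : Sylow 2 G} {K₁ K₂ K₃ K₄ : Subgroup G}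

theorem fourX_fb (m : MinS Om) (b : LB Om) (t : TwoTwo Om (S : Subgroup G) K₁ K₂ K₃ K₄) {s : G}
    (hs : s ∈ ES Om (S : Subgroup G)) (hs1 : s ≠ 1)
    (hle : ∀ K ∈ OmS Om (S : Subgroup G), K ≤ centralizer {s}) :
    FourX (fb Om (centralizer {s})) ![bar (centralizer {s}) K₁, bar (centralizer {s}) K₂, bar (centralizer {s}) K₃,
      bar (centralizer {s}) K₄] := by
  have hD : DD Om (S : Subgroup G) ≤ centralizer {s} := DD_le_iff.2 fun L hL => inf_le_left.trans (hle L hL)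
  have T := fourX m t hs hs1 hD
  rw [FamFb.fam_eq_fb m.ty b.core] at T
  rw [FamFb.tr_eq_bar (m.ty _ t.mem1.1) (hle _ t.mem1), FamFb.tr_eq_bar (m.ty _ t.mem2.1) (hle _ t.mem2),
    FamFb.tr_eq_bar (m.ty _ t.mem3.1) (hle _ t.mem3), FamFb.tr_eq_bar (m.ty _ t.mem4.1) (hle _ t.mem4)] at T
  exact T

/-- the members of `Om(S)` are in `C(z)` -/
theorem le_cent_zz (b : LB Om) (t : TwoTwo Om (S : Subgroup G) K₁ K₂ K₃ K₄) :
    ∀ K ∈ OmS Om (S : Subgroup G), K ≤ centralizer {zz K₁} := by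
  have I : ExI Om S K₁ K₂ K₃ K₄ := ⟨b, t⟩
  intro K hK
  by_cases h1 : K = K₁
  · rw [h1]; exact b.hyp.le_centralizer t.mem1.1
  · exact b.le_of_cm t.mem1.1 (I.cc hK t.mem1 h1)

/-- **the piece at `z`** -/
theorem at_zz (m : MinS Om) (b : LB Om) (t : TwoTwo Om (S : Subgroup G) K₁ K₂ K₃ K₄) :
    Sing Om (S : Subgroup G) (zz K₁) ∨ (bar (centralizer {zz K₁}) K₄ ≤ PT Om (centralizer {zz K₁}) K₃ ∧
      (PieceTy (fb Om (centralizer {zz K₁})) (PT Om (centralizer {zz K₁}) K₃) (.C 2) ∨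
        PieceTy (fb Om (centralizer {zz K₁})) (PT Om (centralizer {zz K₁}) K₃) (.A 3) ∨
        PieceTy (fb Om (centralizer {zz K₁})) (PT Om (centralizer {zz K₁}) K₃) (.B 3) ∨
        PieceG2 (fb Om (centralizer {zz K₁})) (PT Om (centralizer {zz K₁}) K₃))) := by
  have h := m.hyp
  have hle := le_cent_zz b t
  have hz1 : zz K₁ ∈ ES Om (S : Subgroup G) := zz_mem_ES t.mem1
  have T := fourX_fb m b t hz1 (h.zz_ne t.mem1.1) hle
  have hc : ∀ x : HQ (centralizer ({zz K₁} : Set G)),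
      x * zz (bar (centralizer {zz K₁}) K₁) = zz (bar (centralizer {zz K₁}) K₁) * x := by
    intro x
    obtain ⟨y, rfl⟩ := qm_surjective _ x
    rw [zz_bar h t.mem1.1 (hle _ t.mem1), ← map_mul, ← map_mul]
    congr 1
    exact Subtype.ext (mem_centralizer_singleton_iff.1 y.2)
  rcases T.at_z_pc hc with h1 | ⟨h3, h4⟩
  · left
    refine sing_of m t hz1 fun L hL => ?_
    rw [FamFb.fam_eq_fb m.ty b.core] at hL
    rw [FamFb.tr_eq_bar (m.ty _ t.mem1.1) (hle _ t.mem1), FamFb.tr_eq_bar (m.ty _ t.mem2.1) (hle _ t.mem2),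
      FamFb.tr_eq_bar (m.ty _ t.mem3.1) (hle _ t.mem3), FamFb.tr_eq_bar (m.ty _ t.mem4.1) (hle _ t.mem4)]
    exact h1 L hL
  · exact Or.inr ⟨h3, h4⟩

end

/-- the pieces of `C(z)` are of type `C 2`, `A 3`, `B 3` -/
def HCh {G : Type u} [Group G] (Om : Set (Subgroup G)) : Prop :=
  ∀ (S : Sylow 2 G) (K₁ K₂ K₃ K₄ : Subgroup G), TwoTwo Om (S : Subgroup G) K₁ K₂ K₃ K₄ →
    ∃ τ, (τ = .C 2 ∨ τ = .A 3 ∨ τ = .B 3) ∧
      PieceTy (fb Om (centralizer {zz K₁})) (PT Om (centralizer {zz K₁}) K₃) τ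

/-- the identification for the types `C 2`, `A 3`, `B 3` -/
def IdentCh : Prop :=
  ∀ (G : Type u) [Group G] [Finite G] (Om : Set (Subgroup G)), MinS Om → CloseE Om →
    (∀ S : Sylow 2 G, CorB Om (S : Subgroup G)) → ∀ (S : Sylow 2 G) (K₁ K₂ K₃ K₄ : Subgroup G),
    TwoTwo Om (S : Subgroup G) K₁ K₂ K₃ K₄ → HCh Om → HasPieces Om

section

variable {G : Type u} [Group G] [Finite G] {Om : Set (Subgroup G)}

/-- **the pieces of `C(z)`** -/
theorem hch (hodd : OddStmt.{u}) (hno : NoG2.{u}) (m : MinS Om) (hcl : CloseE Om)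
    (hB : ∀ S : Sylow 2 G, CorB Om (S : Subgroup G)) : HCh Om := by
  intro S K₁ K₂ K₃ K₄ t
  have h := m.hyp
  have b : LB Om := m.lb_of_corB hodd hB
  have he := (types G Om m S K₁ K₂ K₃ K₄ t).2
  rcases at_zz m b t with h1 | ⟨h34, h2⟩
  · exact (false_of_isolated m hcl S (hB S) t h1 (sing_iff h m.cls S t.mem1 t.mem3 h1)).elim
  have key : ¬ PieceG2 (fb Om (centralizer {zz K₁})) (PT Om (centralizer {zz K₁}) K₃) := by
    intro hG
    rcases he with he | he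
    · exact ExT.false (⟨⟨⟨b, t⟩, h34, hG⟩, m, hB S, he, hcl⟩ : ExT Om S K₁ K₂ K₃ K₄)
    · have hle := le_cent_zz b t
      refine hno G Om m S K₁ K₂ K₃ K₄ t he (PT Om (centralizer {zz K₁}) K₃) ?_ ?_ ?_
      · rw [FamFb.tr_eq_bar (m.ty _ t.mem3.1) (hle _ t.mem3)]
        exact bar_le_PT
      · rw [FamFb.tr_eq_bar (m.ty _ t.mem4.1) (hle _ t.mem4)]
        exact h34
      · rw [FamFb.fam_eq_fb m.ty b.core]
        exact hG
  rcases h2 with h2 | h2 | h2 | h2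
  · exact ⟨_, Or.inl rfl, h2⟩
  · exact ⟨_, Or.inr (Or.inl rfl), h2⟩
  · exact ⟨_, Or.inr (Or.inr rfl), h2⟩
  · exact absurd h2 key

end

/-- **`Ident` from `NoG2` and the types `C 2`, `A 3`, `B 3`** -/
theorem ident (hodd : OddStmt.{u}) (hno : NoG2.{u}) (hc : IdentCh.{u}) : Ident.{u} := by
  intro G _ _ Om m hcl hcor S K₁ K₂ K₃ K₄ t _ _ _
  have h := m.hyp
  have hB : ∀ S : Sylow 2 G, CorB Om (S : Subgroup G) := by
    intro S'
    obtain ⟨L₁, L₂, L₃, L₄, t'⟩ := t.exists_of h S'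
    exact (hcor S').corB (t'.card_ES h S'.isPGroup')
  exact hc G Om m hcl hB S K₁ K₂ K₃ K₄ t (hch hodd hno m hcl hB)

end Cfsg.Agent.Cit.Four
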