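import Cfsg.Agent.Cit.Four.IdentCh
import Cfsg.Agent.Cit.Four.NoGTwo
import Cfsg.Agent.Cit.Four.TypesZ

/-!
# `n = 4`, `τ = 2` : `Ident`

The assembly of helper174's `noG2`, helper494's `identCh` and `ident`.
-/

set_option autoImplicit false

namespace Cfsg.Agent.Cit.Four

open Subgroup Cfsg Cfsg.Agent.Cit CoresG

universe u

/-- the identification for the types `C 2`, `A 3`, `B 3` -/
theorem identChStmt (hodd : OddStmt.{u}) : IdentCh.{u} :=
  fun _ _ _ _ m hcl hB _ _ _ _ _ t hch => identCh hodd m hcl hB t hch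

/-- **`Ident`** -/
theorem identStmt (hodd : OddStmt.{u}) : Ident.{u} := ident hodd noG2 (identChStmt hodd)

end Cfsg.Agent.Cit.Four
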