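import Cfsg.Agent.Cit.Four.TypesMain
import Cfsg.Agent.Cit.Four.Kill
import Cfsg.Agent.Cit.Four.CorAll
import Cfsg.Agent.Cit.CloMOne
import Cfsg.Agent.Cit.CloMFour
import Cfsg.Agent.Cit.FamFb
import Cfsg.Agent.Cit.TypeDet.DFourGen
import Cfsg.Agent.Cit.TypeDet.LocalBar

/-!
# `n = 4`, `τ = 2` : the commuting graph is connected (project CIT)

The exceptional case of `(M1)` : a piece of type `D 4` over all members of `Om(S)` in `C(e) / O(C(e))`, `e = z z'`.

* `exists_conj_comm` : `Z*` in a quasisimple group; `exists_DL_conj` : in the lift of a piece of `C(s) / O(C(s))`;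
* `exists_adj` : a conjugate `L` of `K₃` under `C(z)` with `z_L ≠ z'`, `z_L z' = z' z_L`, commuting with `K₁`, `K₂`;
* `KFSix` : an involution normalising a piece of type `D 4` and centralising two members of a frame [helper542];
* `centralizer_e_le` : `C(e) ≤ M` for the stabiliser `M` of a component;
* `conn` : the commuting graph is connected.
-/

set_option autoImplicit false
set_option linter.style.haveILetI false
set_option linter.unusedSectionVars false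

namespace Cfsg.Agent.Cit.Four

open Subgroup Cfsg Cfsg.Agent.Cit SubCent UseT CoresG CoresCore CloGraph PieceG FamFb
open Cfsg.Agent.Cit.TypeDet (cm cm_symm cm_iff_le_centralizer TyPc)
open scoped commutatorElement

universe u

/-! ### `Z*` -/

/-- elements commuting with a perfect group modulo its centre -/
theorem comm_of_perfect {Q : Type*} [Group Q] (hQ : ⁅(⊤ : Subgroup Q), (⊤ : Subgroup Q)⁆ = ⊤) {z : Q}
    (h : ∀ g : Q, z * g * z⁻¹ * g⁻¹ ∈ center Q) : z ∈ center Q := by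
  have key : ∀ g k : Q, z * ⁅g, k⁆ = ⁅g, k⁆ * z := by
    intro g k
    have hg := h g
    have hk := h k
    set a := z * g * z⁻¹ * g⁻¹ with ha
    set b := z * k * z⁻¹ * k⁻¹ with hb
    have ca : ∀ x : Q, x * a = a * x := mem_center_iff.1 hg
    have cb : ∀ x : Q, x * b = b * x := mem_center_iff.1 hk
    have ha' : z * g * z⁻¹ = a * g := by rw [ha]; group
    have hb' : z * k * z⁻¹ = b * k := by rw [hb]; group
    clear_value a b
    have h1 : z * ⁅g, k⁆ * z⁻¹ = ⁅g, k⁆ := by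
      have e1 : z * ⁅g, k⁆ * z⁻¹ = (z * g * z⁻¹) * (z * k * z⁻¹) * (z * g * z⁻¹)⁻¹ * (z * k * z⁻¹)⁻¹ := by
        rw [commutatorElement_def]; group
      rw [e1, ha', hb', commutatorElement_def, mul_inv_rev, mul_inv_rev]
      have ca' : ∀ x : Q, x * a⁻¹ = a⁻¹ * x := fun x => mem_center_iff.1 (inv_mem hg) x
      have cb' : ∀ x : Q, x * b⁻¹ = b⁻¹ * x := fun x => mem_center_iff.1 (inv_mem hk) x
      calc a * g * (b * k) * (g⁻¹ * a⁻¹) * (k⁻¹ * b⁻¹)
          = a * (g * b) * k * (g⁻¹ * a⁻¹) * (k⁻¹ * b⁻¹) := by group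
        _ = a * (b * g) * k * (a⁻¹ * g⁻¹) * (b⁻¹ * k⁻¹) := by rw [cb, ca', cb']
        _ = a * b * (g * k * a⁻¹) * g⁻¹ * b⁻¹ * k⁻¹ := by group
        _ = a * b * (a⁻¹ * (g * k)) * g⁻¹ * b⁻¹ * k⁻¹ := by rw [ca']
        _ = (a * b) * a⁻¹ * (g * k * g⁻¹ * b⁻¹) * k⁻¹ := by group
        _ = (a * b) * a⁻¹ * (b⁻¹ * (g * k * g⁻¹)) * k⁻¹ := by rw [cb']
        _ = (b * a) * a⁻¹ * (b⁻¹ * (g * k * g⁻¹)) * k⁻¹ := by rw [cb]
        _ = g * k * g⁻¹ * k⁻¹ := by group
    rw [mul_inv_eq_iff_eq_mul] at h1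
    exact h1
  have h2 : (⊤ : Subgroup Q) ≤ centralizer {z} := by
    rw [← hQ, Subgroup.commutator_le]
    intro g _ k _
    rw [mem_centralizer_singleton_iff]
    exact (key g k).symm
  rw [mem_center_iff]
  intro g
  exact mem_centralizer_singleton_iff.1 (h2 (mem_top g))

/-- **`Z*` in a quasisimple group** -/
theorem exists_conj_comm {Q : Type*} [Group Q] [Finite Q] (hQ : IsQuasisimple Q) {z : Q} (hz : orderOf z = 2)
    (hc : z ∉ center Q) : ∃ g : Q, g * z * g⁻¹ ≠ z ∧ g * z * g⁻¹ * z = z * (g * z * g⁻¹) := by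
  by_contra hno
  push Not at hno
  obtain ⟨N, hN, hodd, hc2⟩ := Parab.zstar hz (fun g hg => by
    by_contra hne
    exact hno g hne hg)
  rcases Lib.ComponentSolvable.quasisimple_normal_cases hQ hN with h1 | h1
  · rw [h1, card_top, Nat.odd_iff] at hodd
    have h2 : 2 ∣ Nat.card Q := by
      rw [← hz]
      exact orderOf_dvd_natCard _
    omega
  · exact hc (comm_of_perfect hQ.1.commutator_eq_top fun g => h1 (hc2 g))

section

variable {G : Type u} [Group G] [Finite G] {Om : Set (Subgroup G)}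

/-- **`Z*` in the lift of a piece** -/
theorem exists_DL_conj {H K : Subgroup G} (C : CorG Om H) (hK : K ∈ Om) (hKH : K ≤ H)
    (hne : PT Om H K ∉ fb Om H) : ∃ g ∈ DL Om H (PT Om H K), g * zz K * g⁻¹ ≠ zz K ∧
      g * zz K * g⁻¹ * zz K = zz K * (g * zz K * g⁻¹) := by
  have h := C.hyp
  have hD := qp_PT C hK hKH hne
  have hzD : zz K ∈ DL Om H (PT Om H K) := zz_mem_DL h hK hKH bar_le_PT
  obtain ⟨g, h1, h2⟩ := exists_conj_comm (DL_quasisimple C hD) (z := ⟨zz K, hzD⟩)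
    (by rw [Subgroup.orderOf_mk]; exact h.orderOf_zz hK) (fun hz => by
      apply hne
      have h3 : pc (fb Om H) (bar H K) = bar H K := by
        refine not_central (fb_hyp h H) C.pcs.core (bar_mem hK hKH) fun x hx => ?_
        obtain ⟨y, hy, rfl⟩ := DL_cover C hD hx
        have h4 := mem_center_iff.1 hz ⟨y, hy⟩
        rw [TypeDet.LocalBar.zz_bar h hK hKH, ← map_mul, ← map_mul]
        congr 1
        exact Subtype.ext (congrArg (fun t : DL Om H (PT Om H K) => (t : G)) h4)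
      change pc (fb Om H) (bar H K) ∈ fb Om H
      rw [h3]
      exact bar_mem hK hKH)
  refine ⟨g, g.2, fun h3 => h1 (Subtype.ext h3), ?_⟩
  exact congrArg (fun t : DL Om H (PT Om H K) => (t : G)) h2

/-! ### The neighbour of `K₃` -/

theorem FourX.mem_range_of_pc {X : Type*} [Group X] [Finite X] {F : Set (Subgroup X)} {J : Fin 4 → Subgroup X}
    (T : FourX F J) (hz : ∀ x : X, x * zz (J 0) = zz (J 0) * x) (h2 : pc F (J 2) = J 2) :
    ∀ L ∈ F, ∃ i, L = J i := by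
  have hs0 : pc F (J 0) = J 0 := T.single_of_central hz
  have hs1 : pc F (J 1) = J 1 := T.single_of_central fun x => by rw [← T.z01]; exact hz x
  have h3 : pc F (J 3) = J 3 := by
    by_contra h3
    have h4 := T.pc_eq_of_zz (i := 3) (j := 2) T.z23.symm h3
    rw [h2] at h4
    have h5 : J 3 = J 2 := T.hyp.eq_of_le (T.mem 3) (T.mem 2) (by rw [h4]; exact le_pc)
    exact T.ne (by decide) h5
  intro L hL
  refine T.mem_range_of_single (fun i => ?_) hL
  fin_cases i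
  · exact hs0
  · exact hs1
  · exact h2
  · exact h3

variable {K₁ K₂ K₃ K₄ : Subgroup G}

/-- if the trace of `K₃` is a piece of `C(z) / O(C(z))` then `Sing Om S z` -/
theorem sing_of_pc (m : MinS Om) {S : Sylow 2 G} (t : TwoTwo Om (S : Subgroup G) K₁ K₂ K₃ K₄)
    (h2 : pc (fam Om (centralizer {zz K₁})) (tr (centralizer {zz K₁}) K₃) = tr (centralizer {zz K₁}) K₃) :
    Sing Om (S : Subgroup G) (zz K₁) := by
  have h := m.hyp
  have hT := m.isType
  have hz1 : zz K₁ ∈ ES Om (S : Subgroup G) := zz_mem_ES t.mem1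
  have T := fourX m t hz1 (h.zz_ne t.mem1.1) (h.DD_le_centralizer S.isPGroup' t.mem1)
  have hc : ∀ x : HQ (centralizer ({zz K₁} : Set G)),
      x * zz (tr (centralizer {zz K₁}) K₁) = zz (tr (centralizer {zz K₁}) K₁) * x := by
    intro x
    obtain ⟨y, rfl⟩ := qm_surjective _ x
    rw [zz_tr h hT (CovES.mem_cov_of_mem_ES h S.isPGroup' t.mem1 hz1), ← map_mul, ← map_mul]
    congr 1
    exact Subtype.ext (mem_centralizer_singleton_iff.1 y.2)
  exact sing_of m t hz1 (T.mem_range_of_pc hc h2)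

theorem px_eq_PT (ty : ∀ K ∈ Om, Ty K) (core : ∀ K ∈ Om, OO K = ⊥) {H K : Subgroup G} (hK : K ∈ Om)
    (hKH : K ≤ H) : px Om H K = PT Om H K := by
  unfold px PT
  rw [fam_eq_fb ty core, tr_eq_bar (ty K hK) hKH]

/-- **a neighbour `L` of `K₁`, conjugate to `K₃` under `C(z)`, `z_L ≠ z'`, `z_L z' = z' z_L`** -/
theorem exists_adj (hm : MinS Om) (hodd : OddStmt.{u}) (hE : ∀ S : Sylow 2 G, CorB Om (S : Subgroup G))
    {S : Sylow 2 G} (t : TwoTwo Om (S : Subgroup G) K₁ K₂ K₃ K₄) (hns : ¬ Sing Om (S : Subgroup G) (zz K₁)) :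
    ∃ g ∈ centralizer {zz K₁}, cm (cj g K₃) K₁ ∧ zz (cj g K₃) ≠ zz K₁ ∧ zz (cj g K₃) ≠ zz K₃ ∧
      zz (cj g K₃) * zz K₃ = zz K₃ * zz (cj g K₃) := by
  have h := hm.hyp
  have b := hm.lb_of_corB hodd hE
  set H := centralizer ({zz K₁} : Set G) with hH
  have C : CorG Om H := b.cor K₁ t.mem1.1
  have hle := ((hE S).corG hm S (zz K₁) (zz_mem_ES t.mem1) (h.zz_ne t.mem1.1)).1
  have hne : PT Om H K₃ ∉ fb Om H := by
    refine (b.cases C t.mem3.1 (hle K₃ t.mem3)).resolve_left fun h1 => hns (sing_of_pc hm t ?_)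
    rw [fam_eq_fb hm.ty b.core, tr_eq_bar (hm.ty K₃ t.mem3.1) (hle K₃ t.mem3)]
    exact h1
  have hD := qp_PT C t.mem3.1 (hle K₃ t.mem3) hne
  obtain ⟨g, hg, h1, h2⟩ := exists_DL_conj C t.mem3.1 (hle K₃ t.mem3) hne
  have hgH : g ∈ H := DL_le hg
  have hz : zz (cj g K₃) = g * zz K₃ * g⁻¹ := h.zz_cj t.mem3.1 g
  have hK₁ : ∀ y ∈ K₁, ∀ e ∈ DL Om H (PT Om H K₃), y * e = e * y := by
    refine comm_member C hD t.mem1.1 (hle K₁ t.mem1) fun h3 => hne ?_
    have h4 := (le_pc_iff (fb_hyp h H) (bar_mem t.mem1.1 (hle K₁ t.mem1)) (bar_mem t.mem3.1 (hle K₃ t.mem3))).1 h3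
    have h5 : PT Om H K₁ = bar H K₁ := b.PT_self t.mem1.1
    change pc (fb Om H) (bar H K₃) ∈ fb Om H
    rw [← h4]
    change PT Om H K₁ ∈ fb Om H
    rw [h5]
    exact bar_mem t.mem1.1 (hle K₁ t.mem1)
  have h31 : cm K₃ K₁ := cm_iff_le_centralizer.2
    (hm.comm_of_corB hodd hE S.isPGroup' t.mem3 t.mem1 fun e => t.ne (by rw [e]))
  refine ⟨g, hgH, ?_, ?_, ?_, ?_⟩
  · intro x hx y hy
    rw [mem_cj] at hx
    have e1 := h31 _ hx y hy
    have e2 := hK₁ y hy g hg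
    have e3 : g⁻¹ * y = y * g⁻¹ := by
      calc g⁻¹ * y = g⁻¹ * (y * g) * g⁻¹ := by group
        _ = g⁻¹ * (g * y) * g⁻¹ := by rw [e2]
        _ = y * g⁻¹ := by group
    calc x * y = g * (g⁻¹ * x * g) * (g⁻¹ * y) := by group
      _ = g * ((g⁻¹ * x * g) * y) * g⁻¹ := by rw [e3]; group
      _ = g * (y * (g⁻¹ * x * g)) * g⁻¹ := by rw [e1]
      _ = (g * y) * (g⁻¹ * x) := by group
      _ = (y * g) * (g⁻¹ * x) := by rw [e2]
      _ = y * x := by group
  · rw [hz]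
    intro h3
    apply t.ne
    have h4 := mem_centralizer_singleton_iff.1 hgH
    have h5 : zz K₃ = g⁻¹ * zz K₁ * g := by rw [← h3]; group
    rw [h5, mul_assoc, ← h4]
    group
  · rw [hz]; exact h1
  · rw [hz]; exact h2

/-! ### `C(e) ≤ M` -/

/-- the centraliser of an involution modulo a subgroup of odd order -/
theorem exists_fix {H : Subgroup G} {a : G} (haH : a ∈ H) (ha : a * a = 1) {x : G} (hx : x ∈ H)
    (hc : qm H ⟨a, haH⟩ * qm H ⟨x, hx⟩ = qm H ⟨x, hx⟩ * qm H ⟨a, haH⟩) :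
    ∃ n ∈ OO H, n⁻¹ * x ∈ centralizer {a} := by
  have h1 : a * (x * a * x⁻¹) ∈ OO H := by
    have h2 : qm H (⟨a, haH⟩ * (⟨x, hx⟩ * ⟨a, haH⟩ * ⟨x, hx⟩⁻¹)) = 1 := by
      rw [map_mul, map_mul, map_mul, map_inv, ← hc, mul_inv_cancel_right, ← map_mul]
      have h3 : (⟨a, haH⟩ * ⟨a, haH⟩ : H) = 1 := Subtype.ext ha
      rw [h3, map_one]
    exact qm_eq_one_iff.1 h2
  obtain ⟨n, hn, h2⟩ := Parab.exists_conj_of_mem (N := OO H) (Nat.odd_iff.2 (by
    have := odd_OO H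
    omega)) ha (t := x * a * x⁻¹) (by
    calc x * a * x⁻¹ * (x * a * x⁻¹) = x * (a * a) * x⁻¹ := by group
      _ = 1 := by rw [ha]; group) h1
  refine ⟨n, hn, ?_⟩
  rw [mem_centralizer_singleton_iff]
  have h3 : x * a = n * a * n⁻¹ * x := by rw [h2]; group
  calc n⁻¹ * x * a = n⁻¹ * (x * a) := by group
    _ = n⁻¹ * (n * a * n⁻¹ * x) := by rw [h3]
    _ = a * (n⁻¹ * x) := by group

/-- **`C(e) ≤ M`** -/
theorem centralizer_e_le (hm : MinS Om) (hodd : OddStmt.{u}) (hE : ∀ S : Sylow 2 G, CorB Om (S : Subgroup G))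
    {S : Sylow 2 G} (t : TwoTwo Om (S : Subgroup G) K₁ K₂ K₃ K₄) (hns : ¬ Sing Om (S : Subgroup G) (zz K₁))
    {M : Subgroup G} (e : Emb Om M) (hSM : (S : Subgroup G) ≤ M) : centralizer {zz K₁ * zz K₃} ≤ M := by
  have h := hm.hyp
  have ty := hm.isType
  have hS := S.isPGroup'
  have b := hm.lb_of_corB hodd hE
  have ha : zz K₁ * zz K₃ ∈ ES Om (S : Subgroup G) := mul_mem (zz_mem_ES t.mem1) (zz_mem_ES t.mem3)
  have ha1 := t.mul_ne h
  set H := centralizer ({zz K₁ * zz K₃} : Set G) with hH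
  obtain ⟨hle, C⟩ := (hE S).corG hm S _ ha ha1
  rw [← hH] at C
  have hcov : ∀ {L : Subgroup G}, L ∈ OmS Om (S : Subgroup G) → L ∈ cov Om H :=
    fun hL => CovES.mem_cov_of_mem_ES h hS hL ha
  have hK₁M : K₁ ∈ OmS Om M := OmS_mono hSM t.mem1
  have hO : OO H ≤ M := by
    have h1 := (hE S).XX_le h hS ha ha1
    exact h1.trans ((centralizer_le (Set.singleton_subset_iff.2 (zz_mem_ES t.mem1))).trans (e.cent K₁ hK₁M))
  rcases CloMOne.centralizer_le_or' e ty hSM (by rw [t.ncard]; omega) ha (hm.fam_cent ha1) hO with h1 | ⟨-, hD4⟩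
  · exact h1
  by_cases hpx : ∀ L ∈ OmS Om (S : Subgroup G), px Om H K₁ = px Om H L
  swap
  · push Not at hpx
    obtain ⟨L, hL, h1⟩ := hpx
    exact e.le_of_two_pieces ty hO (hcov t.mem1) hK₁M (hcov hL) h1
  have hfam : fam Om H = fb Om H := fam_eq_fb hm.ty b.core H
  have hpt : ∀ L ∈ OmS Om (S : Subgroup G), px Om H L = PT Om H L := fun L hL =>
    px_eq_PT hm.ty b.core hL.1 (hle L hL)
  have hf := fb_hyp h H
  set D := PT Om H K₁ with hDdef
  have hDty : TyPc (fb Om H) (.D 4) D := by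
    have h1 := hD4 K₁ t.mem1
    rwa [← hH, hfam, hpt K₁ t.mem1] at h1
  have hbD : ∀ L ∈ OmS Om (S : Subgroup G), bar H L ≤ D := by
    intro L hL
    rw [hDdef, ← hpt K₁ t.mem1, hpx L hL, hpt L hL]
    exact bar_le_PT
  obtain ⟨g, hg, c1, n1, n3, c3⟩ := exists_adj hm hodd hE t hns
  set L := cj g K₃ with hL
  have hLO : L ∈ Om := h.conj K₃ t.mem3.1 g
  have hLM : L ∈ OmS Om M := by
    obtain ⟨S', h1, h2⟩ := exists_sylow_of_comm h t.mem1.1 hLO (cm_iff_le_centralizer.1 (cm_symm c1))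
    exact e.mem_of_adj hK₁M ⟨S', h1, h2⟩
  have haa : zz L * zz L = 1 := h.zz_mul hLO
  have haz : zz L * zz K₁ = zz K₁ * zz L := c1 _ (h.zz_mem hLO) _ (h.zz_mem t.mem1.1)
  have haH : zz L ∈ H := by
    rw [hH, mem_centralizer_singleton_iff]
    calc zz L * (zz K₁ * zz K₃) = (zz L * zz K₁) * zz K₃ := by group
      _ = zz K₁ * (zz L * zz K₃) := by rw [haz]; group
      _ = zz K₁ * zz K₃ * zz L := by rw [c3]; group
  have hmax : ∀ L' ∈ TypeDet.OmIn (fb Om H) D, ∃ i : OmS Om (S : Subgroup G), ¬ cm L' (bar H i.1) := by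
    rintro L' ⟨hL', -⟩
    rw [← hfam] at hL'
    obtain ⟨K, hK, h1⟩ := CloMFour.max_tr h ty (hm.fam_cent ha1) ha hL'
    rw [tr_eq_bar (hm.ty K hK.1) (hle K hK)] at h1
    exact ⟨⟨K, hK⟩, h1⟩
  have hfix : cj (qm H ⟨zz L, haH⟩) D = D := by
    have h1 : cj (zz L) K₁ = K₁ := by
      apply Parab.cj_eq_of_conj_mem
      intro k hk
      have h2 := c1 _ (h.zz_mem hLO) k hk
      rw [h2, mul_inv_cancel_right]
      exact hk
    have h2 := cj_bar (H := H) (K := K₁) ⟨zz L, haH⟩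
    change bar H (cj (zz L) K₁) = _ at h2
    rw [h1] at h2
    rw [hDdef, PT, cj_pc hf.conj, ← h2]
  rcases TypeDet.DFourGen.kf6 hf hDty (K := fun i : OmS Om (S : Subgroup G) => bar H i.1)
      (fun i => ⟨bar_mem i.2.1 (hle _ i.2), hbD _ i.2⟩)
      (fun i j hij => (b.cm_iff C i.2.1 j.2.1 (hle _ i.2) (hle _ j.2)).2 (cm_iff_le_centralizer.2
        (hm.comm_of_corB hodd hE hS i.2 j.2 fun e => hij (Subtype.ext e)))) hmax
      (t := qm H ⟨zz L, haH⟩) (by
        rw [← map_mul]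
        have h3 : (⟨zz L, haH⟩ * ⟨zz L, haH⟩ : H) = 1 := Subtype.ext haa
        rw [h3, map_one]) hfix ⟨K₁, t.mem1⟩ (by
        rintro _ ⟨x, hx, rfl⟩
        rw [← map_mul, ← map_mul]
        congr 1
        exact Subtype.ext (c1 _ (h.zz_mem hLO) _ hx)) with h1 | h1
  · -- generation
    have hN : D ≤ bar H M := by
      refine h1.trans (sup_le (sSup_le ?_) ?_)
      · rintro _ ⟨i, rfl⟩
        exact bar_mono (e.le (OmS_mono hSM i.2))
      · rintro y ⟨-, hy⟩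
        obtain ⟨x, rfl⟩ := qm_surjective H y
        obtain ⟨n, hn, h2⟩ := exists_fix haH haa x.2 (mem_centralizer_singleton_iff.1 hy).symm
        have h3 : (x : G) ∈ M := by
          have h4 : (x : G) = n * (n⁻¹ * x) := by group
          rw [h4]
          exact mul_mem (hO hn) (e.cent L hLM h2)
        exact mem_bar h3
    refine e.le_of_pre_le ty hO (hcov t.mem1) hK₁M ?_
    rw [hpt K₁ t.mem1]
    intro x hx
    obtain ⟨hxH, hx2⟩ := mem_pre.1 hx
    obtain ⟨y, hy, hxy⟩ := hN hx2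
    have h5 : qm H (y⁻¹ * ⟨x, hxH⟩) = 1 := by rw [map_mul, map_inv, hxy, inv_mul_cancel]
    have h6 : (y : G)⁻¹ * x ∈ M := hO (qm_eq_one_iff.1 h5)
    have h7 : x = y * ((y : G)⁻¹ * x) := by group
    rw [h7]
    exact mul_mem hy h6
  · -- `z_L` commutes with `D(S)`
    exfalso
    have key : DD Om (S : Subgroup G) ≤ centralizer {zz L} := by
      rw [DD_le_iff]
      intro K hK q hq
      rw [mem_centralizer_singleton_iff]
      obtain ⟨n, hn⟩ := hS ⟨q, hq.2⟩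
      have hn' : q ^ 2 ^ n = 1 := by simpa using congrArg Subtype.val hn
      have hqH : q ∈ H := hle K hK hq.1
      have hqz : q * zz K₁ = zz K₁ * q :=
        (mem_centralizer_iff.1 (CloMOne.inf_le_centralizer_ES h hS hK hq) _ (zz_mem_ES t.mem1)).symm
      refine (TypeDet.LocalBar.comm_of_qm C hK.1 (hle K hK) hq.1 hn' haH ?_).symm
      have h2 := h1 (qm H ⟨q, hqH⟩) (hbD K hK (mem_bar hq.1))
      have h3 : zz (bar H K₁) = qm H ⟨zz K₁, hle K₁ t.mem1 (h.zz_mem t.mem1.1)⟩ :=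
        TypeDet.LocalBar.zz_bar h t.mem1.1 (hle K₁ t.mem1)
      have h4 : zz (bar H K₁) * qm H ⟨q, hqH⟩ = qm H ⟨q, hqH⟩ * zz (bar H K₁) := by
        rw [h3, ← map_mul, ← map_mul]
        congr 1
        exact Subtype.ext hqz.symm
      have h5 : qm H ⟨zz L, haH⟩ * qm H ⟨q, hqH⟩ * zz (bar H K₁) =
          qm H ⟨q, hqH⟩ * qm H ⟨zz L, haH⟩ * zz (bar H K₁) := by
        calc qm H ⟨zz L, haH⟩ * qm H ⟨q, hqH⟩ * zz (bar H K₁)
            = qm H ⟨zz L, haH⟩ * (qm H ⟨q, hqH⟩ * zz (bar H K₁)) := by group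
          _ = qm H ⟨zz L, haH⟩ * zz (bar H K₁) * qm H ⟨q, hqH⟩ := by rw [← h4]; group
          _ = qm H ⟨q, hqH⟩ * (qm H ⟨zz L, haH⟩ * zz (bar H K₁)) := h2
          _ = _ := by group
      exact mul_right_cancel h5
    obtain ⟨T, hT, hDT⟩ := exists_syl_ge (hS.to_le DD_le) key
    have h6 : L ∈ OmS Om (S : Subgroup G) := by
      rw [← h.OmS_eq S hT.2.1 hDT]
      exact h.mem_OmS_of_syl hLO hT
    rcases t.zz_cases h6 with h7 | h7
    · exact n1 h7
    · exact n3 h7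

/-! ### Connectivity -/

/-- **the commuting graph is connected** -/
theorem connected (hm : MinS Om) (hodd : OddStmt.{u}) (hcl : CloseE Om)
    (hE : ∀ S : Sylow 2 G, CorB Om (S : Subgroup G)) {S : Sylow 2 G} (t : TwoTwo Om (S : Subgroup G) K₁ K₂ K₃ K₄) :
    ∀ K ∈ Om, ∀ L ∈ Om, Relation.ReflTransGen (Adj Om) K L := by
  have h := hm.hyp
  have hS := S.isPGroup'
  have hns : ¬ Sing Om (S : Subgroup G) (zz K₁) := fun hs =>
    false_of_isolated hm hcl S (hE S) t hs (sing_iff h hm.cls S t.mem1 t.mem3 hs)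
  have hG1 : K₁ ∈ Gam Om K₁ := ⟨t.mem1.1, .refl⟩
  have hG3 : K₃ ∈ Gam Om K₁ := ⟨t.mem3.1, .single ⟨S, t.mem1, t.mem3⟩⟩
  have e := emb_mst h t.mem1.1
  have hSM := sylow_le_Mst h hG1 S t.mem1
  refine connected_of_Mst h (fun K hK => ?_) (hcl S _ (CloMOne.normalizer_ES_le_Mst h S t.mem1) fun a ha ha1 => ?_)
  · obtain ⟨g, hg⟩ := hm.cls K₁ t.mem1.1 K hK
    exact ⟨g, hg.symm⟩
  · rcases (t.mem_ES_iff h hS).1 ha with rfl | rfl | rfl | rfl
    · exact absurd rfl ha1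
    · exact centralizer_le_Mst h hG1
    · exact centralizer_le_Mst h hG3
    · exact centralizer_e_le hm hodd hE t hns e hSM

/-- **connectivity**, the form of `ExMain.In.conn` -/
theorem conn (hm : MinS Om) (hodd : OddStmt.{u}) (hcl : CloseE Om)
    (hE : ∀ S : Sylow 2 G, CorB Om (S : Subgroup G)) {S : Sylow 2 G} (t : TwoTwo Om (S : Subgroup G) K₁ K₂ K₃ K₄) :
    ∀ C : Set (Subgroup G), C ⊆ Om → C.Nonempty → (∀ K ∈ C, ∀ L ∈ Om, cm K L → L ∈ C) → C = Om := by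
  rintro C hC ⟨K, hK⟩ hcl2
  refine Set.Subset.antisymm hC fun L hL => ?_
  have key : ∀ L, Relation.ReflTransGen (Adj Om) K L → L ∈ C := by
    intro L hL
    induction hL with
    | refl => exact hK
    | @tail A B _ h2 ih =>
      obtain ⟨S', hA, hB⟩ := h2
      by_cases hAB : A = B
      · rw [← hAB]; exact ih
      · exact hcl2 A ih B hB.1 (cm_iff_le_centralizer.2 (hm.comm_of_corB hodd hE S'.isPGroup' hA hB hAB))
  exact key L (connected hm hodd hcl hE t K (hC hK) L hL)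

end

end Cfsg.Agent.Cit.Four
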