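import Cfsg.Agent.Cit.HexGen
import Cfsg.Agent.Cit.Four.TypesX

/-!
# `n = 4`, `τ = 2` : facts on the pieces of type `G₂(q)`, `³D₄(q)` with twins

`Tw Om K K'` : `Y` quasisimple of type `G₂(q)`, `³D₄(q)`, `K ≠ K'` commuting members with the same involution `w`.
* `comm_of_img` : elements commuting with `w` modulo `Z(Y)` commute with `w`;
* `facts`, `pair` : the facts on `Y / Z(Y)`;
* `inn` : an involutory automorphism trivial on `K` is `1` or the conjugation with `w`;
* `gen` : `Y` is generated by the members over the involutions commuting with `w`;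
* `center_eq_bot` : `Z(Y) = 1`; `one` : one class of involutions.
-/

set_option autoImplicit false
set_option linter.style.haveILetI false
set_option linter.unusedSectionVars false

namespace Cfsg.Agent.Cit.Four

open Subgroup Cfsg Cfsg.Agent.Cit Cfsg.Agent.Cit.HexBase
open Cfsg.Agent.Cit.TypeDet (cm)
open scoped commutatorElement

universe u

/-- the centre of a member with trivial core -/
theorem eq_zz_of_central {X : Type*} [Group X] [Finite X] {Om : Set (Subgroup X)} (h : Hyp Om) {K : Subgroup X}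
    (hK : K ∈ Om) (hO : OO K = ⊥) {k : X} (hk : k ∈ K) (hc : ∀ x ∈ K, k * x = x * k) : k = 1 ∨ k = zz K := by
  obtain ⟨b, m, hm, hbm⟩ := Nat.exists_eq_two_pow_mul_odd (orderOf_pos k).ne'
  have hy : k ^ 2 ^ b = 1 := by
    have h1 : zpowers (k ^ 2 ^ b) ≤ OO K := by
      refine le_OO (by rw [zpowers_le]; exact K.pow_mem hk _) ?_ ?_
      · intro x hx
        refine centralizer_le_normalizer _ ?_
        rw [mem_centralizer_iff]
        rintro _ ⟨i, rfl⟩
        have h2 : Commute k x := hc x hx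
        exact ((h2.pow_left (2 ^ b)).zpow_left i).eq
      · rw [Nat.card_zpowers, orderOf_pow_of_dvd (by positivity) (by rw [hbm]; exact dvd_mul_right _ _), hbm,
          Nat.mul_div_cancel_left _ (by positivity), ← even_iff_two_dvd, Nat.not_even_iff_odd]
        exact hm
    rw [hO, le_bot_iff, zpowers_eq_bot] at h1
    exact h1
  have hp : IsPGroup 2 (zpowers k) := by
    obtain ⟨j, -, hj⟩ := (Nat.dvd_prime_pow Nat.prime_two).1 (orderOf_dvd_of_pow_eq_one hy)
    exact IsPGroup.of_card (n := j) (by rw [Nat.card_zpowers, hj])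
  obtain ⟨Q, hQ, hkQ⟩ := LB.exists_syl_ge hp (by rw [zpowers_le]; exact hk : zpowers k ≤ K)
  obtain ⟨c, v, n, hq⟩ := h.exists_gq hK hQ
  have hkQ' : k ∈ Q := hkQ (mem_zpowers k)
  rcases hq.cov k hkQ' with ⟨i, hi⟩ | ⟨i, hi⟩
  · by_cases h1 : k = 1
    · exact Or.inl h1
    · right
      refine hq.eq_z hkQ' ?_ h1
      have h2 := hc v (hQ.1 hq.v_mem)
      have h3 := hq.conj_pow i
      rw [← hi] at h3
      have h4 : k = k⁻¹ := by
        have h5 : k * v = k⁻¹ * v := h2.trans h3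
        exact mul_right_cancel h5
      nth_rw 1 [h4]
      exact inv_mul_cancel k
  · exfalso
    apply hq.not_comm
    have h2 := hc c (hQ.1 hq.c_mem)
    have h3 : Commute c (c ^ i) := (Commute.refl c).pow_right i
    rw [hi] at h2
    have h4 : v * c * c ^ i = c * v * c ^ i := by
      calc v * c * c ^ i = v * (c ^ i * c) := by rw [mul_assoc, h3.eq]
        _ = c * (v * c ^ i) := by rw [← h2]; group
        _ = c * v * c ^ i := by group
    exact mul_right_cancel h4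

/-- the situation in a piece of type `G₂(q)`, `³D₄(q)` containing twins -/
structure Tw {Y : Type u} [Group Y] (Om : Set (Subgroup Y)) (K K' : Subgroup Y) : Prop where
  hyp : Hyp Om
  ty : ∀ K ∈ Om, IsType K
  core : ∀ K ∈ Om, OO K = ⊥
  nmem : ⊤ ∉ Om
  qs : IsQuasisimple Y
  two : IsPGroup 2 (center Y)
  iso : ∃ p : ℕ, p.Prime ∧ p ≠ 2 ∧ IsG2D4 p (Y ⧸ center Y)
  mem : K ∈ Om
  mem' : K' ∈ Om
  ne : K ≠ K'
  comm : cm K K'
  zz : Cit.zz K = Cit.zz K'
  three : ∀ J ∈ Om, ∀ L ∈ Om, ∀ M ∈ Om, cm J L → cm J M → cm L M → J = L ∨ J = M ∨ L = M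

namespace Tw

variable {Y : Type u} [Group Y] [Finite Y] {Om : Set (Subgroup Y)} {K K' : Subgroup Y} (T : Tw Om K K')

include T

theorem symm : Tw Om K' K :=
  ⟨T.hyp, T.ty, T.core, T.nmem, T.qs, T.two, T.iso, T.mem', T.mem, T.ne.symm, TypeDet.cm_symm T.comm, T.zz.symm,
    T.three⟩

/-- members which are central -/
theorem not_le_center {J : Subgroup Y} (hJ : J ∈ Om) : ¬ J ≤ center Y := by
  intro h1
  refine T.hyp.not_le_centralizer_self hJ fun x hx => ?_
  rw [mem_centralizer_iff]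
  exact fun y _ => (mem_center_iff.1 (h1 hx) y)

theorem not_mem_center {J : Subgroup Y} (hJ : J ∈ Om) : Cit.zz J ∉ center Y := by
  intro hz
  have h1 : centralizer {Cit.zz J} = ⊤ := by
    rw [eq_top_iff]
    intro x _
    rw [mem_centralizer_singleton_iff]
    exact mem_center_iff.1 hz x
  have h2 := T.hyp.sub J hJ
  rw [h1] at h2
  have h3 : J.IsSubnormal := by
    have h4 := h2.map (f := (topEquiv (G := Y)).toMonoidHom) (topEquiv (G := Y)).surjective
    convert h4 using 1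
    ext x
    constructor
    · intro hx
      exact ⟨⟨x, mem_top x⟩, hx, rfl⟩
    · rintro ⟨y, hy, rfl⟩
      exact hy
  rcases Lib.ComponentSolvable.quasisimple_subnormal_cases T.qs h3 with h4 | h4
  · exact T.nmem (h4 ▸ hJ)
  · exact T.not_le_center hJ h4

/-- the involutions of the members are unique modulo the centre -/
theorem eq_one_of_mul {J : Subgroup Y} (hJ : J ∈ Om) {c : Y} (hc : c ∈ center Y) (he : Cit.zz J = Cit.zz K * c) :
    c = 1 := by
  have key : ∀ A : Subgroup Y, A ∈ Om → Cit.zz A = Cit.zz K → A ≠ J → cm A J := by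
    intro A hA hz hne
    refine cm_of_zz T.hyp T.core hJ hA hne fun x hx => ?_
    have h2 : x * Cit.zz A = Cit.zz A * x := T.hyp.comm_zz hA (le_normalizer hx)
    rw [hz] at h2
    rw [he, ← mul_assoc, h2, mul_assoc, mem_center_iff.1 hc x, mul_assoc]
  by_cases h1 : K = J
  · rw [← h1] at he
    exact (left_eq_mul.1 he)
  by_cases h2 : K' = J
  · rw [← h2, ← T.zz] at he
    exact (left_eq_mul.1 he)
  exfalso
  rcases T.three K T.mem K' T.mem' J hJ T.comm (key K T.mem rfl h1) (key K' T.mem' T.zz.symm h2) with h3 | h3 | h3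
  · exact T.ne h3
  · exact h1 h3
  · exact h2 h3

theorem comm_of_mem {x : Y} (hx : x * Cit.zz K * x⁻¹ * (Cit.zz K)⁻¹ ∈ center Y) : x * Cit.zz K = Cit.zz K * x := by
  have h1 := T.eq_one_of_mul (T.hyp.conj K T.mem x) (c := x * Cit.zz K * x⁻¹ * (Cit.zz K)⁻¹) hx (by
    rw [T.hyp.zz_cj T.mem, mem_center_iff.1 hx (Cit.zz K)]
    group)
  rw [mul_inv_eq_one, mul_inv_eq_iff_eq_mul] at h1
  exact h1

/-- **elements commuting with `w` modulo the centre commute with `w`** -/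
theorem comm_of_img {x : Y} (hx : QuotientGroup.mk' (center Y) x * QuotientGroup.mk' (center Y) (Cit.zz K) =
    QuotientGroup.mk' (center Y) (Cit.zz K) * QuotientGroup.mk' (center Y) x) :
    x * Cit.zz K = Cit.zz K * x := by
  apply T.comm_of_mem
  rw [← QuotientGroup.ker_mk' (center Y), MonoidHom.mem_ker, map_mul, map_mul, map_mul, hx, map_inv, map_inv]
  group

theorem inf_ker {J : Subgroup Y} (hJ : J ∈ Om) : J ⊓ (QuotientGroup.mk' (center Y)).ker = ⊥ := by
  rw [QuotientGroup.ker_mk', eq_bot_iff]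
  rintro x ⟨hx, hxc⟩
  rw [mem_bot]
  rcases eq_zz_of_central T.hyp hJ (T.core J hJ) hx (fun y _ => (mem_center_iff.1 hxc y).symm) with h1 | h1
  · exact h1
  · exfalso
    rw [h1] at hxc
    exact T.not_mem_center hJ hxc

/-- the images satisfy `Mem` -/
theorem memQ : Mem (Y ⧸ center Y) (K.map (QuotientGroup.mk' (center Y)))
    (QuotientGroup.mk' (center Y) (Cit.zz K)) where
  mem := ⟨_, T.hyp.zz_mem T.mem, rfl⟩
  sq := by rw [← map_mul, T.hyp.zz_mul T.mem, map_one]
  ne h1 := by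
    rw [← MonoidHom.mem_ker, QuotientGroup.ker_mk'] at h1
    exact T.not_mem_center T.mem h1
  le := by
    rintro _ ⟨x, hx, rfl⟩
    rw [mem_centralizer_singleton_iff, ← map_mul, ← map_mul, T.hyp.comm_zz T.mem (le_normalizer hx)]
  sub := by
    have hf : ∀ x ∈ centralizer {Cit.zz K}, QuotientGroup.mk' (center Y) x ∈
        centralizer {QuotientGroup.mk' (center Y) (Cit.zz K)} := by
      intro x hx
      rw [mem_centralizer_singleton_iff] at hx ⊢
      rw [← map_mul, ← map_mul, hx]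
    let f : centralizer {Cit.zz K} →* centralizer {QuotientGroup.mk' (center Y) (Cit.zz K)} :=
      ((QuotientGroup.mk' (center Y)).comp (centralizer {Cit.zz K}).subtype).codRestrict _ fun x => hf x x.2
    have hs : Function.Surjective f := by
      rintro ⟨y, hy⟩
      obtain ⟨x, rfl⟩ := QuotientGroup.mk'_surjective _ y
      rw [mem_centralizer_singleton_iff] at hy
      exact ⟨⟨x, mem_centralizer_singleton_iff.2 (T.comm_of_img hy)⟩, rfl⟩
    have h1 := (T.hyp.sub K T.mem).map (f := f) hs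
    convert h1 using 1
    ext ⟨y, hy⟩
    rw [mem_subgroupOf]
    constructor
    · rintro ⟨x, hx, rfl⟩
      exact ⟨⟨x, T.hyp.le_centralizer T.mem hx⟩, hx, rfl⟩
    · rintro ⟨x, hx, hxy⟩
      exact ⟨x, hx, congrArg Subtype.val hxy⟩
  ty := TyTrans.isType_of_quot (TyTrans.quotMapInf (T.inf_ker T.mem)) (T.ty K T.mem)

theorem ne_img : K.map (QuotientGroup.mk' (center Y)) ≠ K'.map (QuotientGroup.mk' (center Y)) := by
  intro he
  -- `K ≤ K' Z(Y)` commutes with `K`
  apply T.hyp.not_le_centralizer_self T.mem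
  intro x hx
  have h1 : QuotientGroup.mk' (center Y) x ∈ K'.map (QuotientGroup.mk' (center Y)) := by
    rw [← he]; exact ⟨x, hx, rfl⟩
  obtain ⟨y, hy, hyx⟩ := h1
  have h2 : y⁻¹ * x ∈ center Y := (QuotientGroup.eq (s := center Y)).1 hyx
  rw [mem_centralizer_iff]
  intro t ht
  have h3 : t * (y⁻¹ * x) = y⁻¹ * x * t := mem_center_iff.1 h2 t
  have h4 : t * y = y * t := T.comm t ht y hy
  calc t * x = t * y * (y⁻¹ * x) := by group
    _ = y * (t * (y⁻¹ * x)) := by rw [h4, mul_assoc]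
    _ = x * t := by rw [h3]; group

theorem memQ' : Mem (Y ⧸ center Y) (K'.map (QuotientGroup.mk' (center Y)))
    (QuotientGroup.mk' (center Y) (Cit.zz K)) := by
  have h1 := T.symm.memQ
  rwa [← T.zz] at h1

theorem facts : Facts (Y ⧸ center Y) (K.map (QuotientGroup.mk' (center Y)))
    (QuotientGroup.mk' (center Y) (Cit.zz K)) :=
  facts_of_iso HexFactBMain.h4_all HexFactBMain.h5_all T.iso T.memQ

theorem pair : Pair (Y ⧸ center Y) (K.map (QuotientGroup.mk' (center Y))) (K'.map (QuotientGroup.mk' (center Y)))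
    (QuotientGroup.mk' (center Y) (Cit.zz K)) := pair_of_iso T.iso T.memQ T.memQ' T.ne_img

/-- **generation** -/
theorem gen {N : Subgroup Y} (hN : ∀ g, (g * Cit.zz K * g⁻¹) * Cit.zz K = Cit.zz K * (g * Cit.zz K * g⁻¹) →
    cj g K ≤ N ∧ cj g K' ≤ N) : N = ⊤ := by
  have h1 := T.pair.gen (N.map (QuotientGroup.mk' (center Y))) (by
    intro g hg
    obtain ⟨g, rfl⟩ := QuotientGroup.mk'_surjective _ g
    rw [← map_inv, ← map_mul, ← map_mul] at hg
    obtain ⟨h2, h3⟩ := hN g (T.comm_of_img hg)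
    rw [← cj_map, ← cj_map]
    exact ⟨Subgroup.map_mono h2, Subgroup.map_mono h3⟩)
  -- `N Z(Y) = Y`
  have h2 : N ⊔ center Y = ⊤ := by
    have h3 := congrArg (Subgroup.comap (QuotientGroup.mk' (center Y))) h1
    rwa [comap_map_eq, QuotientGroup.ker_mk', comap_top] at h3
  have h3 : commutator Y ≤ N := by
    rw [commutator_def, Subgroup.commutator_le]
    intro x _ y _
    have hx : x ∈ N ⊔ center Y := by rw [h2]; exact mem_top x
    have hy : y ∈ N ⊔ center Y := by rw [h2]; exact mem_top y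
    obtain ⟨a, ha, c, hc, rfl⟩ := mem_sup_of_normal_right.1 hx
    obtain ⟨b, hb, d, hd, rfl⟩ := mem_sup_of_normal_right.1 hy
    have e : ⁅a * c, b * d⁆ = ⁅a, b⁆ := by
      have c1 : ∀ t, t * c = c * t := fun t => mem_center_iff.1 hc t
      have d1 : ∀ t, t * d = d * t := fun t => mem_center_iff.1 hd t
      rw [commutatorElement_def, commutatorElement_def]
      calc a * c * (b * d) * (a * c)⁻¹ * (b * d)⁻¹ = a * (c * (b * d * c⁻¹)) * a⁻¹ * d⁻¹ * b⁻¹ := by group
        _ = a * (b * d * c⁻¹ * c) * a⁻¹ * d⁻¹ * b⁻¹ := by rw [← c1 (b * d * c⁻¹)]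
        _ = a * b * (d * (a⁻¹ * d⁻¹)) * b⁻¹ := by group
        _ = a * b * (a⁻¹ * d⁻¹ * d) * b⁻¹ := by rw [← d1 (a⁻¹ * d⁻¹)]
        _ = a * b * a⁻¹ * b⁻¹ := by group
    rw [e]
    exact mul_mem (mul_mem (mul_mem ha hb) (inv_mem ha)) (inv_mem hb)
  rwa [T.qs.1.commutator_eq_top, top_le_iff] at h3

omit T in
/-- an automorphism of a perfect group which is trivial modulo the centre is trivial -/
theorem aut_eq_one (hp : commutator Y = ⊤) (a : MulAut Y) (h : ∀ x, x⁻¹ * a x ∈ center Y) : a = 1 := by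
  have h1 : commutator Y ≤ a.toMonoidHom.eqLocus (MonoidHom.id Y) := by
    rw [commutator_def, Subgroup.commutator_le]
    intro x _ y _
    change a ⁅x, y⁆ = ⁅x, y⁆
    obtain ⟨c, hc, hx⟩ : ∃ c ∈ center Y, a x = x * c := ⟨_, h x, by group⟩
    obtain ⟨d, hd, hy⟩ : ∃ d ∈ center Y, a y = y * d := ⟨_, h y, by group⟩
    rw [map_commutatorElement, hx, hy]
    have c1 : ∀ t, t * c = c * t := fun t => mem_center_iff.1 hc t
    have d1 : ∀ t, t * d = d * t := fun t => mem_center_iff.1 hd t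
    rw [commutatorElement_def, commutatorElement_def]
    calc x * c * (y * d) * (x * c)⁻¹ * (y * d)⁻¹ = x * (c * (y * d * c⁻¹)) * x⁻¹ * d⁻¹ * y⁻¹ := by group
      _ = x * (y * d * c⁻¹ * c) * x⁻¹ * d⁻¹ * y⁻¹ := by rw [← c1 (y * d * c⁻¹)]
      _ = x * y * (d * (x⁻¹ * d⁻¹)) * y⁻¹ := by group
      _ = x * y * (x⁻¹ * d⁻¹ * d) * y⁻¹ := by rw [← d1 (x⁻¹ * d⁻¹)]
      _ = x * y * x⁻¹ * y⁻¹ := by group
  rw [hp] at h1
  ext x
  exact h1 (mem_top x)

/-- **an involutory automorphism trivial on `K` is `1` or the conjugation with `w`** -/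
theorem inn {a : MulAut Y} (ha : a * a = 1) (hK : ∀ x ∈ K, a x = x) : a = 1 ∨ a = MulAut.conj (Cit.zz K) := by
  have hp : commutator Y = ⊤ := T.qs.1.commutator_eq_top
  have hc : (center Y).map (a : Y ≃* Y) = center Y := by
    ext x
    constructor
    · rintro ⟨y, hy, rfl⟩
      rw [mem_center_iff]
      intro t
      have h1 := congrArg a (mem_center_iff.1 hy (a.symm t))
      rw [map_mul, map_mul] at h1
      change a (a.symm t) * a y = a y * a (a.symm t) at h1
      rw [MulEquiv.apply_symm_apply] at h1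
      exact h1
    · intro hx
      refine ⟨a.symm x, ?_, a.apply_symm_apply x⟩
      rw [SetLike.mem_coe, mem_center_iff]
      intro t
      apply a.injective
      rw [map_mul, map_mul, a.apply_symm_apply]
      exact mem_center_iff.1 hx (a t)
  let q : MulAut (Y ⧸ center Y) := QuotientGroup.congr (center Y) (center Y) a hc
  have hq : ∀ x, q (QuotientGroup.mk' (center Y) x) = QuotientGroup.mk' (center Y) (a x) := fun x => rfl
  have hq2 : q * q = 1 := by
    ext x
    obtain ⟨x, rfl⟩ := QuotientGroup.mk'_surjective _ x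
    rw [MulAut.mul_apply, hq, hq, MulAut.one_apply]
    exact congrArg (QuotientGroup.mk' (center Y)) (DFunLike.congr_fun ha x)
  rcases T.facts.1.inn q hq2 (by
    rintro _ ⟨x, hx, rfl⟩
    rw [hq, hK x hx]) with h1 | h1
  · left
    refine aut_eq_one hp a fun x => ?_
    have h2 := hq x
    rw [h1, MulAut.one_apply] at h2
    exact (QuotientGroup.eq (s := center Y)).1 h2
  · right
    have h2 : (MulAut.conj (Cit.zz K))⁻¹ * a = 1 := by
      refine aut_eq_one hp _ fun x => ?_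
      have h3 : (MulAut.conj (Cit.zz K))⁻¹ (a x) = (Cit.zz K)⁻¹ * a x * Cit.zz K := by
        rw [← map_inv, MulAut.conj_apply, inv_inv]
      rw [MulAut.mul_apply, h3]
      refine (QuotientGroup.eq (s := center Y)).1 ?_
      have h4 := hq x
      rw [h1, MulAut.conj_apply] at h4
      change QuotientGroup.mk' (center Y) x = QuotientGroup.mk' (center Y) _
      rw [map_mul, map_mul, ← h4, map_inv]
      group
    exact (inv_mul_eq_one.1 h2).symm

/-- the centraliser of `w` normalises `K` -/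
theorem conj_mem {x : Y} (hx : x * Cit.zz K = Cit.zz K * x) {y : Y} (hy : y ∈ K) : x * y * x⁻¹ ∈ K := by
  have h0 : cj x K = K := by
    by_contra hne
    have hz : Cit.zz (cj x K) = Cit.zz K := by
      rw [T.hyp.zz_cj T.mem, hx, mul_inv_cancel_right]
    have h1 : cm (cj x K) K := cm_of_zz T.hyp T.core T.mem (T.hyp.conj K T.mem x) hne fun t ht => by
      rw [← hz]
      exact T.hyp.comm_zz (T.hyp.conj K T.mem x) (le_normalizer ht)
    apply T.hyp.not_le_centralizer_self T.mem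
    intro y hy
    rw [mem_centralizer_iff]
    intro t ht
    have hxi : x⁻¹ * Cit.zz K = Cit.zz K * x⁻¹ := by
      rw [inv_mul_eq_iff_eq_mul, ← mul_assoc, hx, mul_inv_cancel_right]
    have h2 := T.pair.nml (QuotientGroup.mk' (center Y) x⁻¹) (by rw [← map_mul, ← map_mul, hxi]) _
      (⟨y, hy, rfl⟩ : QuotientGroup.mk' (center Y) y ∈ K.map (QuotientGroup.mk' (center Y)))
    obtain ⟨y', hy', h3⟩ := h2
    rw [← map_inv, ← map_mul, ← map_mul, inv_inv] at h3
    have h4 : y'⁻¹ * (x⁻¹ * y * x) ∈ center Y := (QuotientGroup.eq (s := center Y)).1 h3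
    -- `y = x y' x⁻¹ c`
    have h5 : y = x * y' * x⁻¹ * (y'⁻¹ * (x⁻¹ * y * x)) := by
      calc y = x * y' * (y'⁻¹ * (x⁻¹ * y * x)) * x⁻¹ := by group
        _ = x * y' * (x⁻¹ * (y'⁻¹ * (x⁻¹ * y * x))) := by rw [mem_center_iff.1 h4 x⁻¹, mul_assoc (x * y')]
        _ = _ := by group
    have h6 : x * y' * x⁻¹ * t = t * (x * y' * x⁻¹) := h1 _ (conj_mem_cj hy') t ht
    rw [h5]
    generalize y'⁻¹ * (x⁻¹ * y * x) = c at h4
    have h7 : t * c = c * t := mem_center_iff.1 h4 t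
    calc t * (x * y' * x⁻¹ * c) = t * (x * y' * x⁻¹) * c := by group
      _ = x * y' * x⁻¹ * (t * c) := by rw [← h6, mul_assoc _ t c]
      _ = x * y' * x⁻¹ * c * t := by rw [h7, ← mul_assoc]
  have h1 := conj_mem_cj (g := x) hy
  rwa [h0] at h1

omit T in
theorem mem_sup_of_cm {A B : Subgroup Y} (h : cm A B) {x : Y} (hx : x ∈ A ⊔ B) : ∃ a ∈ A, ∃ b ∈ B, x = a * b := by
  let S : Subgroup Y :=
    { carrier := {x | ∃ a ∈ A, ∃ b ∈ B, x = a * b}
      one_mem' := ⟨1, one_mem _, 1, one_mem _, by simp⟩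
      mul_mem' := by
        rintro _ _ ⟨a, ha, b, hb, rfl⟩ ⟨a', ha', b', hb', rfl⟩
        refine ⟨a * a', mul_mem ha ha', b * b', mul_mem hb hb', ?_⟩
        calc a * b * (a' * b') = a * (b * a') * b' := by group
          _ = a * a' * (b * b') := by rw [← h a' ha' b hb]; group
      inv_mem' := by
        rintro _ ⟨a, ha, b, hb, rfl⟩
        refine ⟨a⁻¹, inv_mem ha, b⁻¹, inv_mem hb, ?_⟩
        rw [h a ha b hb, mul_inv_rev] }
  have h1 : A ⊔ B ≤ S := sup_le (fun a ha => ⟨a, ha, 1, one_mem _, by simp⟩)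
    (fun b hb => ⟨1, one_mem _, b, hb, by simp⟩)
  exact h1 hx

/-- a Sylow 2-subgroup centralises `w` -/
theorem exists_sylow : ∃ S : Sylow 2 Y, (S : Subgroup Y) ≤ centralizer {Cit.zz K} := by
  haveI : Fact (Nat.Prime 2) := ⟨Nat.prime_two⟩
  have hw : IsPGroup 2 (zpowers (Cit.zz K)) :=
    IsPGroup.of_card (n := 1) (by rw [Nat.card_zpowers, T.hyp.orderOf_zz T.mem, pow_one])
  obtain ⟨P, hP⟩ := hw.exists_le_sylow
  set π := QuotientGroup.mk' (center Y) with hπ
  set Pb : Subgroup (Y ⧸ center Y) := (P : Subgroup Y).map π with hPb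
  have h2 : IsPGroup 2 Pb := P.isPGroup'.map _
  have hne : Nontrivial Pb := by
    rw [nontrivial_iff_exists_ne_one]
    refine ⟨π (Cit.zz K), ⟨_, hP (mem_zpowers _), rfl⟩, ?_⟩
    intro h1
    rw [hπ, ← MonoidHom.mem_ker, QuotientGroup.ker_mk'] at h1
    exact T.not_mem_center T.mem h1
  have h3 : Nontrivial (center Pb) := h2.center_nontrivial
  have h4 : 2 ∣ Nat.card (center Pb) := by
    rcases (h2.to_subgroup (center Pb)).card_eq_or_dvd with h5 | h5
    · exfalso
      have := Finite.one_lt_card_iff_nontrivial.2 h3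
      omega
    · exact h5
  obtain ⟨t, ht⟩ := exists_prime_orderOf_dvd_card' 2 h4
  have ht1 : ((t : Pb) : Y ⧸ center Y) ≠ 1 := by
    intro h5
    have h6 : t = 1 := Subtype.ext (Subtype.ext h5)
    rw [h6, orderOf_one] at ht
    omega
  have ht2 : ((t : Pb) : Y ⧸ center Y) * ((t : Pb) : Y ⧸ center Y) = 1 := by
    have h5 : t * t = 1 := by rw [← pow_two, ← ht, pow_orderOf_eq_one]
    exact congrArg (fun s : center Pb => (((s : Pb)) : Y ⧸ center Y)) h5
  obtain ⟨g, hg⟩ := T.facts.1.one _ (π (Cit.zz K)) ht2 ht1 T.memQ.sq T.memQ.ne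
  obtain ⟨g, rfl⟩ := QuotientGroup.mk'_surjective _ g
  have h5 : IsPGroup 2 (cj g (P : Subgroup Y)) := isPGroup_cj P.isPGroup'
  have h6 : ¬ 2 ∣ (cj g (P : Subgroup Y)).index := by
    have h7 : (cj g (P : Subgroup Y)).index = (P : Subgroup Y).index := Subgroup.index_map_equiv _ (MulAut.conj g)
    rw [h7]
    exact P.not_dvd_index
  refine ⟨h5.toSylow h6, ?_⟩
  rintro _ ⟨x, hx, rfl⟩
  rw [mem_centralizer_singleton_iff]
  apply T.comm_of_img
  have h7 : π x * ((t : Pb) : Y ⧸ center Y) = ((t : Pb) : Y ⧸ center Y) * π x := by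
    have h8 := mem_center_iff.1 t.2 ⟨π x, ⟨x, hx, rfl⟩⟩
    exact congrArg Subtype.val h8
  change π (g * x * g⁻¹) * π (Cit.zz K) = π (Cit.zz K) * π (g * x * g⁻¹)
  rw [← hπ] at hg
  rw [← hg, map_mul, map_mul, map_inv]
  calc π g * π x * (π g)⁻¹ * (π g * ((t : Pb) : Y ⧸ center Y) * (π g)⁻¹) =
      π g * (π x * ((t : Pb) : Y ⧸ center Y)) * (π g)⁻¹ := by group
    _ = π g * (((t : Pb) : Y ⧸ center Y) * π x) * (π g)⁻¹ := by rw [h7]
    _ = _ := by group

/-- the form of the elements of `C(w)` -/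
theorem form : ∃ h : Y, h * Cit.zz K = Cit.zz K * h ∧ ∀ x, x * Cit.zz K = Cit.zz K * x →
    ∃ p ∈ K ⊔ K', ∃ c ∈ center Y, ∃ n : ℕ, x = p * (c * (h ^ n)⁻¹) := by
  obtain ⟨g, hg, hc⟩ := T.pair.fac.cyc
  obtain ⟨h, rfl⟩ := QuotientGroup.mk'_surjective _ g
  refine ⟨h, T.comm_of_img hg, fun x hx => ?_⟩
  obtain ⟨n, _, ⟨a, ha, rfl⟩, _, ⟨b, hb, rfl⟩, hab⟩ := hc (QuotientGroup.mk' (center Y) x) (by
    rw [← map_mul, ← map_mul, hx])
  rw [← map_pow, ← map_mul, ← map_mul] at hab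
  have h1 : (a * b)⁻¹ * (x * h ^ n) ∈ center Y := (QuotientGroup.eq (s := center Y)).1 hab.symm
  refine ⟨a * b, mul_mem ((le_sup_left : K ≤ K ⊔ K') ha) ((le_sup_right : K' ≤ K ⊔ K') hb), _, h1, n, ?_⟩
  group

/-- `C(w)' ≤ K K'` -/
theorem commutator_mem {x y : Y} (hx : x * Cit.zz K = Cit.zz K * x) (hy : y * Cit.zz K = Cit.zz K * y) :
    ⁅x, y⁆ ∈ K ⊔ K' := by
  obtain ⟨h, hh, hf⟩ := T.form
  obtain ⟨p, hp, c, hc, n, rfl⟩ := hf x hx
  obtain ⟨q, hq, d, hd, m, rfl⟩ := hf y hy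
  have hnorm : ∀ u, u * Cit.zz K = Cit.zz K * u → ∀ s ∈ K ⊔ K', u * s * u⁻¹ ∈ K ⊔ K' := by
    intro u hu s hs
    have h1 : K ⊔ K' ≤ (K ⊔ K').comap (MulAut.conj u).toMonoidHom := by
      refine sup_le (fun t ht => ?_) (fun t ht => ?_)
      · exact (le_sup_left : K ≤ K ⊔ K') (T.conj_mem hu ht)
      · exact (le_sup_right : K' ≤ K ⊔ K') (T.symm.conj_mem (by rw [← T.zz]; exact hu) ht)
    exact h1 hs
  have hcz : ∀ c ∈ center Y, ∀ t, t * c = c * t := fun c hc t => mem_center_iff.1 hc t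
  have hpow : ∀ n : ℕ, (h ^ n)⁻¹ * Cit.zz K = Cit.zz K * (h ^ n)⁻¹ := fun n =>
    (((show Commute h (Cit.zz K) from hh).pow_left n).inv_left).eq
  have hu : ∀ c ∈ center Y, ∀ n : ℕ, c * (h ^ n)⁻¹ * Cit.zz K = Cit.zz K * (c * (h ^ n)⁻¹) := by
    intro c hc n
    rw [mul_assoc, hpow, ← mul_assoc, ← hcz c hc, mul_assoc]
  have hcomm : c * (h ^ n)⁻¹ * (d * (h ^ m)⁻¹) = d * (h ^ m)⁻¹ * (c * (h ^ n)⁻¹) := by
    have h1 : (h ^ n)⁻¹ * (h ^ m)⁻¹ = (h ^ m)⁻¹ * (h ^ n)⁻¹ :=
      (((Commute.refl h).pow_pow n m).inv_inv).eq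
    calc c * (h ^ n)⁻¹ * (d * (h ^ m)⁻¹) = c * ((h ^ n)⁻¹ * d) * (h ^ m)⁻¹ := by group
      _ = c * (d * (h ^ n)⁻¹) * (h ^ m)⁻¹ := by rw [hcz d hd]
      _ = c * d * ((h ^ n)⁻¹ * (h ^ m)⁻¹) := by group
      _ = d * c * ((h ^ m)⁻¹ * (h ^ n)⁻¹) := by rw [h1, hcz d hd c]
      _ = d * (c * (h ^ m)⁻¹) * (h ^ n)⁻¹ := by group
      _ = d * ((h ^ m)⁻¹ * c) * (h ^ n)⁻¹ := by rw [hcz c hc]
      _ = _ := by group
  have h1 := hnorm _ (hu c hc n) q hq
  have h2 := hnorm _ (hu d hd m) p⁻¹ (inv_mem hp)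
  generalize c * (h ^ n)⁻¹ = u at *
  generalize d * (h ^ m)⁻¹ = v at *
  have e : ⁅p * u, q * v⁆ = p * (u * q * u⁻¹) * (v * p⁻¹ * v⁻¹) * q⁻¹ := by
    rw [commutatorElement_def]
    calc p * u * (q * v) * (p * u)⁻¹ * (q * v)⁻¹ = p * u * q * v * u⁻¹ * p⁻¹ * v⁻¹ * q⁻¹ := by group
      _ = p * u * q * (u⁻¹ * (u * v)) * u⁻¹ * p⁻¹ * v⁻¹ * q⁻¹ := by group
      _ = p * u * q * (u⁻¹ * (v * u)) * u⁻¹ * p⁻¹ * v⁻¹ * q⁻¹ := by rw [hcomm]
      _ = _ := by group
  rw [e]
  exact mul_mem (mul_mem (mul_mem hp h1) h2) (inv_mem hq)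

/-- **`Z(Y) = 1`** -/
theorem center_eq_bot : center Y = ⊥ := by
  haveI : Fact (Nat.Prime 2) := ⟨Nat.prime_two⟩
  obtain ⟨S, hS⟩ := T.exists_sylow
  have hp : commutator Y = ⊤ := T.qs.1.commutator_eq_top
  rw [eq_bot_iff]
  intro c hc
  rw [mem_bot]
  have h1 : center Y ≤ (S : Subgroup Y) := by
    have h2 : IsPGroup 2 (center Y ⊔ (S : Subgroup Y) : Subgroup Y) :=
      T.two.to_sup_of_normal_left' S.isPGroup' (by rw [normalizer_eq_top]; exact le_top)
    have h3 := S.is_maximal' h2 le_sup_right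
    rw [← h3]
    exact le_sup_left
  obtain ⟨a, ha⟩ := T.two ⟨c, hc⟩
  have h2 : c ∈ ⁅(S : Subgroup Y), (S : Subgroup Y)⁆ :=
    TwoB.mem_commutator_of_center hp _ S.not_dvd_index (h1 hc) hc (a := a) (by
      simpa using congrArg Subtype.val ha)
  have h3 : ⁅(S : Subgroup Y), (S : Subgroup Y)⁆ ≤ K ⊔ K' := by
    rw [Subgroup.commutator_le]
    intro x hx y hy
    exact T.commutator_mem (mem_centralizer_singleton_iff.1 (hS hx)) (mem_centralizer_singleton_iff.1 (hS hy))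
  obtain ⟨k, hk, k', hk', rfl⟩ := mem_sup_of_cm T.comm (h3 h2)
  have hk1 : ∀ x ∈ K, k * x = x * k := by
    intro x hx
    have h4 := mem_center_iff.1 hc x
    have h5 := T.comm x hx k' hk'
    apply mul_right_cancel (b := k')
    rw [mul_assoc, h5, ← mul_assoc, ← h4, mul_assoc]
  have hk1' : ∀ x ∈ K', k' * x = x * k' := by
    intro x hx
    have h4 := mem_center_iff.1 hc x
    have h5 := T.comm k hk x hx
    apply mul_left_cancel (a := k)
    rw [← mul_assoc, ← mul_assoc, h5, mul_assoc x k, h4]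
  have hzz := T.hyp.zz_mul T.mem
  rcases eq_zz_of_central T.hyp T.mem (T.core K T.mem) hk hk1 with h4 | h4 <;>
    rcases eq_zz_of_central T.hyp T.mem' (T.core K' T.mem') hk' hk1' with h5 | h5
  · rw [h4, h5, one_mul]
  · exfalso
    rw [h4, h5, one_mul] at hc
    exact T.not_mem_center T.mem' hc
  · exfalso
    rw [h4, h5, mul_one] at hc
    exact T.not_mem_center T.mem hc
  · rw [h4, h5, ← T.zz, hzz]

/-- **one class of involutions** -/
theorem one {t : Y} (ht : t * t = 1) (ht1 : t ≠ 1) : ∃ g, g * Cit.zz K * g⁻¹ = t := by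
  have h1 : ∀ x ∈ center Y, x = 1 := fun x hx => by rwa [T.center_eq_bot, mem_bot] at hx
  obtain ⟨g, hg⟩ := T.facts.1.one (QuotientGroup.mk' (center Y) (Cit.zz K)) (QuotientGroup.mk' (center Y) t)
    T.memQ.sq T.memQ.ne (by rw [← map_mul, ht, map_one]) (by
      intro h2
      rw [← MonoidHom.mem_ker, QuotientGroup.ker_mk'] at h2
      exact ht1 (h1 _ h2))
  obtain ⟨g, rfl⟩ := QuotientGroup.mk'_surjective _ g
  refine ⟨g, ?_⟩
  rw [← map_inv, ← map_mul, ← map_mul] at hg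
  have h2 := h1 _ ((QuotientGroup.eq (s := center Y)).1 hg)
  exact inv_mul_eq_one.1 h2

end Tw

end Cfsg.Agent.Cit.Four
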