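import Cfsg.Agent.Cit.Four.Conn
import Cfsg.Agent.Cit.ExOut

/-!
# `n = 4`, `τ = 2` : the input of THEOREM (EX) (project CIT)

`Ch Om` : the piece over `K₃` in `C(zz K₁) / O(C(zz K₁))` is of type `C 2`, `A 3` or `B 3`, for all configurations.

* `exists_twoTwo_of_mem` : every member is the first member of a configuration;
* `PT_eq_of_notMem` : the only piece of `C(zz K₁) / O(C(zz K₁))` which is not a member is the one over `K₃`;
* `inOm` : `ExMain.In Om`; `exists_ex` : `ExOut.EX Om p F`.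
-/

set_option autoImplicit false
set_option linter.style.haveILetI false
set_option linter.unusedSectionVars false

namespace Cfsg.Agent.Cit.Four

open Subgroup Cfsg Cfsg.Agent.Cit SubCent UseT CoresG CoresCore CloGraph PieceG FamFb ExMain
open Cfsg.Agent.Cit.TypeDet (cm cm_symm cm_iff_le_centralizer TyPc)
open scoped commutatorElement

universe u

/-- the pieces at `z` are of chart type -/
def Ch {G : Type*} [Group G] (Om : Set (Subgroup G)) : Prop :=
  ∀ (S : Sylow 2 G) (K₁ K₂ K₃ K₄ : Subgroup G), TwoTwo Om (S : Subgroup G) K₁ K₂ K₃ K₄ →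
    ∃ τ, (τ = .C 2 ∨ τ = .A 3 ∨ τ = .B 3) ∧
      PieceTy (fb Om (centralizer {zz K₁})) (PT Om (centralizer {zz K₁}) K₃) τ

variable {G : Type u} [Group G] [Finite G] {Om : Set (Subgroup G)} {K₁ K₂ K₃ K₄ : Subgroup G}

/-- every member is the first member of a configuration -/
theorem exists_twoTwo_of_mem (h : Hyp Om) {S₀ : Sylow 2 G} (t₀ : TwoTwo Om (S₀ : Subgroup G) K₁ K₂ K₃ K₄)
    {N : Subgroup G} (hN : N ∈ Om) :
    ∃ (S : Sylow 2 G) (L₂ L₃ L₄ : Subgroup G), TwoTwo Om (S : Subgroup G) N L₂ L₃ L₄ := by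
  obtain ⟨S, hS, -⟩ := h.exists_sylow hN
  obtain ⟨L₁, L₂, L₃, L₄, t⟩ := t₀.exists_of h S
  rcases t.cases hS with rfl | rfl | rfl | rfl
  · exact ⟨S, _, _, _, t⟩
  · exact ⟨S, _, _, _, t.swap12⟩
  · exact ⟨S, _, _, _, t.swap⟩
  · exact ⟨S, _, _, _, t.swap.swap12⟩

/-- twins are in the same piece unless they are pieces -/
theorem PT_eq_of_zz_eq {H K L : Subgroup G} (C : CorG Om H) (hK : K ∈ Om) (hL : L ∈ Om) (hKH : K ≤ H)
    (hLH : L ≤ H) (hz : zz K = zz L) (hne : PT Om H K ∉ fb Om H) : PT Om H L = PT Om H K := by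
  by_contra hcon
  apply hne
  have h := C.hyp
  have h3 : pc (fb Om H) (bar H K) = bar H K := by
    refine not_central (fb_hyp h H) C.pcs.core (bar_mem hK hKH) fun x hx => ?_
    have h4 : zz (bar H K) = zz (bar H L) := by
      rw [TypeDet.LocalBar.zz_bar h hK hKH, TypeDet.LocalBar.zz_bar h hL hLH]
      congr 1
      exact Subtype.ext hz
    rw [h4]
    exact (cm_pc (bar_mem hL hLH) (bar_mem hK hKH) hcon _ ((fb_hyp h H).zz_mem (bar_mem hL hLH)) x hx).symm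
  change pc (fb Om H) (bar H K) ∈ fb Om H
  rw [h3]
  exact bar_mem hK hKH

/-- the piece over `K₃` -/
theorem PT_eq_of_notMem (hm : MinS Om) (hodd : OddStmt.{u}) (hE : ∀ S : Sylow 2 G, CorB Om (S : Subgroup G))
    {S : Sylow 2 G} (t : TwoTwo Om (S : Subgroup G) K₁ K₂ K₃ K₄) {K : Subgroup G} (hK : K ∈ Om)
    (hK1 : K ≤ centralizer {zz K₁}) (hne : PT Om (centralizer {zz K₁}) K ∉ fb Om (centralizer {zz K₁})) :
    PT Om (centralizer {zz K₁}) K = PT Om (centralizer {zz K₁}) K₃ := by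
  have h := hm.hyp
  have b := hm.lb_of_corB hodd hE
  have C : CorG Om (centralizer {zz K₁}) := b.cor K₁ t.mem1.1
  have hle := ((hE S).corG hm S (zz K₁) (zz_mem_ES t.mem1) (h.zz_ne t.mem1.1)).1
  obtain ⟨L, hL, hLH, h1⟩ := CorOf.exists_frame_piece h S (h.DD_le_centralizer S.isPGroup' t.mem1) hK hK1
  rw [← h1] at hne ⊢
  rcases t.cases hL with rfl | rfl | rfl | rfl
  · exfalso
    apply hne
    have h2 : PT Om (centralizer {zz L}) L = bar (centralizer {zz L}) L := b.PT_self hL.1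
    rw [h2]
    exact bar_mem hL.1 hLH
  · exfalso
    apply hne
    have h2 : PT Om (centralizer {zz L}) L = bar (centralizer {zz L}) L := b.PT_self hL.1
    rw [t.z12]
    rw [h2]
    exact bar_mem hL.1 (h.le_centralizer hL.1)
  · rfl
  · exact (PT_eq_of_zz_eq C hL.1 t.mem3.1 hLH (hle K₃ t.mem3) t.z34.symm hne).symm

/-- **the input of THEOREM (EX)** -/
theorem inOm (hm : MinS Om) (hodd : OddStmt.{u}) (hcl : CloseE Om) (hE : ∀ S : Sylow 2 G, CorB Om (S : Subgroup G))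
    {S : Sylow 2 G} (t : TwoTwo Om (S : Subgroup G) K₁ K₂ K₃ K₄) (hch : Ch Om) : In Om where
  toLB := hm.lb_of_corB hodd hE
  ne := hm.ne
  one := fun K hK L hL => by
    obtain ⟨g, hg⟩ := hm.cls K hK L hL
    exact ⟨g, hg.symm⟩
  conn := conn hm hodd hcl hE t
  ch := by
    intro N hN K hK hKN hne
    obtain ⟨S', L₂, L₃, L₄, t'⟩ := exists_twoTwo_of_mem hm.hyp t hN
    obtain ⟨τ, -, hp⟩ := hch S' N L₂ L₃ L₄ t'
    rw [PT_eq_of_notMem hm hodd hE t' hK hKN hne]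
    obtain ⟨p, c, -, -, ⟨F, h1, h2, h3, h4⟩, -⟩ := hp.chart
    exact ⟨p, c, F, h1, h2, h3, h4⟩
  solv := fun X hX => hodd X hX

/-- **(EX)** -/
theorem exists_ex (hm : MinS Om) (hodd : OddStmt.{u}) (hcl : CloseE Om)
    (hE : ∀ S : Sylow 2 G, CorB Om (S : Subgroup G)) {S : Sylow 2 G}
    (t : TwoTwo Om (S : Subgroup G) K₁ K₂ K₃ K₄) (hch : Ch Om) :
    ∃ (p : ℕ) (F : Type) (_ : Field F) (_ : Fintype F), ExOut.EX Om p F := by
  haveI := hm.simple
  exact ExOut.exists_ex (inOm hm hodd hcl hE t hch)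

/-- the piece over `K₃` is typed in the sense of `TyPcE` -/
theorem Ch.tyPcE (hch : Ch Om) {S : Sylow 2 G} (t : TwoTwo Om (S : Subgroup G) K₁ K₂ K₃ K₄) :
    ∃ τ, (τ = .C 2 ∨ τ = .A 3 ∨ τ = .B 3) ∧
      ExactChart.TyPcE (fb Om (centralizer {zz K₁})) τ (PT Om (centralizer {zz K₁}) K₃) := by
  obtain ⟨τ, hτ, hp⟩ := hch S _ _ _ _ t
  refine ⟨τ, hτ, hp.nmem, hp.qs, ?_, hp.chart⟩
  rcases hτ with rfl | rfl | rfl
  · exact (by decide : (1 : ℕ) ≤ 2)
  · exact (by decide : (2 : ℕ) ≤ 3)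
  · exact (by decide : (3 : ℕ) ≤ 3)

end Cfsg.Agent.Cit.Four
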