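import Cfsg.Agent.Cit.Four.GoodE
import Cfsg.Agent.Cit.BDOut

/-!
# `n = 4`, `τ = 2` : identification if the pieces at `z` are of type `C 2`, `A 3`, `B 3` (project CIT)

* `FourX.typed_e` : the piece of `J 0` at `e` is a member or is of type `D 4` and contains all `J i`;
* `fourX_fbC` : the structure `FourX` for `fb Om C(b)`, `b ∈ E(S)`;
* `TwoTwo.arrange` : the configuration `K₁, K₂, J, J'` for a Sylow subgroup containing Sylow subgroups of `K₁, K₂, J`;
* `tw` : `Tw Om K₁ K₂ E`, `E` the piece of `K₃` in `C(z)`;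
* `exists_local` : the piece of `K₁` in `C(z z_J)`, `J ≤ E`;
* `hasPieces_of_ex` : `HasPieces Om` from (EX); `identCh` : `HasPieces Om` from `Ch Om`.
-/

set_option autoImplicit false
set_option linter.style.haveILetI false
set_option linter.unusedSectionVars false
set_option linter.dupNamespace false

namespace Cfsg.Agent.Cit.Four

open Subgroup Cfsg Cfsg.Agent.Cit SubCent UseT CoresG CoresCore PieceG FamFb
open Cfsg.Agent.Cit.TypeDet (cm cm_symm cm_mono cm_iff_le_centralizer TyPc chn)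
open Cfsg.Agent.Cit.BDTwin (Tw Amb)
open Cfsg.Agent.Nodes.Chart

universe u

/-! ### In a group with pieces -/

section X

variable {X : Type*} [Group X] [Finite X] {F : Set (Subgroup X)} {J : Fin 4 → Subgroup X}

/-- **the piece at `e`** -/
theorem FourX.typed_e (T : FourX F J) (hz : ∀ x : X, x * (zz (J 0) * zz (J 2)) = zz (J 0) * zz (J 2) * x)
    (h0 : pc F (J 0) ≠ J 0) : TyPc F (.D 4) (pc F (J 0)) := by
  have h1 : pc F (J 1) = pc F (J 0) := T.pc_eq_of_zz T.z01 h0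
  have hnz : ¬ ∀ x ∈ pc F (J 0), x * zz (J 0) = zz (J 0) * x := fun h4 =>
    h0 (not_central T.hyp T.core (T.mem 0) h4)
  have hnz2 : ¬ ∀ x ∈ pc F (J 0), x * zz (J 2) = zz (J 2) * x := by
    intro h4
    apply hnz
    intro x hx
    have h5 := hz x
    have h6 := h4 x hx
    have h7 : x * zz (J 0) * zz (J 2) = zz (J 0) * x * zz (J 2) := by
      rw [mul_assoc, h5, mul_assoc, ← h6, mul_assoc]
    exact mul_right_cancel h7
  have hin : ∀ i, zz (J 2) = zz (J i) → pc F (J i) = pc F (J 0) := by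
    intro i hi
    by_contra hne
    apply hnz2
    intro x hx
    rw [hi]
    exact (cm_pc (T.mem i) (T.mem 0) hne (zz (J i)) (T.hyp.zz_mem (T.mem i)) x hx).symm
  have h2 : pc F (J 2) = pc F (J 0) := hin 2 rfl
  have h3 : pc F (J 3) = pc F (J 0) := hin 3 T.z23
  have hle : ∀ i, J i ≤ pc F (J 0) := by
    intro i
    fin_cases i
    · exact le_pc
    · exact le_pc.trans h1.le
    · exact le_pc.trans h2.le
    · exact le_pc.trans h3.le
  obtain ⟨τ, hτ⟩ := TypeDet.typed_of_three T.hyp (T.pieces.piece T.hyp (T.mem 0)) (T.mem 0) (T.mem 1) (T.mem 2)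
    (hle 0) (hle 1) (hle 2) (T.comm 0 1 (by decide)) (T.comm 0 2 (by decide)) (T.comm 1 2 (by decide))
  obtain ⟨nmem, qs, two, -, p, c, -, small, sl, -⟩ := hτ
  obtain ⟨h4, h5⟩ := FourTypes.isTy_D_four T.hyp c (F := J) (fun i => ⟨T.mem i, hle i⟩) T.comm T.z01 T.z23
    (fun x _ => hz x)
  exact ⟨nmem, qs, two, (by decide : (4 : ℕ) ≤ 4), p, c, h4, small, sl, Or.inl h5⟩

end X

/-! ### The configuration -/

section Conf

variable {G : Type*} [Group G] [Finite G] {Om : Set (Subgroup G)} {S K₁ K₂ K₃ K₄ : Subgroup G}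

namespace TwoTwo

theorem swap34 (t : TwoTwo Om S K₁ K₂ K₃ K₄) : TwoTwo Om S K₁ K₂ K₄ K₃ := t.swap.swap12.swap

/-- the first member may be chosen -/
theorem arr1 (t : TwoTwo Om S K₁ K₂ K₃ K₄) {K : Subgroup G} (hK : K ∈ OmS Om S) :
    ∃ L₂ L₃ L₄, TwoTwo Om S K L₂ L₃ L₄ := by
  rcases t.cases hK with rfl | rfl | rfl | rfl
  · exact ⟨_, _, _, t⟩
  · exact ⟨_, _, _, t.swap12⟩
  · exact ⟨_, _, _, t.swap⟩
  · exact ⟨_, _, _, t.swap.swap12⟩

/-- **the configuration with given `K`, `K'`, `J`** -/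
theorem arrange (t : TwoTwo Om S K₁ K₂ K₃ K₄) {K K' J : Subgroup G} (hK : K ∈ OmS Om S) (hK' : K' ∈ OmS Om S)
    (hJ : J ∈ OmS Om S) (hne : K' ≠ K) (hz : zz K' = zz K) (h1 : J ≠ K) (h2 : J ≠ K') :
    ∃ J', TwoTwo Om S K K' J J' := by
  obtain ⟨L₂, L₃, L₄, t⟩ := t.arr1 hK
  have e2 : K' = L₂ := by
    rcases t.cases hK' with h | h | h | h
    · exact absurd h hne
    · exact h
    · exact absurd (hz.symm.trans (by rw [h])) t.ne
    · exact absurd (hz.symm.trans (by rw [h, t.z34])) t.ne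
  subst e2
  rcases t.cases hJ with h | h | h | h
  · exact absurd h h1
  · exact absurd h h2
  · subst h
    exact ⟨_, t⟩
  · subst h
    exact ⟨_, t.swap34⟩

end TwoTwo

end Conf

section World

variable {G : Type u} [Group G] [Finite G] {Om : Set (Subgroup G)} {K₁ K₂ K₃ K₄ : Subgroup G}

/-- the structure `FourX` for `fb Om C(b)` -/
theorem fourX_fbC (hm : MinS Om) (hodd : OddStmt.{u}) (hE : ∀ S : Sylow 2 G, CorB Om (S : Subgroup G))
    {S : Sylow 2 G} (t : TwoTwo Om (S : Subgroup G) K₁ K₂ K₃ K₄) {b : G} (hb : b ∈ ES Om (S : Subgroup G))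
    (hb1 : b ≠ 1) (hD : DD Om (S : Subgroup G) ≤ centralizer {b}) :
    FourX (fb Om (centralizer {b})) ![bar (centralizer {b}) K₁, bar (centralizer {b}) K₂,
      bar (centralizer {b}) K₃, bar (centralizer {b}) K₄] := by
  have h1 := fourX hm t hb hb1 hD
  have h2 := ((hE S).corG hm S b hb hb1).1
  rw [fam_eq_fb hm.ty (hm.core_of_corB hodd hE), tr_eq_bar (hm.ty K₁ t.mem1.1) (h2 K₁ t.mem1),
    tr_eq_bar (hm.ty K₂ t.mem2.1) (h2 K₂ t.mem2), tr_eq_bar (hm.ty K₃ t.mem3.1) (h2 K₃ t.mem3),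
    tr_eq_bar (hm.ty K₄ t.mem4.1) (h2 K₄ t.mem4)] at h1
  exact h1

theorem lem_of_lb' (b : ExLocal.LB Om) : TypeDet.Lem Om := fun _ hX _ hK h =>
  b.eq_or_cm hK hX fun x hx => mem_centralizer_singleton_iff.2 (h x hx)

/-- a member whose image is a piece commutes with the other members -/
theorem eq_or_cm_of_single {H K : Subgroup G} (C : CorG Om H) (hO : ∀ J ∈ Om, OO J = ⊥) (hK : K ∈ Om) (hKH : K ≤ H)
    (hs : pc (fb Om H) (bar H K) = bar H K) {M : Subgroup G} (hM : M ∈ Om) (hMH : M ≤ H) : M = K ∨ cm M K := by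
  rcases TypeDet.LocalBar.le_or_cm (bar_mem hK hKH) (bar_mem hM hMH) with h1 | h1
  · left
    rw [hs] at h1
    exact eq_of_bar_eq C hM hK hMH hKH ((fb_hyp C.hyp H).eq_of_le (bar_mem hM hMH) (bar_mem hK hKH) h1)
  · right
    rw [hs] at h1
    exact (TypeDet.LocalBar.cm_bar_iff C hO hM hK hMH hKH).1 h1

/-- a member which is a single piece of `C(u)` -/
theorem piece_single {u : G} {K : Subgroup G} (C : CorG Om (centralizer {u})) (hO : ∀ J ∈ Om, OO J = ⊥) (hK : K ∈ Om)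
    (hKH : K ≤ centralizer {u})
    (hs : pc (fb Om (centralizer {u})) (bar (centralizer {u}) K) = bar (centralizer {u}) K) :
    FrameOf.Piece Om u K where
  le a ha := mem_centralizer_singleton_iff.1 (hKH ha)
  norm g hg := by
    have hg' : g ∈ centralizer {u} := mem_centralizer_singleton_iff.2 hg
    have h1 : cj g K ≤ centralizer {u} := by
      have h2 := cj_mono g hKH
      rw [cj_centralizer] at h2
      have h3 : g * u * g⁻¹ = u := by rw [hg, mul_inv_cancel_right]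
      rwa [h3] at h2
    rcases eq_or_cm_of_single C hO hK hKH hs (C.hyp.conj K hK g) h1 with h2 | h2
    · exact Or.inl h2
    · exact Or.inr (cm_symm h2)
  mem J hJ hc := by
    have h1 : J ≤ centralizer {u} := fun a ha => mem_centralizer_singleton_iff.2 (hc a ha)
    rcases eq_or_cm_of_single C hO hK hKH hs hJ h1 with h2 | h2
    · exact Or.inl h2.le
    · exact Or.inr (cm_symm h2)

/-- five commuting members do not exist -/
theorem false_of_five (h : Hyp Om) {S : Sylow 2 G} (t : TwoTwo Om (S : Subgroup G) K₁ K₂ K₃ K₄)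
    (c12 : cm K₁ K₂) (c13 : cm K₁ K₃) (c14 : cm K₁ K₄) (c23 : cm K₂ K₃) (c24 : cm K₂ K₄) (c34 : cm K₃ K₄)
    {L : Subgroup G} (hL : L ∈ Om) (h1 : cm L K₁) (h2 : cm L K₂) (h3 : cm L K₃) (h4 : cm L K₄) : False := by
  have hns : ∀ K ∈ Om, ¬ cm K K := fun K hK => not_cm_self h hK
  obtain ⟨T, hT⟩ := TypeDet.exists_sylow_of_comm (Om := Om) (C := {K₁, K₂, K₃, K₄, L}) (by
    rintro K (rfl | rfl | rfl | rfl | rfl)
    · exact t.mem1.1
    · exact t.mem2.1
    · exact t.mem3.1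
    · exact t.mem4.1
    · exact hL) (by
    rintro K (rfl | rfl | rfl | rfl | rfl) M (rfl | rfl | rfl | rfl | rfl) hne <;>
      first | exact absurd rfl hne | assumption | (apply cm_symm; assumption))
  have h5 := t.card h T
  have h6 := Set.ncard_le_ncard hT (Set.toFinite _)
  have h7 : L ∉ ({K₁, K₂, K₃, K₄} : Set (Subgroup G)) := by
    rintro (rfl | rfl | rfl | rfl)
    · exact hns _ hL h1
    · exact hns _ hL h2
    · exact hns _ hL h3
    · exact hns _ hL h4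
  have h8 : ({K₁, K₂, K₃, K₄, L} : Set (Subgroup G)) = insert L {K₁, K₂, K₃, K₄} := by
    ext x
    simp only [Set.mem_insert_iff, Set.mem_singleton_iff]
    tauto
  rw [h8, Set.ncard_insert_of_notMem h7 (Set.toFinite _)] at h6
  have h9 : ({K₁, K₂, K₃, K₄} : Set (Subgroup G)).ncard = 4 := by
    rw [← t.eq]
    exact t.ncard
  rw [h9] at h6
  omega

/-! ### The twins -/

/-- **`Tw Om K₁ K₂ E`** -/
theorem tw (hm : MinS Om) (hodd : OddStmt.{u}) (hE : ∀ S : Sylow 2 G, CorB Om (S : Subgroup G))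
    {S : Sylow 2 G} (t : TwoTwo Om (S : Subgroup G) K₁ K₂ K₃ K₄)
    (h34 : bar (centralizer {zz K₁}) K₄ ≤ PT Om (centralizer {zz K₁}) K₃) :
    Tw Om K₁ K₂ (TypeDet.piece (TypeDet.OmIn Om (centralizer {zz K₁})) K₃) := by
  have h := hm.hyp
  have hO := hm.core_of_corB hodd hE
  have b := hm.lb_of_corB hodd hE
  have lem : TypeDet.Lem Om := lem_of_lb' b
  have hS := S.isPGroup'
  have cc : ∀ {K L : Subgroup G}, K ∈ OmS Om (S : Subgroup G) → L ∈ OmS Om (S : Subgroup G) → K ≠ L → cm K L :=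
    fun hK hL hne => cm_iff_le_centralizer.2 (hm.comm_of_corB hodd hE hS hK hL hne)
  have c12 := cc t.mem1 t.mem2 t.ne12
  have c13 := cc t.mem1 t.mem3 t.ne13
  have c14 := cc t.mem1 t.mem4 t.ne14
  have c23 := cc t.mem2 t.mem3 t.ne23
  have c24 := cc t.mem2 t.mem4 t.ne24
  have c34 := cc t.mem3 t.mem4 t.ne34
  set H := centralizer ({zz K₁} : Set G) with hH
  have hH2 : H = centralizer {zz K₂} := by rw [hH, t.z12]
  have C : CorG Om H := b.cor K₁ t.mem1.1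
  have leH : ∀ {L : Subgroup G}, cm L K₁ → L ≤ H := fun h1 => b.le_of_cm t.mem1.1 h1
  have m3 : K₃ ∈ TypeDet.OmIn Om H := ⟨t.mem3.1, leH (cm_symm c13)⟩
  have m4 : K₄ ∈ TypeDet.OmIn Om H := ⟨t.mem4.1, leH (cm_symm c14)⟩
  have h34' : chn (TypeDet.OmIn Om H) K₃ K₄ := (TypeDet.LocalBar.chn_iff_le_PT C hO m3 m4).2 h34
  -- the piece commutes with `K₁` and `K₂`
  have cE : ∀ {K : Subgroup G}, K ∈ Om → H = centralizer {zz K} → K ≠ K₃ →
      cm K (TypeDet.piece (TypeDet.OmIn Om H) K₃) := by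
    intro K hK hHK hne
    refine cm_symm (TypeDet.cm_sSup ?_)
    rintro M ⟨hM, hc⟩
    refine (lem.or hK (by rw [← hHK]; exact hM)).resolve_left ?_
    rintro rfl
    rw [hHK] at hc
    exact hne (lem.single hK (TypeDet.chn_symm hc)).symm
  -- members commuting with `K₁`, `K₂`
  have key : ∀ L ∈ Om, cm L K₁ → L = K₂ ∨ L ≤ TypeDet.piece (TypeDet.OmIn Om H) K₃ := by
    intro L hL h1
    have mL : L ∈ TypeDet.OmIn Om H := ⟨hL, leH h1⟩
    by_cases hc : chn (TypeDet.OmIn Om H) K₃ L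
    · exact Or.inr (TypeDet.le_piece mL hc)
    · left
      by_contra hne
      have h2 : cm L K₂ := (lem.or t.mem2.1 (by rw [← hH2]; exact mL)).resolve_left hne
      have h3 : cm L K₃ := cm_symm (TypeDet.cm_of_not_chn m3 mL .refl .refl hc)
      have h4 : cm L K₄ := cm_symm (TypeDet.cm_of_not_chn m4 mL h34' .refl hc)
      exact false_of_five h t c12 c13 c14 c23 c24 c34 hL h1 h2 h3 h4
  refine ⟨t.mem1.1, t.mem2.1, c12, cE t.mem1.1 hH t.ne13, cE t.mem2.1 hH2 t.ne23, key, ?_⟩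
  intro L hL h2
  have h1 : cm L K₁ ∨ L = K₁ := by
    have h3 : L ∈ TypeDet.OmIn Om H := ⟨hL, by rw [hH2]; exact b.le_of_cm t.mem2.1 h2⟩
    exact (lem.or t.mem1.1 h3).symm
  rcases h1 with h1 | h1
  · rcases key L hL h1 with h3 | h3
    · exfalso
      rw [h3] at h2
      exact not_cm_self h t.mem2.1 h2
    · exact Or.inr h3
  · exact Or.inl h1

/-! ### The local pieces -/

/-- **the piece of `K₁` in `C(z_{K₁} z_J)`** -/
theorem exists_local (hm : MinS Om) (hodd : OddStmt.{u}) (hE : ∀ S : Sylow 2 G, CorB Om (S : Subgroup G))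
    {S : Sylow 2 G} (t : TwoTwo Om (S : Subgroup G) K₁ K₂ K₃ K₄) {p : ℕ} {F : Type*} [Field F] [Fintype F]
    (x : ExOut.EX Om p F) {J : Subgroup G} (hJ : J ∈ Om) (h1 : cm J K₁) (h2 : cm J K₂) :
    ∃ L, K₁ ≤ L ∧ FrameOf.Piece Om (zz K₁ * zz J) L ∧
      ((∃ M₁ ∈ Om, ∃ M₂ ∈ Om, ∃ M₃ ∈ Om, M₁ ≤ L ∧ M₂ ≤ L ∧ M₃ ≤ L ∧ cm M₁ M₂ ∧ cm M₁ M₃ ∧ cm M₂ M₃) →
        Nonempty (Chart Om p L)) := by
  have h := hm.hyp
  have hO := hm.core_of_corB hodd hE
  have b := hm.lb_of_corB hodd hE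
  have hns : ∀ K ∈ Om, ¬ cm K K := fun K hK => not_cm_self h hK
  have c12 : cm K₁ K₂ := cm_iff_le_centralizer.2 (hm.comm_of_corB hodd hE S.isPGroup' t.mem1 t.mem2 t.ne12)
  -- the frame
  obtain ⟨T, hT⟩ := TypeDet.exists_sylow_of_comm (Om := Om) (C := {K₁, K₂, J}) (by
    rintro K (rfl | rfl | rfl)
    · exact t.mem1.1
    · exact t.mem2.1
    · exact hJ) (by
    rintro K (rfl | rfl | rfl) M (rfl | rfl | rfl) hne <;>
      first | exact absurd rfl hne | assumption | (apply cm_symm; assumption))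
  have hTp := T.isPGroup'
  have m1 : K₁ ∈ OmS Om (T : Subgroup G) := hT (Or.inl rfl)
  have m2 : K₂ ∈ OmS Om (T : Subgroup G) := hT (Or.inr (Or.inl rfl))
  have mJ : J ∈ OmS Om (T : Subgroup G) := hT (Or.inr (Or.inr rfl))
  obtain ⟨L₁, L₂, L₃, L₄, tT⟩ := t.exists_of h T
  obtain ⟨J', t'⟩ := tT.arrange m1 m2 mJ t.ne12.symm t.z12.symm (fun e => hns _ hJ (by rw [e] at h1 ⊢; exact h1))
    (fun e => hns _ hJ (by rw [e] at h2 ⊢; exact h2))
  have he : zz K₁ * zz J ∈ ES Om (T : Subgroup G) := mul_mem (zz_mem_ES m1) (zz_mem_ES mJ)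
  obtain ⟨hle, C⟩ := (hE T).corG hm T _ he (t'.mul_ne h)
  have X := fourX_fbC hm hodd hE t' he (t'.mul_ne h) (DD_le.trans (t'.le_centralizer h hTp))
  set H := centralizer ({zz K₁ * zz J} : Set G) with hH
  have hKH : K₁ ≤ H := hle K₁ m1
  by_cases h0 : pc (fb Om H) (bar H K₁) = bar H K₁
  · refine ⟨K₁, le_rfl, piece_single C hO m1.1 hKH h0, ?_⟩
    rintro ⟨M₁, hM₁, M₂, hM₂, -, -, l1, l2, -, a12, -, -⟩
    exfalso
    rw [h.eq_of_le hM₁ m1.1 l1, h.eq_of_le hM₂ m1.1 l2] at a12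
    exact hns _ m1.1 a12
  · have hty : TyPc (fb Om H) (.D 4) (PT Om H K₁) := by
      refine X.typed_e (fun y => ?_) h0
      obtain ⟨w, rfl⟩ := qm_surjective _ y
      change qm H w * (zz (bar H K₁) * zz (bar H J)) = zz (bar H K₁) * zz (bar H J) * qm H w
      rw [TypeDet.LocalBar.zz_bar h m1.1 hKH, TypeDet.LocalBar.zz_bar h hJ (hle J mJ), ← map_mul, ← map_mul,
        ← map_mul]
      congr 1
      exact Subtype.ext (mem_centralizer_singleton_iff.1 w.2)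
    have hE' := (⟨hty.1, hty.2.1, hty.2.2.2⟩ : ExactChart.TyPcE (fb Om H) (.D 4) (PT Om H K₁))
    obtain ⟨-, -, h3, c, -⟩ := x.tyPcE C m1.1 hKH hE' (Or.inr (by simp))
    exact ⟨_, h3 K₁ m1.1 hKH bar_le_PT, x.piece C m1.1 hKH hE' (Or.inr (by simp)), fun _ => ⟨c⟩⟩

/-! ### The identification -/

/-- **`HasPieces Om`** from (EX) -/
theorem hasPieces_of_ex (hm : MinS Om) (hodd : OddStmt.{u}) (hcl : CloseE Om)
    (hE : ∀ S : Sylow 2 G, CorB Om (S : Subgroup G)) {S : Sylow 2 G}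
    (t : TwoTwo Om (S : Subgroup G) K₁ K₂ K₃ K₄) {p : ℕ} {F : Type} [Field F] [Fintype F] (x : ExOut.EX Om p F)
    (h34 : bar (centralizer {zz K₁}) K₄ ≤ PT Om (centralizer {zz K₁}) K₃) {τ : Nodes.Chart.Ty}
    (hτ : τ = .C 2 ∨ τ = .A 3 ∨ τ = .B 3)
    (hD : PieceTy (fb Om (centralizer {zz K₁})) (PT Om (centralizer {zz K₁}) K₃) τ) : HasPieces Om := by
  have h := hm.hyp
  have hO := hm.core_of_corB hodd hE
  have b := hm.lb_of_corB hodd hE
  haveI := x.char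
  have ok : KindOk τ := by
    rcases hτ with rfl | rfl | rfl
    · exact (by decide : (1 : ℕ) ≤ 2)
    · exact (by decide : (2 : ℕ) ≤ 3)
    · exact (by decide : (3 : ℕ) ≤ 3)
  have cc : ∀ {K L : Subgroup G}, K ∈ OmS Om (S : Subgroup G) → L ∈ OmS Om (S : Subgroup G) → K ≠ L → cm K L :=
    fun hK hL hne => cm_iff_le_centralizer.2 (hm.comm_of_corB hodd hE S.isPGroup' hK hL hne)
  have T := tw hm hodd hE t h34
  set H := centralizer ({zz K₁} : Set G) with hH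
  have C : CorG Om H := b.cor K₁ t.mem1.1
  have hK3 : K₃ ≤ H := b.le_of_cm t.mem1.1 (cc t.mem3 t.mem1 t.ne13.symm)
  have hK4 : K₄ ≤ H := b.le_of_cm t.mem1.1 (cc t.mem4 t.mem1 t.ne14.symm)
  obtain ⟨nmem, qs, two, q, c', h1, h2, h3, h4⟩ := hD
  have hE' : ExactChart.TyPcE (fb Om H) τ (PT Om H K₃) := ⟨nmem, qs, ok, q, c', h1, h2, h3, h4⟩
  have hne : τ ≠ .C 1 := by
    rcases hτ with rfl | rfl | rfl <;> simp
  obtain ⟨-, -, h5, c, hc, zx⟩ := x.tyPcE C t.mem3.1 hK3 hE' (Or.inr hne)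
  have l3 := h5 K₃ t.mem3.1 hK3 bar_le_PT
  have l4 := h5 K₄ t.mem4.1 hK4 h34
  obtain ⟨c₁, hc₁, -⟩ := FourTypes.types h c hc ok zx t.mem3.1 t.mem4.1 l3 l4 (cc t.mem3 t.mem4 t.ne34) t.z34
    (fun L hL hLE a3 a4 => false_of_five h t (cc t.mem1 t.mem2 t.ne12) (cc t.mem1 t.mem3 t.ne13)
      (cc t.mem1 t.mem4 t.ne14) (cc t.mem2 t.mem3 t.ne23) (cc t.mem2 t.mem4 t.ne24) (cc t.mem3 t.mem4 t.ne34) hL
      (cm_symm (cm_mono le_rfl hLE T.cm_E)) (cm_symm (cm_mono le_rfl hLE T.cm_E')) a3 a4)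
  have I : BDFinal.Inp Om p F K₁ K₂ (TypeDet.piece (TypeDet.OmIn Om H) K₃) := by
    refine ⟨BDOut.amb_of_lem h hm.cls (lem_of_lb' b), T, x.sl, fun J hJ hJE => ?_, ⟨S, fun M hM => ?_⟩,
      (BDOut.close_of_conn (conn hm hodd hcl hE t)).weak⟩
    · exact exists_local hm hodd hE t x hJ (cm_symm (cm_mono le_rfl hJE T.cm_E))
        (cm_symm (cm_mono le_rfl hJE T.cm_E'))
    · by_cases e : M = K₁
      · exact Or.inl e
      · exact Or.inr (cc hM t.mem1 e)
  rcases hc₁ with h6 | h6 | h6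
  · exact BDOut.hasPieces hm hO I c₁ (n := 2) (Or.inl ⟨le_rfl, h6⟩) (Or.inl t.z12)
  · exact BDOut.hasPieces hm hO I c₁ (n := 3) (Or.inl ⟨by omega, h6⟩) (Or.inl t.z12)
  · exact BDOut.hasPieces hm hO I c₁ (n := 3) (Or.inr ⟨le_rfl, h6⟩) (Or.inl t.z12)

/-- **Identification** if the pieces at `z` are of type `C 2`, `A 3`, `B 3` -/
theorem identCh (hodd : OddStmt.{u}) (hm : MinS Om) (hcl : CloseE Om)
    (hE : ∀ S : Sylow 2 G, CorB Om (S : Subgroup G)) {S : Sylow 2 G}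
    (t : TwoTwo Om (S : Subgroup G) K₁ K₂ K₃ K₄) (hch : Ch Om) : HasPieces Om := by
  obtain ⟨p, F, _, _, x⟩ := exists_ex hm hodd hcl hE t hch
  obtain ⟨τ, hτ, hD⟩ := hch S K₁ K₂ K₃ K₄ t
  have b := hm.lb_of_corB hodd hE
  have C : CorG Om (centralizer {zz K₁}) := b.cor K₁ t.mem1.1
  have hle := ((hE S).corG hm S (zz K₁) (zz_mem_ES t.mem1) (hm.hyp.zz_ne t.mem1.1)).1
  have h1 := PT_eq_of_zz_eq C t.mem3.1 t.mem4.1 (hle K₃ t.mem3) (hle K₄ t.mem4) t.z34 hD.nmem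
  refine hasPieces_of_ex hm hodd hcl hE t x ?_ hτ hD
  rw [← h1]
  exact bar_le_PT

end World

end Cfsg.Agent.Cit.Four
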