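import Cfsg.Agent.Cit.Four.TypesX
import Cfsg.Agent.Cit.EqFourMain
import Cfsg.Agent.Cit.EqCen
import Cfsg.Agent.Cit.GoodOf
import Cfsg.Agent.Cit.CoresH
import Cfsg.Agent.Cit.Parab

/-!
# `n = 4`, `τ = 2` : the products `v₁v₂v₃v₄` are involutions of members (mod `e`)

`X` with `FourX F J`, `e = zz (J 0) * zz (J 2)` central, `J 0` in a quasisimple group `D ∉ F`: in `X / ⟨e⟩` all
involutions of the members of `F(S)` are equal, so `EqFour` holds there.
* `FourX.eqFour` : `EqFour (img f F)` for `f : X → Y` onto with kernel `⟨e⟩`;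
* `FourX.exists_sw` : for `x i ∈ J i ⊓ S` of order four, `x₀x₁x₂x₃` or `x₀x₁x₂x₃e` is the involution of a member.
-/

set_option autoImplicit false
set_option linter.style.haveILetI false
set_option linter.unusedSectionVars false

namespace Cfsg.Agent.Cit.Four

open Subgroup Cfsg Cfsg.Agent.Cit SubCent UseT Branches Cfsg.Agent.Nodes.Chart
open Cfsg.Agent.Cit.TypeDet (cm)
open Cfsg.Agent.Cit.EqClose (EqZ EqFour)
open scoped commutatorElement

section

variable {X Y : Type*} [Group X] [Finite X] [Group Y] {F : Set (Subgroup X)} {J : Fin 4 → Subgroup X} {f : X →* Y}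

namespace FourX

variable (T : FourX F J)

include T

/-- the members of `F(S)` -/
theorem mem_range {S : Subgroup X} (hS : IsPGroup 2 S) (hJ : ∀ i, J i ∈ OmS F S) {L : Subgroup X} (hL : L ∈ OmS F S) :
    ∃ i, L = J i := by
  by_contra hcon
  push Not at hcon
  exact T.false_of_cm hL.1 fun i => TypeDet.cm_iff_le_centralizer.2
    (comm_of_core T.hyp T.core hS hL (hJ i) (hcon i))

theorem zz_cases (i : Fin 4) : zz (J i) = zz (J 0) ∨ zz (J i) = zz (J 2) := by
  fin_cases i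
  · exact Or.inl rfl
  · exact Or.inl T.z01.symm
  · exact Or.inr rfl
  · exact Or.inr T.z23.symm

/-- all members of `F(R)`, `R` a Sylow subgroup -/
theorem zz_OmS (hz : ∀ x : X, x * (zz (J 0) * zz (J 2)) = zz (J 0) * zz (J 2) * x) {S : Sylow 2 X}
    (hJ : ∀ i, J i ∈ OmS F (S : Subgroup X)) (R : Sylow 2 X) : ∃ z : X, ∀ K ∈ OmS F (R : Subgroup X),
      zz K = z ∨ zz K = z * (zz (J 0) * zz (J 2)) := by
  obtain ⟨g, hg⟩ := exists_cj_sylow S R
  refine ⟨g * zz (J 0) * g⁻¹, fun K hK => ?_⟩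
  have h1 : cj g⁻¹ K ∈ OmS F (S : Subgroup X) := by
    have h2 := cj_mem_OmS T.hyp.conj g⁻¹ hK
    rwa [← hg, cj_inv_cj] at h2
  obtain ⟨i, hi⟩ := T.mem_range S.isPGroup' hJ h1
  have h3 : zz K = g * zz (J i) * g⁻¹ := by
    rw [← hi, T.hyp.zz_cj hK.1]; group
  have h4 : zz (J 0) * zz (J 0) = 1 := T.hyp.zz_mul (T.mem 0)
  rcases T.zz_cases i with h5 | h5
  · left; rw [h3, h5]
  · right
    rw [h3, h5]
    calc g * zz (J 2) * g⁻¹ = g * (zz (J 0) * zz (J 0)) * zz (J 2) * g⁻¹ := by rw [h4]; group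
      _ = g * zz (J 0) * (zz (J 0) * zz (J 2) * g⁻¹) := by group
      _ = g * zz (J 0) * (g⁻¹ * (zz (J 0) * zz (J 2))) := by rw [hz]
      _ = _ := by group

/-- `e` is not the involution of a member -/
theorem zz_ne (hz : ∀ x : X, x * (zz (J 0) * zz (J 2)) = zz (J 0) * zz (J 2) * x) {S : Sylow 2 X}
    (hJ : ∀ i, J i ∈ OmS F (S : Subgroup X)) {K : Subgroup X} (hK : K ∈ F) : zz K ≠ zz (J 0) * zz (J 2) := by
  intro he
  obtain ⟨R, hR, -⟩ := T.hyp.exists_sylow hK
  obtain ⟨g, hg⟩ := exists_cj_sylow S R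
  have h1 : cj g⁻¹ K ∈ OmS F (S : Subgroup X) := by
    have h2 := cj_mem_OmS T.hyp.conj g⁻¹ hR
    rwa [← hg, cj_inv_cj] at h2
  obtain ⟨i, hi⟩ := T.mem_range S.isPGroup' hJ h1
  have h3 : zz (J i) = zz (J 0) * zz (J 2) := by
    rw [← hi, T.hyp.zz_cj hK, he, hz]; group
  rcases T.zz_cases i with h5 | h5
  · rw [h5] at h3
    exact T.hyp.zz_ne (T.mem 2) (mul_eq_left.1 h3.symm)
  · rw [h5] at h3
    exact T.hyp.zz_ne (T.mem 0) (mul_eq_right.1 h3.symm)

theorem ee (hz : ∀ x : X, x * (zz (J 0) * zz (J 2)) = zz (J 0) * zz (J 2) * x) :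
    zz (J 0) * zz (J 2) * (zz (J 0) * zz (J 2)) = 1 := by
  calc zz (J 0) * zz (J 2) * (zz (J 0) * zz (J 2)) = zz (J 0) * (zz (J 2) * (zz (J 0) * zz (J 2))) := by group
    _ = zz (J 0) * (zz (J 0) * zz (J 2) * zz (J 2)) := by rw [hz]
    _ = (zz (J 0) * zz (J 0)) * (zz (J 2) * zz (J 2)) := by group
    _ = 1 := by rw [T.hyp.zz_mul (T.mem 0), T.hyp.zz_mul (T.mem 2), one_mul]

/-- **`EqFour` in `X / ⟨e⟩`** -/
theorem eqFour (ty : ∀ K ∈ F, TyTwo K) (hz : ∀ x : X, x * (zz (J 0) * zz (J 2)) = zz (J 0) * zz (J 2) * x)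
    {D : Subgroup X} (qs : IsQuasisimple D) (nm : D ∉ F) (hD : J 0 ≤ D) {S : Sylow 2 X}
    (hJ : ∀ i, J i ∈ OmS F (S : Subgroup X)) (hf : Function.Surjective f)
    (hk : ∀ g, f g = 1 ↔ g = 1 ∨ g = zz (J 0) * zz (J 2)) :
    EqFour (img f F) ∧ (∀ K ∈ F, K ⊓ f.ker = ⊥) ∧ Function.Injective (fun i => (J i).map f) := by
  haveI : Fact (Nat.Prime 2) := ⟨Nat.prime_two⟩
  haveI : Finite Y := Finite.of_surjective f hf
  have h := T.hyp
  obtain ⟨e, he⟩ : ∃ e, e = zz (J 0) * zz (J 2) := ⟨_, rfl⟩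
  have ee : e * e = 1 := by rw [he]; exact T.ee hz
  have hz' : ∀ x : X, x * e = e * x := by rw [he]; exact hz
  rw [← he] at hk
  have nz : ∀ K ∈ F, zz K ≠ e := fun K hK => by rw [he]; exact T.zz_ne hz hJ hK
  have hker : f.ker ≤ center X := by
    intro x hx
    rw [mem_center_iff]
    rcases (hk x).1 hx with h1 | h1
    · intro g; rw [h1, mul_one, one_mul]
    · intro g; rw [h1]; exact hz' g
  have hinf : ∀ K ∈ F, K ⊓ f.ker = ⊥ := by
    intro K hK
    rw [eq_bot_iff]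
    rintro x ⟨hx, hx1⟩
    rcases (hk x).1 hx1 with h1 | h1
    · rw [h1]; exact one_mem _
    · by_contra h2
      rw [h1] at hx h2
      exact nz K hK (h.eq_zz hK hx ee (fun h3 => h2 (by rw [h3]; exact one_mem _))).symm
  have hp : IsPGroup 2 f.ker := by
    rintro ⟨x, hx⟩
    refine ⟨1, Subtype.ext ?_⟩
    change x ^ (2 ^ 1) = 1
    rcases (hk x).1 hx with h1 | h1
    · rw [h1, one_pow]
    · rw [h1, pow_one, pow_two, ee]
  have fe : f e = 1 := (hk e).2 (Or.inr rfl)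
  have hX : Hyp (img f F) := QuoCen.hyp_img_central h hf hker hinf
  have zmap : ∀ {K : Subgroup X}, K ∈ F → zz (K.map f) = f (zz K) := fun hK => QuoCen.zz_map_of_inf h hK (hinf _ hK)
  -- different members of `F(R)` have different images
  have hinj : ∀ {R : Subgroup X}, IsPGroup 2 R → f.ker ≤ R → Set.InjOn (fun K => K.map f) (OmS F R) := by
    intro R hR hkR K hK L hL hKL
    by_contra hne
    obtain ⟨c, v, n, hq⟩ := h.exists_gq hK.1 (syl_inf hR hK)
    apply hq.not_comm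
    have h1 : f v ∈ L.map f := by
      have h2 : K.map f = L.map f := hKL
      rw [← h2]; exact ⟨v, hq.v_mem.1, rfl⟩
    obtain ⟨l, hl, hlv⟩ := h1
    have h2 : f (l⁻¹ * v) = 1 := by rw [map_mul, map_inv, hlv, inv_mul_cancel]
    have h3 : l ∈ R := by
      have h4 : l * (l⁻¹ * v) * (l⁻¹ * v)⁻¹ ∈ R :=
        R.mul_mem (by rw [mul_inv_cancel_left]; exact hq.v_mem.2) (R.inv_mem (hkR h2))
      rwa [mul_inv_cancel_right] at h4
    have h4 : c * l = l * c := h.comm hR hK hL hne hq.c_mem ⟨hl, h3⟩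
    rcases (hk _).1 h2 with h5 | h5
    · rw [inv_mul_eq_one] at h5
      rw [← h5]; exact h4.symm
    · rw [inv_mul_eq_iff_eq_mul] at h5
      rw [h5]
      calc l * e * c = l * (c * e) := by rw [hz' c]; group
        _ = c * (l * e) := by rw [← mul_assoc, ← h4, mul_assoc]
  have hkS : ∀ R : Sylow 2 X, f.ker ≤ R := by
    intro R
    obtain ⟨R', hR'⟩ := hp.exists_le_sylow
    obtain ⟨g, hg⟩ := exists_cj_sylow R' R
    intro x hx
    rw [← hg, mem_cj]
    apply hR'
    have h1 : g⁻¹ * x * g = x := by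
      rw [mul_assoc, ← mem_center_iff.1 (hker hx) g]; group
    rw [h1]; exact hx
  have hcard : ∀ R : Sylow 2 Y, (OmS (img f F) (R : Subgroup Y)).ncard = 4 := by
    intro R
    obtain ⟨R', hR'⟩ := EqCen.exists_sylow_comap hf hp R
    rw [EqCen.OmS_img_eq, ← hR', (hinj R'.isPGroup' (hkS R')).ncard_image]
    obtain ⟨g, hg⟩ := exists_cj_sylow S R'
    rw [← hg, ncard_OmS_cj h.conj]
    have h1 : OmS F (S : Subgroup X) = Set.range J := by
      ext L
      exact ⟨fun hL => by obtain ⟨i, rfl⟩ := T.mem_range S.isPGroup' hJ hL; exact ⟨i, rfl⟩, by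
        rintro ⟨i, rfl⟩; exact hJ i⟩
    rw [h1, Set.ncard_range_of_injective T.injective, Nat.card_eq_fintype_card, Fintype.card_fin]
  have eqZ : EqZ (img f F) := by
    refine { hyp := hX, ne := ⟨_, J 0, T.mem 0, rfl⟩, ty := ?_, eqz := ?_, two := ?_ }
    · rintro _ ⟨K, hK, rfl⟩
      have h1 := ty K hK
      unfold TyTwo at h1 ⊢
      refine (Subgroup.map_mono h1).trans ?_
      rw [MonoidHom.map_closure, closure_le]
      rintro _ ⟨c, ⟨hc, ho⟩, rfl⟩
      exact Subgroup.subset_closure ⟨⟨c, hc, rfl⟩, Odd.of_dvd_nat ho (orderOf_map_dvd f c)⟩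
    · intro R K' hK' L' hL'
      obtain ⟨R', hR'⟩ := EqCen.exists_sylow_comap hf hp R
      rw [EqCen.OmS_img_eq, ← hR'] at hK' hL'
      obtain ⟨K, hK, rfl⟩ := hK'
      obtain ⟨L, hL, rfl⟩ := hL'
      obtain ⟨z, hzz⟩ := T.zz_OmS hz hJ R'
      have key : ∀ M ∈ OmS F (R' : Subgroup X), f (zz M) = f z := by
        intro M hM
        rcases hzz M hM with h1 | h1
        · rw [h1]
        · rw [h1, map_mul, ← he, fe, mul_one]
      rw [zmap hK.1, zmap hL.1, key K hK, key L hL]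
    · intro R K' hK'
      have h1 : 1 < (OmS (img f F) (R : Subgroup Y)).ncard := by rw [hcard R]; norm_num
      obtain ⟨a, ha, b, hb, hab⟩ := (Set.one_lt_ncard (Set.toFinite _)).1 h1
      by_cases h2 : a = K'
      · exact ⟨b, hb, fun e => hab (h2.trans e.symm)⟩
      · exact ⟨a, ha, h2⟩
  refine ⟨?_, hinf, fun i j hij => ?_⟩
  · obtain ⟨R⟩ : Nonempty (Sylow 2 Y) := inferInstance
    refine EqHad.eqFour eqZ (S₁ := R) (by rw [hcard R]; norm_num) ?_
    -- `z` is not isolated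
    by_contra hno
    push Not at hno
    set w := zz (J 0) with hw
    have hm0 : (J 0).map f ∈ img f F := ⟨_, T.mem 0, rfl⟩
    have hzw : zz ((J 0).map f) = f w := zmap (T.mem 0)
    obtain ⟨N, hN, hodd, hc⟩ := Parab.zstar (hX.orderOf_zz hm0) (by
      intro g hg
      by_contra hne
      have h1 := hX.zz_cj hm0 g
      refine hno _ hm0 (cj g ((J 0).map f)) (hX.conj _ hm0 g) (by rw [h1]; exact Ne.symm hne) ?_
      rw [h1]; exact hg.symm)
    have hwD : w ∈ D := hD (h.zz_mem (T.mem 0))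
    have hnc : ∃ l ∈ D, l * w ≠ w * l := by
      by_contra hcon
      push Not at hcon
      refine CoresH.zz_notMem_center h qs (T.mem 0) hD nm ?_
      rw [CoresH.mem_center_iff_coe]
      exact hcon
    have h2 : D ≤ N.comap f := by
      refine (GoodOf.gen_of_quasisimple qs hwD hnc).trans ?_
      rw [closure_le]
      rintro _ ⟨l, hl, rfl⟩
      have h3 := hc (f l)
      rw [hzw] at h3
      change f ⁅l, w⁆ ∈ N
      have h4 : f ⁅l, w⁆ = (f w * f l * (f w)⁻¹ * (f l)⁻¹)⁻¹ := by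
        rw [commutatorElement_def, map_mul, map_mul, map_mul, map_inv, map_inv]; group
      rw [h4]
      exact N.inv_mem h3
    have h3 : f w ∈ N := h2 hwD
    rw [← hzw] at h3
    have h4 := Subgroup.orderOf_dvd_natCard N h3
    rw [hX.orderOf_zz hm0] at h4
    rw [Nat.odd_iff] at hodd
    omega
  · by_contra hne
    exact hne (T.injective (hinj S.isPGroup' (hkS S) (hJ i) (hJ j) hij))

/-- **(SW) modulo `e`** -/
theorem exists_sw (ty : ∀ K ∈ F, TyTwo K) (hz : ∀ x : X, x * (zz (J 0) * zz (J 2)) = zz (J 0) * zz (J 2) * x)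
    {D : Subgroup X} (qs : IsQuasisimple D) (nm : D ∉ F) (hD : J 0 ≤ D) {S : Sylow 2 X}
    (hJ : ∀ i, J i ∈ OmS F (S : Subgroup X)) {x : Fin 4 → X} (hx : ∀ i, x i ∈ J i ⊓ (S : Subgroup X))
    (hx4 : ∀ i, orderOf (x i) = 4) :
    ∃ L ∈ F, zz L = x 0 * x 1 * x 2 * x 3 ∨ zz L = x 0 * x 1 * x 2 * x 3 * (zz (J 0) * zz (J 2)) := by
  have h := T.hyp
  obtain ⟨e, he⟩ : ∃ e, e = zz (J 0) * zz (J 2) := ⟨_, rfl⟩
  have ee : e * e = 1 := by rw [he]; exact T.ee hz
  have hz' : ∀ x : X, x * e = e * x := by rw [he]; exact hz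
  haveI hn : (zpowers e).Normal := by
    refine ⟨fun n hn g => ?_⟩
    obtain ⟨k, rfl⟩ := mem_zpowers_iff.1 hn
    have h1 : g * e ^ k * g⁻¹ = e ^ k := by
      rw [((show Commute g e from hz' g).zpow_right k).eq, mul_inv_cancel_right]
    rw [h1]
    exact zpow_mem (mem_zpowers e) k
  have hmem : ∀ g, g ∈ zpowers e ↔ g = 1 ∨ g = e := by
    intro g
    constructor
    · intro hg
      obtain ⟨k, rfl⟩ := mem_zpowers_iff.1 hg
      rcases Int.even_or_odd' k with ⟨m, rfl | rfl⟩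
      · left
        rw [zpow_mul, zpow_two, ee, one_zpow]
      · right
        rw [zpow_add, zpow_mul, zpow_two, ee, one_zpow, one_mul, zpow_one]
    · rintro (rfl | rfl)
      · exact one_mem _
      · exact mem_zpowers _
  set f := QuotientGroup.mk' (zpowers e) with hfdef
  have hf : Function.Surjective f := QuotientGroup.mk'_surjective _
  have hk : ∀ g, f g = 1 ↔ g = 1 ∨ g = zz (J 0) * zz (J 2) := by
    intro g
    rw [← he, ← hmem, ← MonoidHom.mem_ker, hfdef, QuotientGroup.ker_mk']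
  obtain ⟨h4, hinf, hinj⟩ := T.eqFour ty hz qs nm hD hJ hf hk
  have hzi : ∀ i, zz ((J i).map f) = f (zz (J 0)) := by
    intro i
    rw [QuoCen.zz_map_of_inf h (T.mem i) (hinf _ (T.mem i))]
    rcases T.zz_cases i with h5 | h5
    · rw [h5]
    · have h6 : zz (J 2) = zz (J 0) * e := by
        rw [he, ← mul_assoc, h.zz_mul (T.mem 0), one_mul]
      have h7 : f e = 1 := (hk e).2 (Or.inr he)
      rw [h5, h6, map_mul, h7, mul_one]
  obtain ⟨⟨L', ⟨L, hL, rfl⟩, hzL⟩, -⟩ := EqHad.exists_of_commute h4 (K := fun i => (J i).map f) (x := fun i => f (x i))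
    hinj (fun i => ⟨_, T.mem i, rfl⟩) hzi (fun i => ⟨_, (hx i).1, rfl⟩)
    (fun i => by rw [QuoCen.orderOf_map (hinf _ (T.mem i)) (hx i).1, hx4])
    (fun i j => by
      rw [← map_mul, ← map_mul]
      by_cases hij : i = j
      · rw [hij]
      · rw [h.comm S.isPGroup' (hJ i) (hJ j) (fun e => hij (T.injective e)) (hx i) (hx j)])
    (i := 0) (j := 1) (by decide)
  refine ⟨L, hL, ?_⟩
  rw [QuoCen.zz_map_of_inf h hL (hinf _ hL), ← map_mul, ← map_mul, ← map_mul] at hzL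
  have h8 : f ((x 0 * x 1 * x 2 * x 3)⁻¹ * zz L) = 1 := by
    rw [map_mul, map_inv, hzL, inv_mul_cancel]
  rcases (hk _).1 h8 with h9 | h9
  · left
    rw [inv_mul_eq_one] at h9
    exact h9.symm
  · right
    rw [inv_mul_eq_iff_eq_mul] at h9
    exact h9

end FourX

end

end Cfsg.Agent.Cit.Four
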